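import Cfsg.Agent.Lib.Signalizer.SFT.Main

/-!
# Tools for the case where only `O_2` acts (owner: helper8)
-/

set_option autoImplicit false

namespace Cfsg.Lib.FT
open Subgroup Cfsg.Lib

variable {G : Type*} [Group G]

/-- the odd part of the Fitting subgroup -/
def h2Odd (M : Subgroup G) : Subgroup G := fittingOf M ⊓ piCoreOf {2}ᶜ M

theorem h2Odd_le_fit (M : Subgroup G) : h2Odd M ≤ fittingOf M := inf_le_left

theorem h2Odd_le (M : Subgroup G) : h2Odd M ≤ M := inf_le_left.trans (fittingOf_le M)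

theorem le_normalizer_h2Odd {M X : Subgroup G} (h : X ≤ N[M]) : X ≤ N[h2Odd M] :=
  le_normalizer_inf (h.trans (normalizer_le_normalizer_fit M))
    (le_normalizer_piCoreOf_of_le _ h)

theorem h2_commutator_le_centralizer {M R X : Subgroup G} (hX : X ≤ C[R]) (hM : M ≤ N[X]) :
    ⁅M, R⁆ ≤ C[X] := by
  rw [← commutator_eq_bot_iff_le_centralizer]
  refine commutator_commutator_eq_bot_of_rotate ?_ ?_
  · rw [commutator_eq_bot_of_le_centralizer' hX, commutator_bot_left]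
  · rw [eq_bot_iff, ← commutator_eq_bot_of_le_centralizer hX]
    exact commutator_mono (le_normalizer_iff_commutator_le_left.1 hM) le_rfl

variable [Finite G]

theorem isPi_h2Odd (M : Subgroup G) : IsPiSubgroup {2}ᶜ (h2Odd M) :=
  (isPiSubgroup_piCoreOf _ _).inf_right _

theorem le_h2Odd {M X : Subgroup G} (h : X ≤ fittingOf M) (hX : IsPiSubgroup {2}ᶜ X) :
    X ≤ h2Odd M := le_inf h (le_piCoreOf_of_le_fit hX h)

theorem piCoreOf_le_h2Odd {t : ℕ} (ht : t.Prime) (h2 : t ≠ 2) (M : Subgroup G) :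
    piCoreOf {t} M ≤ h2Odd M := by
  have := Fact.mk ht
  exact le_inf (piCoreOf_singleton_le_fit t M) (piCoreOf_mono (by simpa using h2.symm) M)

theorem h2_fit_le {M Y : Subgroup G} (h1 : piCoreOf {2} M ≤ Y) (h2 : h2Odd M ≤ Y) :
    fittingOf M ≤ Y :=
  fit_le_of_forall fun t ht _ => by
    by_cases h : t = 2
    · exact h ▸ h1
    · exact (piCoreOf_le_h2Odd ht h M).trans h2

theorem h2Odd_le_of_forall {M Y : Subgroup G}
    (h : ∀ t : ℕ, t.Prime → t ≠ 2 → piCoreOf {t} M ≤ Y) : h2Odd M ≤ Y := by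
  refine le_of_forall_piCoreOf_singleton_le
    (isNilpotent_of_le (h2Odd_le_fit M) (isNilpotent_fit M)) fun t ht hd => ?_
  refine le_trans ?_ (h t ht (by simpa using isPi_h2Odd M t ht hd))
  exact le_piCoreOf_of_le_fit (isPiSubgroup_piCoreOf _ _)
    ((piCoreOf_le _ _).trans (h2Odd_le_fit M))

theorem h2_le_fit {M X : Subgroup G} (hM : Group.IsSolvable M) (h0 : X ≤ M)
    (h1 : X ≤ C[piCoreOf {2} M]) (h2 : X ≤ C[h2Odd M]) : X ≤ fittingOf M :=
  (le_inf h0 (le_centralizer_symm (h2_fit_le (le_centralizer_symm h1)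
    (le_centralizer_symm h2)))).trans (inf_centralizer_fit_le hM)

theorem h2Odd_eq_bot_iff {M : Subgroup G} (hM : Group.IsSolvable M) :
    h2Odd M = ⊥ ↔ piCoreOf {2}ᶜ M = ⊥ := by
  refine ⟨fun h => piCoreOf_compl_eq_bot_of_forall hM fun s hs h2 =>
    eq_bot_iff.2 (h ▸ piCoreOf_le_h2Odd hs h2 M), fun h => eq_bot_iff.2 ?_⟩
  rw [← h]; exact inf_le_right

theorem h2_exists_odd {M : Subgroup G} (h : h2Odd M ≠ ⊥) :
    ∃ t : ℕ, t.Prime ∧ t ≠ 2 ∧ piCoreOf {t} M ≠ ⊥ := by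
  by_contra hc
  push Not at hc
  exact h (eq_bot_iff.2 (h2Odd_le_of_forall fun t ht h2 => (hc t ht h2).le))

theorem h2_inf_eq_bot {X Y : Subgroup G} (hX : IsPiSubgroup {2}ᶜ X) (hY : IsPGroup 2 Y) :
    X ⊓ Y = ⊥ := by
  have : Fact (Nat.Prime 2) := ⟨Nat.prime_two⟩
  rw [inf_comm]
  exact (isPiSubgroup_singleton_iff.2 hY).inf_eq_bot hX

theorem h2_le_centralizer {X Y : Subgroup G} (hX : IsPiSubgroup {2}ᶜ X) (hY : IsPGroup 2 Y)
    (h1 : X ≤ N[Y]) (h2 : Y ≤ N[X]) : X ≤ C[Y] :=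
  commutator_eq_bot_iff_le_centralizer.1
    (commutator_eq_bot_of_inf_eq_bot h1 h2 (h2_inf_eq_bot hX hY))

open scoped commutatorElement in
omit [Finite G] in
/-- elements of odd order of `D` are fixed when `[D, R]` is a central `2`-subgroup -/
theorem h2_odd_fixed {D R P : Subgroup G} (hP : IsPGroup 2 P) (hDP : D ≤ C[P])
    (hDR : ⁅D, R⁆ ≤ P) {y : G} (hy : y ∈ D) (hodd : Odd (orderOf y)) : y ∈ C[R] := by
  rw [mem_centralizer_iff]
  intro z hz
  have hc : ⁅z, y⁆ ∈ P := hDR (by rw [commutator_comm]; exact commutator_mem_commutator hz hy)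
  have hcomm : Commute ⁅z, y⁆ y := (mem_centralizer_iff.1 (hDP hy) _ hc)
  have h1 : ⁅z, y⁆ ^ orderOf y = 1 := by
    have h2 : (⁅z, y⁆ * y) ^ orderOf y = 1 := by
      rw [show ⁅z, y⁆ * y = z * y * z⁻¹ by simp [commutatorElement_def], conj_pow,
        pow_orderOf_eq_one, mul_one, mul_inv_cancel]
    rwa [hcomm.mul_pow, pow_orderOf_eq_one, mul_one] at h2
  obtain ⟨k, hk⟩ := hP ⟨_, hc⟩
  have hk' : ⁅z, y⁆ ^ 2 ^ k = 1 := congrArg Subtype.val hk
  have h3 : ⁅z, y⁆ = 1 := by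
    have := pow_gcd_eq_one.2 ⟨h1, hk'⟩
    rwa [Nat.Coprime.gcd_eq_one (Nat.Coprime.pow_right _ (Nat.coprime_two_right.2 hodd)),
      pow_one] at this
  exact commutatorElement_eq_one_iff_mul_comm.1 h3

variable {p : ℕ} {A : Subgroup G} {θ : G → Subgroup G}

/-- a maximal member above `θ a` -/
structure SigAt (p : ℕ) (A : Subgroup G) (θ : G → Subgroup G) (a : G) (M : Subgroup G) :
    Prop where
  mem : a ∈ A
  ne : a ≠ 1
  max : SigMax p A θ M
  le : θ a ≤ M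

omit [Finite G] in
theorem SigAt.inf_le {a : G} {M : Subgroup G} (hg : SigAt p A θ a M) :
    signalizerInf A θ ≤ M := (sigInf_le hg.mem hg.ne).trans hg.le

omit [Finite G] in
theorem SigAt.le_of {a : G} {M U : Subgroup G} (hg : SigAt p A θ a M)
    (hU : U ∈ signalizerFamily p A θ) : U ⊓ C1[a] ≤ M := (sigFam_le hU hg.mem hg.ne).trans hg.le

omit [Finite G] in
theorem sigFam_h2Odd {U : Subgroup G} (h : U ∈ signalizerFamily p A θ) :
    h2Odd U ∈ signalizerFamily p A θ :=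
  sigFam_mono h (h2Odd_le _) (le_normalizer_h2Odd (sigFam_norm h))

variable [hp : Fact p.Prime]

namespace SftHyp
variable (h : SftHyp p A θ)
include h

omit hp in
theorem exists_sigAt {a : G} (ha : a ∈ A) (h1 : a ≠ 1) : ∃ M, SigAt p A θ a M := by
  obtain ⟨M, hM, hle⟩ := exists_sigMax_ge (h.mem ha h1)
  exact ⟨M, ha, h1, hM, hle⟩

/-- Bender's lemma without a uniqueness hypothesis -/
theorem h2_b1 {M N : Subgroup G} (hM : SigMax p A θ M) (hN : SigMax p A θ N) (har : SftArrow M N)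
    {r : ℕ} [Fact r.Prime] (hr : piCoreOf {r} M ≠ ⊥) (hne : M ≠ N) :
    (∃ s V, Out p A θ M N s V) ∨ (piCoreOf {r}ᶜ M = ⊥ ∧ piCoreOf {r}ᶜ N = ⊥) := by
  by_cases hσ : ∀ s : ℕ, s.Prime → piCoreOf {s} N ≠ ⊥ → piCoreOf {s} M ≠ ⊥
  · exact Or.inr ((h.b1c hM hN har hr hσ).resolve_left hne)
  push Not at hσ
  obtain ⟨s, hs, h1, h2⟩ := hσ
  have := Fact.mk hs
  refine Or.inl ⟨s, zCore s N, hs, h2, sigFam_zCore hN.mem s, zCore_ne_bot h1, isPGroup_zCore s N,
    zCore_comm s N, zCore_le' s N, le_normalizer_zCore le_normalizer, ?_, h.loc_zCore hN h1, rfl⟩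
  rw [eq_bot_iff, ← har.b1a (sigFam_solv hM.mem) h2]
  exact inf_le_inf_right _ (zCore_le _ _)

/-- the largest `θ(A)`-invariant `q`-member -/
theorem h2_exists_E (q : ℕ) [Fact q.Prime] : ∃ E ∈ signalizerFamily p A θ, IsPGroup q E ∧
    signalizerInf A θ ≤ N[E] ∧ ∀ U ∈ signalizerFamily p A θ, IsPGroup q U →
      signalizerInf A θ ≤ N[U] → U ≤ E := by
  obtain ⟨S, hS, -⟩ := exists_isMaxSigQ_ge (p := p) (A := A) (θ := θ) (q := q) sigFam_bot
    IsPGroup.of_bot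
  let ι := {U : Subgroup G // U ∈ signalizerFamily p A θ ∧ IsPGroup q U ∧ signalizerInf A θ ≤ N[U]}
  have hle : (⨆ U : ι, (U : Subgroup G)) ≤ S := iSup_le fun U => by
    obtain ⟨T, hT, hUT⟩ := exists_isMaxSigQ_ge U.2.1 U.2.2.1
    obtain ⟨c, hc, rfl⟩ := hT.exists_conj h.elem h.card.ge h.sig hS
    rw [← map_conj_eq_of_mem_normalizer (U.2.2.2 hc)]
    exact map_mono hUT
  exact ⟨⨆ U : ι, (U : Subgroup G), sigFam_mono hS.mem hle
    (sft_le_normalizer_iSup fun U => sigFam_norm U.2.1), hS.isPGroup.to_le hle,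
    sft_le_normalizer_iSup fun U => U.2.2.2, fun U h1 h2 h3 =>
      le_iSup (fun U : ι => (U : Subgroup G)) ⟨U, h1, h2, h3⟩⟩

/-- two `θ(A)`-invariant `t'`-members generate a member -/
theorem h2_sup_mem {t : ℕ} [Fact t.Prime] {S : Subgroup G} (hS : S ∈ signalizerFamily p A θ)
    (hSt : IsPGroup t S) (hne : S ≠ ⊥) {X Y : Subgroup G} (hX : X ∈ signalizerFamily p A θ)
    (hY : Y ∈ signalizerFamily p A θ) (hX' : IsPiSubgroup {t}ᶜ X) (hY' : IsPiSubgroup {t}ᶜ Y)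
    (hCX : signalizerInf A θ ≤ N[X]) (hCY : signalizerInf A θ ≤ N[Y]) :
    X ⊔ Y ∈ signalizerFamily p A θ := by
  obtain ⟨D, hD, hDa⟩ := h.exists_D hS hSt hne
  have key : ∀ U ∈ signalizerFamily p A θ, IsPiSubgroup {t}ᶜ U → signalizerInf A θ ≤ N[U] →
      U ≤ D := fun U hU h1 h2 =>
    (h.act hU).le_of_elemAb h.elem h.two_le fun a ha ha1 => by
      refine le_trans ?_ (inf_le_left : D ⊓ C1[a] ≤ D)
      rw [hDa a ha ha1]
      exact le_piSig (sigFam_le hU ha ha1) (h1.inf_left _)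
        (le_normalizer_inf (sigFam_norm hU) (h.A_norm_C1 ha))
        (le_normalizer_inf h2 (le_normalizer_of_le (h.inf_le_C1 ha)))
  exact sigFam_mono hD (sup_le (key X hX hX' hCX) (key Y hY hY' hCY))
    (le_normalizer_sup (sigFam_norm hX) (sigFam_norm hY))

/-- if `b` centralizes `O_r(H) ≠ 1`, `r` odd, then `[H, b]` normalizes no `Out` subgroup -/
theorem h2_rc {r : ℕ} [Fact r.Prime] (hr2 : r ≠ 2) {b : G} {H M V : Subgroup G} {s : ℕ}
    (hg : SigAt p A θ b H) (hrH : piCoreOf {r} H ≠ ⊥) (hc : piCoreOf {r} H ≤ C1[b])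
    (ho : Out p A θ H M s V) (hKV : ⁅H, zpowers b⁆ ≤ N[V]) : False := by
  have := Fact.mk ho.prime
  have hH := hg.max
  have hb := hg.mem
  have hb1 := hg.ne
  have hVb := ho.inf_C1 hb hb1 hg.le
  obtain ⟨R, hRm, hRH, hRr, hR0, hRR⟩ := h.exists_R hH hb hb1 hrH hc
  have hact := h.act_zp hH.mem hb
  have hconj : ∀ g ∈ H, g •ᶜ R ≤ C[V] := by
    intro g hgH
    obtain ⟨k, hk, c, hc, rfl⟩ := hact.exists_commutator_mul_centralizer hgH
    have hcz : c •ᶜ zpowers b = zpowers b :=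
      map_conj_eq_of_mem_normalizer (centralizer_le_normalizer _ hc.2)
    have hR' : ⁅c •ᶜ R, zpowers b⁆ = c •ᶜ R := by
      conv_rhs => rw [← hRR, map_commutator, hcz]
    have hRH' : c •ᶜ R ≤ H := map_conj_le_of_mem_normalizer hRH (le_normalizer hc.1)
    have hRK : c •ᶜ R ≤ ⁅H, zpowers b⁆ := hR' ▸ commutator_mono hRH' le_rfl
    have hcard : Nat.card (c •ᶜ R : Subgroup G) = Nat.card R := card_map_conj R c
    have h1 : c •ᶜ R ≤ C[V] := by
      rw [← hR']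
      refine sft_fpf (Or.inl (hcard ▸ sft_odd_card hr2 hRr))
        (le_normalizer_iff_commutator_le_left.2 hR'.le) (hcard ▸ (h.act_zp hRm hb).cop)
        (h.prime_zp hb hb1) (sigFam_solv ho.mem) (hRK.trans hKV) (h.act_zp ho.mem hb).norm ?_
        (h.act_zp ho.mem hb).cop (by rwa [centralizer_zpowers])
      rw [hcard]
      exact (isPiSubgroup_singleton_iff.2 hRr).coprime
        (isPiSubgroup_compl_singleton_iff.2 (sft_not_dvd_card (ho.ne_of hrH) ho.isP))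
    rw [map_conj_mul]
    exact map_conj_le_of_mem_normalizer h1 (le_normalizer_centralizer hKV hk)
  have hRV : R ≤ C[V] := map_conj_one R ▸ hconj 1 (one_mem H)
  have hEV : R ⊔ ⁅R, H⁆ ≤ C[V] := by
    refine sup_le hRV (commutator_le.2 fun y hy g hg => ?_)
    exact mem_of_mem_of_eq (mul_mem (hRV hy) (hconj g hg ⟨y⁻¹, inv_mem hy, rfl⟩))
      (by simp [commutatorElement_def, mul_assoc])
  have hEH : R ⊔ ⁅R, H⁆ ≤ H := sup_le hRH ((commutator_le_sup _ _).trans (sup_le hRH le_rfl))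
  have hHE : H ≤ N[R ⊔ ⁅R, H⁆] := by
    rw [le_normalizer_iff_commutator_le_left]
    exact commutator_sup_le_left (le_normalizer_of_le le_sup_left)
      (le_normalizer_of_le le_sup_right) le_sup_right
      ((le_normalizer_iff_commutator_le_left.1 (le_normalizer_commutator_right _ _)).trans
        le_sup_right)
  have hAE : A ≤ N[R ⊔ ⁅R, H⁆] := le_normalizer_sup (sigFam_norm hRm)
    (le_normalizer_commutator (sigFam_norm hRm) (sigFam_norm hH.mem))
  exact ho.not_le ((h.loc_of_max hH (sigFam_mono hH.mem hEH hAE)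
    (fun h0 => hR0 (eq_bot_iff.2 (h0 ▸ le_sup_left))) hHE).le_of_le_centralizer ho.mem
      (le_centralizer_symm hEV))

end SftHyp

end Cfsg.Lib.FT
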