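import Cfsg.Agent.Lib.SF2.GStar
import Cfsg.Agent.Lib.SF2.H2a

/-!
# The solvable signalizer functor theorem, `p` odd: the case where only `O_2` acts (owner: helper8)
-/

set_option autoImplicit false

namespace Cfsg.Lib.FT
open Subgroup Cfsg.Lib

variable {G : Type*} [Group G]

/-- only `O_2` acts non-trivially -/
def H2Only (p : ℕ) (A : Subgroup G) (θ : G → Subgroup G) : Prop :=
  ∀ a ∈ A, a ≠ 1 → ∀ H, SigMax p A θ H → θ a ≤ H → ∀ r : ℕ, r.Prime → r ≠ 2 →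
    piCoreOf {r} H ≤ C1[a]

/-- the centre `Z` of the largest `θ(A)`-invariant `2`-member `E` -/
structure H2Z (p : ℕ) (A : Subgroup G) (θ : G → Subgroup G) (Z : Subgroup G) : Prop where
  mem : Z ∈ signalizerFamily p A θ
  two : IsPGroup 2 Z
  ne : Z ≠ ⊥
  inf : signalizerInf A θ ≤ N[Z]
  cent : ∀ U ∈ signalizerFamily p A θ, IsPGroup 2 U → signalizerInf A θ ≤ N[U] → Z ≤ C[U]

variable [Finite G] {p : ℕ} {A : Subgroup G} {θ : G → Subgroup G} [hp : Fact p.Prime]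

private instance h2FactTwo : Fact (Nat.Prime 2) := ⟨Nat.prime_two⟩

namespace SftHyp
variable (h : SftHyp p A θ) (hO : H2Only p A θ) {a b : G} {M N Z : Subgroup G}
include h hO

omit hp h in
theorem h2_odd_le (hg : SigAt p A θ a M) : h2Odd M ≤ C1[a] :=
  h2Odd_le_of_forall (hO a hg.mem hg.ne M hg.max hg.le)

omit hp h in
theorem h2_K_cent (hg : SigAt p A θ a M) : ⁅M, zpowers a⁆ ≤ C[h2Odd M] :=
  h2_commutator_le_centralizer (by rw [centralizer_zpowers]; exact h2_odd_le hO hg)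
    (le_normalizer_h2Odd le_normalizer)

theorem h2_core_ne (hg : SigAt p A θ a M) : piCoreOf {2} M ≠ ⊥ := by
  obtain ⟨r, hr, hc⟩ := h.exists_good hg.max hg.mem hg.ne
  by_cases h2 : r = 2
  · subst h2
    exact fun h0 => hc (by rw [h0, commutator_bot_left])
  · exact absurd (commutator_eq_bot_of_le_centralizer
      (by rw [centralizer_zpowers]; exact hO a hg.mem hg.ne M hg.max hg.le r hr h2)) hc

theorem h2_bc (hg : SigAt p A θ a M) (hQ : h2Odd M ≠ ⊥) (hN : SigMax p A θ N)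
    (har : SftArrow M N) (hK : ⁅M, zpowers a⁆ ≤ N) : M = N := by
  by_contra hne
  rcases h.h2_b1 hg.max hN har (h.h2_core_ne hO hg) hne with ⟨s, V, ho⟩ | ⟨h1, -⟩
  · obtain ⟨t, ht, ht2, htM⟩ := h2_exists_odd hQ
    have := Fact.mk ht
    exact h.h2_rc ht2 hg htM (hO a hg.mem hg.ne M hg.max hg.le t ht ht2) ho (hK.trans ho.norm)
  · exact hQ ((h2Odd_eq_bot_iff (sigFam_solv hg.max.mem)).2 h1)

theorem h2_loc (hg : SigAt p A θ a M) (hQ : h2Odd M ≠ ⊥) {U : Subgroup G}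
    (hU : U ∈ signalizerFamily p A θ) (hU0 : U ≠ ⊥) (hF : U ≤ fittingOf M ∨ fittingOf M ≤ N[U])
    (hK : ⁅M, zpowers a⁆ ≤ N[U]) : SigLoc p A θ U M := by
  obtain ⟨N, hN, hl⟩ := h.exists_loc hU hU0
  rwa [h.h2_bc hO hg hQ hN (hF.elim (fun hF => sftArrow_of_loc hg.max.mem hN.mem hU hF hl)
    fun hF => sftArrow_of_fit_le (hl _ (sigFam_fit hg.max.mem) hF))
    (hl _ (h.commutator_mem hg.max.mem hg.mem) hK)]

/-- odd subgroups centralizing `O_2(M)` centralize `a` and `[M, a]` -/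
theorem h2_J (hg : SigAt p A θ a M) {Y : Subgroup G} (hYM : Y ≤ M) (hY : Y ≤ C[piCoreOf {2} M])
    (hodd : IsPiSubgroup {2}ᶜ Y) : Y ≤ C[zpowers a] ∧ Y ≤ C[⁅M, zpowers a⁆] := by
  set D := M ⊓ C[piCoreOf {2} M] with hD
  have hMD : M ≤ N[D] := le_normalizer_inf le_normalizer
    (le_normalizer_centralizer (le_normalizer_piCoreOf _ _))
  have hDm : D ∈ signalizerFamily p A θ :=
    sigFam_inf_C hg.max.mem (sigFam_norm (sigFam_piCoreOf hg.max.mem _))
  have hact := h.act_zp hDm hg.mem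
  have h1 : ⁅D, zpowers a⁆ ≤ piCoreOf {2} M ⊔ h2Odd M :=
    (h2_le_fit (sigFam_solv hg.max.mem) (hact.commutator_le.trans inf_le_left)
      (hact.commutator_le.trans inf_le_right)
      ((commutator_mono inf_le_left le_rfl).trans (h2_K_cent hO hg))).trans
      (h2_fit_le le_sup_left le_sup_right)
  have h2 : ⁅D, zpowers a⁆ ≤ piCoreOf {2} M := by
    rw [← hact.commutator_commutator]
    refine (commutator_mono h1 le_rfl).trans (commutator_sup_le_left le_normalizer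
      ((h2Odd_le M).trans (le_normalizer_piCoreOf _ _))
      (h.act_zp (sigFam_piCoreOf hg.max.mem _) hg.mem).commutator_le ?_)
    rw [commutator_eq_bot_of_le_centralizer
      (by rw [centralizer_zpowers]; exact h2_odd_le hO hg)]
    exact bot_le
  have key : ∀ y ∈ Y, ∀ g ∈ M, g * y * g⁻¹ ∈ C[zpowers a] := by
    intro y hy g hgM
    refine h2_odd_fixed (isPGroup_piCoreOf_singleton 2 M) inf_le_right h2
      (conj_mem_of_le_normalizer hMD hgM ⟨hYM hy, hY hy⟩) ?_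
    rw [show g * y * g⁻¹ = MulAut.conj g y from rfl, MulEquiv.orderOf_eq]
    refine Nat.not_even_iff_odd.1 fun he => isPiSubgroup_compl_singleton_iff.1 hodd ?_
    exact he.two_dvd.trans (orderOf_dvd_natCard Y hy)
  refine ⟨fun y hy => by simpa using key y hy 1 (one_mem M), le_centralizer_symm ?_⟩
  refine commutator_le.2 fun g hgM z hz => ?_
  rw [mem_centralizer_iff]
  intro y hy
  have k1 := mem_centralizer_iff.1 (key y hy 1 (one_mem M)) _ (inv_mem hz)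
  have k2 := mem_centralizer_iff.1 (key y hy g⁻¹ (inv_mem hgM)) _ hz
  simp only [one_mul, inv_one, mul_one, inv_inv] at k1 k2
  rw [commutatorElement_def]
  calc y * (g * z * g⁻¹ * z⁻¹) = g * (g⁻¹ * y * g * z) * g⁻¹ * z⁻¹ := by group
    _ = g * (z * (g⁻¹ * y * g)) * g⁻¹ * z⁻¹ := by rw [k2]
    _ = g * z * g⁻¹ * (y * z⁻¹) := by group
    _ = g * z * g⁻¹ * z⁻¹ * y := by rw [← k1]; group

theorem h2_exists_Z : ∃ Z, H2Z p A θ Z := by
  obtain ⟨E, hE, hE2, hCE, hmax⟩ := h.h2_exists_E 2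
  obtain ⟨⟨a, ha⟩, h1⟩ := (ne_bot_iff_exists_ne_one.1 (ne_bot_of_pow_le_card (n := 2) h.card.ge))
  obtain ⟨M, hg⟩ := h.exists_sigAt ha fun e => h1 (Subtype.ext e)
  have hE0 : E ≠ ⊥ := fun h0 => h.h2_core_ne hO hg (eq_bot_iff.2 (h0 ▸ hmax _
    (sigFam_piCoreOf hg.max.mem _) (isPGroup_piCoreOf_singleton 2 M)
    (hg.inf_le.trans (le_normalizer_piCoreOf _ _))))
  exact ⟨E ⊓ C[E], sigFam_inf_C hE (sigFam_norm hE), hE2.to_le inf_le_left,
    inf_centralizer_ne_bot_of_isNilpotent (isNilpotent_of_isPGroup hE2) le_rfl le_normalizer hE0,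
    le_normalizer_inf hCE (le_normalizer_centralizer hCE), fun U h1 h2 h3 =>
      inf_le_right.trans (centralizer_mono (hmax U h1 h2 h3))⟩

variable (hZ : H2Z p A θ Z)
include hZ

omit h hO hp in
theorem h2_Z_cent (hN : N ∈ signalizerFamily p A θ) (hC : signalizerInf A θ ≤ N) :
    Z ≤ C[piCoreOf {2} N] :=
  hZ.cent _ (sigFam_piCoreOf hN _) (isPGroup_piCoreOf_singleton 2 N)
    (hC.trans (le_normalizer_piCoreOf _ _))

theorem h2_Z_le (hg : SigAt p A θ a M) : Z ≤ M :=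
  (h.loc_piCoreOf hg.max (h.h2_core_ne hO hg)).le_of_le_centralizer hZ.mem
    (h2_Z_cent hZ hg.max.mem hg.inf_le)

omit h hO hp in
theorem h2_Z_le_core (hN : N ∈ signalizerFamily p A θ) (hC : signalizerInf A θ ≤ N)
    (hZN : Z ≤ N) (hc : Z ≤ C[h2Odd N]) : Z ≤ piCoreOf {2} N :=
  le_piCoreOf_of_le_fit (isPiSubgroup_singleton_iff.2 hZ.two)
    (h2_le_fit (sigFam_solv hN) hZN (h2_Z_cent hZ hN hC) hc)

theorem h2_arrow (hg : SigAt p A θ a M) (hg' : SigAt p A θ b N)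
    (hY : ⁅h2Odd M ⊓ N, Z⁆ ≠ ⊥) :
    ⁅N, zpowers b⁆ ≤ M ∧ piCoreOf {2} N ≤ M ∧ h2Odd M ≤ N ∧ h2Odd M ≤ C[piCoreOf {2} N] ∧
      h2Odd M ≤ C[zpowers b] ∧ ¬ Z ≤ C[h2Odd N] := by
  have hZM := h.h2_Z_le hO hZ hg
  have hZN := h.h2_Z_le hO hZ hg'
  have hQm := sigFam_h2Odd hg.max.mem
  have hQ0 : h2Odd M ≠ ⊥ := fun h0 => hY (by rw [h0, bot_inf_eq, commutator_bot_left])
  have hXm : h2Odd M ⊓ N ∈ signalizerFamily p A θ := sigFam_inf hQm (sigFam_norm hg'.max.mem)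
  have hYX : ⁅h2Odd M ⊓ N, Z⁆ ≤ h2Odd M ⊓ N := le_normalizer_iff_commutator_le_left.1
    (le_normalizer_inf (le_normalizer_h2Odd (hZM.trans le_normalizer))
      (le_normalizer_of_le hZN))
  have hYm := sigFam_mono hXm hYX (le_normalizer_commutator (sigFam_norm hXm) (sigFam_norm hZ.mem))
  have hYodd : IsPiSubgroup {2}ᶜ ⁅h2Odd M ⊓ N, Z⁆ :=
    (isPi_h2Odd M).of_le (hYX.trans inf_le_left)
  have hYP : ⁅h2Odd M ⊓ N, Z⁆ ≤ C[piCoreOf {2} N] :=
    (commutator_mono inf_le_right (h2_Z_cent hZ hg'.max.mem hg'.inf_le)).trans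
      (le_normalizer_iff_commutator_le_right.1
        (le_normalizer_centralizer (le_normalizer_piCoreOf _ _)))
  have hbad : ¬ Z ≤ C[h2Odd N] := fun hc => hY (eq_bot_iff.2 (by
    rw [← h2_inf_eq_bot hYodd (isPGroup_piCoreOf_singleton 2 N)]
    exact le_inf le_rfl ((commutator_mono inf_le_right
      (h2_Z_le_core hZ hg'.max.mem hg'.inf_le hZN hc)).trans
        (le_normalizer_iff_commutator_le_right.1 (le_normalizer_piCoreOf _ _)))))
  have hQN0 : h2Odd N ≠ ⊥ := fun h0 => hbad (by rw [h0]; exact le_centralizer_symm bot_le)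
  have hl := h.h2_loc hO hg hQ0 hYm hY (Or.inl (hYX.trans (inf_le_left.trans (h2Odd_le_fit M))))
    (le_normalizer_of_le_centralizer ((h2_K_cent hO hg).trans
      (centralizer_mono (hYX.trans inf_le_left))))
  have hK : ⁅N, zpowers b⁆ ≤ M := hl.le_of_le_centralizer (h.commutator_mem hg'.max.mem hg'.mem)
    (le_centralizer_symm (h.h2_J hO hg' (hYX.trans inf_le_right) hYP hYodd).2)
  have hP : piCoreOf {2} N ≤ M := hl.le_of_le_centralizer (sigFam_piCoreOf hg'.max.mem _)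
    (le_centralizer_symm hYP)
  have hSm := h.h2_sup_mem hZ.mem hZ.two hZ.ne hQm (sigFam_h2Odd hg'.max.mem) (isPi_h2Odd M)
    (isPi_h2Odd N) (le_normalizer_h2Odd (le_normalizer_of_le hg.inf_le))
    (le_normalizer_h2Odd (le_normalizer_of_le hg'.inf_le))
  have hn : ∀ X ≤ M, X ≤ N → X ≤ N[h2Odd M ⊔ h2Odd N] := fun X h1 h2 =>
    le_normalizer_sup (le_normalizer_h2Odd (le_normalizer_of_le h1))
      (le_normalizer_h2Odd (le_normalizer_of_le h2))
  have hQN : h2Odd M ≤ N := le_sup_left.trans (h.h2_loc hO hg' hQN0 hSm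
    (fun h0 => hQ0 (eq_bot_iff.2 (h0 ▸ le_sup_left)))
    (Or.inr (h2_fit_le (hn _ hP (piCoreOf_le _ _)) (le_normalizer_of_le le_sup_right)))
    (hn _ hK (h.act_zp hg'.max.mem hg'.mem).commutator_le) _ hSm le_normalizer)
  have hQP : h2Odd M ≤ C[piCoreOf {2} N] := h2_le_centralizer (isPi_h2Odd M)
    (isPGroup_piCoreOf_singleton 2 N) (hQN.trans (le_normalizer_piCoreOf _ _))
    (le_normalizer_h2Odd (le_normalizer_of_le hP))
  exact ⟨hK, hP, hQN, hQP, (h.h2_J hO hg' hQN hQP (isPi_h2Odd M)).1, hbad⟩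

omit hO hZ in
theorem h2_line (hg : SigAt p A θ a M) (hbad : ¬ Z ≤ C[h2Odd M]) :
    ∃ B ≤ A, Nat.card B = p ^ 2 ∧ ∀ x ∈ B, ∀ N, SigAt p A θ x N → ⁅h2Odd M ⊓ N, Z⁆ ≠ ⊥ := by
  have hQm := sigFam_h2Odd hg.max.mem
  by_contra hc
  push Not at hc
  refine hbad (le_centralizer_symm (sft_le_of_lines h.elem h.card (h.act hQm) fun B hB hBc => ?_))
  obtain ⟨x, hx, N, hN, h0⟩ := hc B hB hBc
  exact le_trans (le_inf inf_le_left ((inf_le_inf_left _ (centralizer_le_singleton hx)).trans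
    (hN.le_of hQm))) (commutator_eq_bot_iff_le_centralizer.1 h0)

theorem h2_Z_cent_odd (hg : SigAt p A θ a M) : Z ≤ C[h2Odd M] := by
  by_contra hbad
  have hQm := sigFam_h2Odd hg.max.mem
  obtain ⟨B, hB, hBc, hBa⟩ := h.h2_line hg hbad
  obtain ⟨b, hb, hb1, hbM⟩ : ∃ b ∈ B, b ≠ 1 ∧ ¬ θ b ≤ M := by
    by_contra hc
    push Not at hc
    exact h.not_line hB hBc hg.max.mem hc
  obtain ⟨N, hg'⟩ := h.exists_sigAt (hB hb) hb1
  obtain ⟨-, -, hQN, hQP, -, hbad'⟩ := h.h2_arrow hO hZ hg hg' (hBa b hb N hg')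
  obtain ⟨B', hB', hBc', hBb⟩ := h.h2_line hg' hbad'
  by_cases haB : a ∈ B'
  · obtain ⟨hK, hP, -⟩ := h.h2_arrow hO hZ hg' hg (hBb a haB M hg)
    have hQ0 : h2Odd M ≠ ⊥ := fun h0 => hbad (by rw [h0]; exact le_centralizer_symm bot_le)
    exact hbM (h.h2_bc hO hg hQ0 hg'.max (sftArrow_of_fit_le (h2_fit_le hP hQN)) hK ▸ hg'.le)
  have hQB : h2Odd M ≤ C[B'] := by
    refine le_centralizer_symm fun y hy => ?_
    by_cases hy1 : y = 1
    · rw [hy1]; exact one_mem _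
    obtain ⟨H, hgH⟩ := h.exists_sigAt (hB' hy) hy1
    obtain ⟨-, -, -, -, hc, -⟩ := h.h2_arrow hO hZ hg' hgH (hBb y hy H hgH)
    have hact := h.act_zp hQm (hB' hy)
    have h1 : ⁅h2Odd M, zpowers y⁆ ≤ h2Odd N :=
      le_h2Odd (h2_le_fit (sigFam_solv hg'.max.mem) (hact.commutator_le.trans hQN)
        (hact.commutator_le.trans hQP) ((commutator_mono hQN le_rfl).trans
          (h2_commutator_le_centralizer hc (le_normalizer_h2Odd le_normalizer))))
        ((isPi_h2Odd M).of_le hact.commutator_le)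
    have h2 : ⁅h2Odd M, zpowers y⁆ = ⊥ := by
      rw [← hact.commutator_commutator]
      exact commutator_eq_bot_of_le_centralizer (h1.trans hc)
    exact le_centralizer_symm (commutator_eq_bot_iff_le_centralizer.1 h2) (mem_zpowers y)
  have hQC : h2Odd M ≤ signalizerInf A θ := by
    refine le_trans (le_inf le_rfl ?_) (sigFam_inf_centralizer_le_sigInf hQm le_rfl)
    rw [← sft_sup_zpowers_eq (n := 2) h.card hB' hBc' hg.mem haB, centralizer_sup,
      centralizer_zpowers]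
    exact le_inf hQB (h2_odd_le hO hg)
  exact hbad (le_centralizer_symm (h2_le_centralizer (isPi_h2Odd M) hZ.two (hQC.trans hZ.inf)
    (le_normalizer_h2Odd (le_normalizer_of_le (h.h2_Z_le hO hZ hg)))))

/-- `Z` centralizes every odd member it normalizes -/
theorem h2_Z_cent_of_norm {V : Subgroup G} (hV : V ∈ signalizerFamily p A θ)
    (hodd : IsPiSubgroup {2}ᶜ V) (hn : Z ≤ N[V]) : V ≤ C[Z] := by
  refine (h.act hV).le_of_elemAb h.elem h.two_le fun e he he1 => ?_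
  obtain ⟨M, hg⟩ := h.exists_sigAt he he1
  have hZP := h2_Z_le_core hZ hg.max.mem hg.inf_le (h.h2_Z_le hO hZ hg) (h.h2_Z_cent_odd hO hZ hg)
  rw [← commutator_eq_bot_iff_le_centralizer, eq_bot_iff,
    ← h2_inf_eq_bot hodd (isPGroup_piCoreOf_singleton 2 M)]
  exact le_inf ((commutator_mono inf_le_left le_rfl).trans
    (le_normalizer_iff_commutator_le_left.1 hn)) ((commutator_mono (hg.le_of hV) hZP).trans
      (le_normalizer_iff_commutator_le_right.1 (le_normalizer_piCoreOf _ _)))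

omit hO in
theorem h2_fit_le_loc {L : Subgroup G} (hl : SigLoc p A θ Z L) (hN : N ∈ signalizerFamily p A θ)
    (hC : signalizerInf A θ ≤ N) (hc : h2Odd N ≤ C[Z]) : fittingOf N ≤ L :=
  h2_fit_le (hl.le_of_le_centralizer (sigFam_piCoreOf hN _)
    (le_centralizer_symm (h2_Z_cent hZ hN hC))) (hl.le_of_le_centralizer (sigFam_h2Odd hN) hc)

theorem h2_loc_mixed (hp2 : p ≠ 2) {L : Subgroup G} (hL : SigMax p A θ L)
    (hl : SigLoc p A θ Z L) : h2Odd L ≠ ⊥ := by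
  intro h0
  have hL2 := (h2Odd_eq_bot_iff (sigFam_solv hL.mem)).1 h0
  have hCL : signalizerInf A θ ≤ L := hl _ h.inf_mem hZ.inf
  have hσ : ∀ N : Subgroup G, piCoreOf {2} N ≠ ⊥ → ∀ s : ℕ, s.Prime → piCoreOf {s} L ≠ ⊥ →
      piCoreOf {s} N ≠ ⊥ := fun N hN s _ hs => by
    by_cases hs2 : s = 2
    · exact hs2 ▸ hN
    · exact absurd (piCoreOf_eq_bot_of_compl_eq_bot hL2 hs2) hs
  obtain ⟨a, ha, ha1, haL⟩ : ∃ a ∈ A, a ≠ 1 ∧ ¬ θ a ≤ L := by
    by_contra hc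
    push Not at hc
    exact h.notc ⟨L, hL.mem, hc⟩
  obtain ⟨M, hg⟩ := h.exists_sigAt ha ha1
  have hne : M ≠ L := fun e => haL (e ▸ hg.le)
  have har : SftArrow M L := sftArrow_of_fit_le (h.h2_fit_le_loc hZ hl hg.max.mem hg.inf_le
    (le_centralizer_symm (h.h2_Z_cent_odd hO hZ hg)))
  have hM2 := ((h.b1c hg.max hL har (h.h2_core_ne hO hg)
    (hσ M (h.h2_core_ne hO hg))).resolve_left hne).1
  obtain ⟨N, hN, hMN, -, s, V, ho⟩ := h.gstar hp2 hg.max hL har hM2 hg.inf_le hCL hne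
  have hZN : Z ≤ N := (le_inf (h.h2_Z_le hO hZ hg) (hl _ hZ.mem le_normalizer)).trans hMN
  have hCN : signalizerInf A θ ≤ N := (le_inf hg.inf_le hCL).trans hMN
  have hc := h.h2_Z_cent_of_norm hO hZ (sigFam_h2Odd hN.mem) (isPi_h2Odd N)
    (le_normalizer_h2Odd (le_normalizer_of_le hZN))
  have hN2 : piCoreOf {2} N ≠ ⊥ := fun h0 => hZ.ne (eq_bot_iff.2
    (h0 ▸ h2_Z_le_core hZ hN.mem hCN hZN (le_centralizer_symm hc)))
  have hs2 : s ≠ 2 := (ho.ne_of (h.h2_core_ne hO hg)).symm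
  have hN2' : piCoreOf {2}ᶜ N ≠ ⊥ := fun h0 => ho.ne (eq_bot_iff.2 (by
    rw [ho.eq, ← piCoreOf_eq_bot_of_compl_eq_bot h0 hs2]; exact zCore_le _ _))
  rcases h.b1c hN hL (sftArrow_of_fit_le (h.h2_fit_le_loc hZ hl hN.mem hCN hc)) hN2 (hσ N hN2)
    with e | ⟨e, -⟩
  · exact hN2' (e ▸ hL2)
  · exact hN2' e

theorem h2_false (hp2 : p ≠ 2) : False := by
  obtain ⟨L, hL, hl⟩ := h.exists_loc hZ.mem hZ.ne
  have hQ0 := h.h2_loc_mixed hO hZ hp2 hL hl
  have hQm := sigFam_h2Odd hL.mem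
  obtain ⟨B, hB, hBc, hBQ⟩ : ∃ B ≤ A, Nat.card B = p ^ 2 ∧ h2Odd L ⊓ C[B] ≠ ⊥ := by
    by_contra hc
    push Not at hc
    exact hQ0 (eq_bot_iff.2 (sft_le_of_lines h.elem h.card (h.act hQm)
      fun B hB hBc => (hc B hB hBc).le))
  refine h.not_line hB hBc hL.mem fun b hb hb1 => ?_
  obtain ⟨M, hg⟩ := h.exists_sigAt (hB hb) hb1
  have hF := h.h2_fit_le_loc hZ hl hg.max.mem hg.inf_le
    (le_centralizer_symm (h.h2_Z_cent_odd hO hZ hg))
  have hU0 : h2Odd L ⊓ M ≠ ⊥ := fun h0 => hBQ (eq_bot_iff.2 (h0 ▸ le_inf inf_le_left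
    ((inf_le_inf_left _ (centralizer_le_singleton hb)).trans (hg.le_of hQm))))
  have hUm : h2Odd L ⊓ M ∈ signalizerFamily p A θ := sigFam_inf hQm (sigFam_norm hg.max.mem)
  have hUodd : IsPiSubgroup {2}ᶜ (h2Odd L ⊓ M) := (isPi_h2Odd L).inf_left _
  have hFU : fittingOf M ≤ N[h2Odd L ⊓ M] := le_normalizer_inf
    (le_normalizer_h2Odd (le_normalizer_of_le hF)) (le_normalizer_of_le (fittingOf_le M))
  have hUP : h2Odd L ⊓ M ≤ C[piCoreOf {2} M] := h2_le_centralizer hUodd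
    (isPGroup_piCoreOf_singleton 2 M) (inf_le_right.trans (le_normalizer_piCoreOf _ _))
    ((piCoreOf_singleton_le_fit 2 M).trans hFU)
  have hM0 : h2Odd M ≠ ⊥ := fun h0 => hU0 (eq_bot_iff.2 (h0 ▸ le_h2Odd
    (h2_le_fit (sigFam_solv hg.max.mem) inf_le_right hUP
      (by rw [h0]; exact le_centralizer_symm bot_le)) hUodd))
  have hlU := h.h2_loc hO hg hM0 hUm hU0 (Or.inr hFU)
    (le_normalizer_of_le_centralizer' (h.h2_J hO hg inf_le_right hUP hUodd).2)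
  have har : SftArrow L M :=
    sftArrow_of_loc hL.mem hg.max.mem hUm (inf_le_left.trans (h2Odd_le_fit L)) hlU
  rcases h.b1c hg.max hL (sftArrow_of_fit_le hF) (h.h2_core_ne hO hg) (fun s hs hne h0 => by
    have := Fact.mk hs
    refine zCore_ne_bot hne (eq_bot_iff.2 ?_)
    rw [← (sftArrow_of_fit_le hF).b1a (sigFam_solv hg.max.mem) h0]
    exact le_inf (zCore_le _ _) (har.zCore_le s)) with e | ⟨e, -⟩
  · exact e ▸ hg.le
  · exact absurd ((h2Odd_eq_bot_iff (sigFam_solv hg.max.mem)).2 e) hM0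

end SftHyp

/-- the minimal counterexample has an odd prime `r`, `a ∈ A^#` and a maximal member `H ⊇ θ a` with
`[O_r(H), a] ≠ 1` -/
theorem SftHyp.false_of_H2 (h : SftHyp p A θ) (hp2 : p ≠ 2)
    (hO : ∀ a ∈ A, a ≠ 1 → ∀ H, SigMax p A θ H → θ a ≤ H → ∀ r : ℕ, r.Prime → r ≠ 2 →
      piCoreOf {r} H ≤ C1[a]) : False := by
  obtain ⟨Z, hZ⟩ := h.h2_exists_Z hO
  exact h.h2_false hO hZ hp2

end Cfsg.Lib.FT
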