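import Cfsg.Agent.Lib.SF2.Odd
import Cfsg.Agent.Lib.SF2.H2
import Cfsg.Agent.Lib.Signalizer.SFT.Core2

/-!
# Glauberman's solvable signalizer functor theorem and the connectivity argument
-/

set_option autoImplicit false

namespace Cfsg.Lib.FT
open Subgroup Cfsg.Lib

universe u

section
variable {G : Type*} [Group G] [Finite G] {p : ℕ} {A : Subgroup G} {θ : G → Subgroup G}
  [hp : Fact p.Prime]

theorem SftHyp.false_of_ne_two (h : SftHyp p A θ) (hp2 : p ≠ 2) : False := by
  refine h.false_of_H2 hp2 fun a ha h1 H hH haH r hr hr2 => ?_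
  have := Fact.mk hr
  by_contra hc
  refine h.false_of_odd_prime (r := r) hp2 hr2 ha h1 hH haH fun h0 => hc ?_
  rwa [commutator_eq_bot_iff_le_centralizer, centralizer_zpowers] at h0

end

/-- **Solvable signalizer functor theorem** for rank three -/
theorem sft_all {G : Type u} [Group G] [Finite G] {p : ℕ} [Fact p.Prime] {A : Subgroup G}
    {θ : G → Subgroup G} (hA : IsElementaryAbelian p A) (hA3 : Nat.card A = p ^ 3)
    (hθ : IsSolvableSignalizerFunctor p A θ) : SigCompl p A θ := by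
  by_cases hp2 : p = 2
  · subst hp2
    exact sft_two hA hA3 hθ
  · exact sft_induct Set.univ (fun _ _ _ _ _ h _ => h.false_of_ne_two hp2) _ G A θ rfl hA hA3 hθ
      fun _ _ _ _ _ _ => Set.mem_univ _

variable {G : Type*} [Group G] [Finite G] {p : ℕ} [hp : Fact p.Prime]

theorem sigClosure_mem_all {A : Subgroup G} {θ : G → Subgroup G} (hA : IsElementaryAbelian p A)
    (hA3 : p ^ 3 ≤ Nat.card A) (hθ : IsSolvableSignalizerFunctor p A θ) :
    signalizerClosure A θ ∈ signalizerFamily p A θ :=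
  sigClosure_mem_of_rank_three hA hA3 hθ fun _ hB hc =>
    sft_all (elemAb_mono hA hB) hc (sig_restrict hθ hB)

/-- elements of order `p` whose centralizer has `p`-rank at least three -/
def Rk3 (p : ℕ) (a : G) : Prop := orderOf a = p ∧ ¬ PRankLE p 2 C1[a]

theorem rk3_of_mem {F : Subgroup G} (hF : IsElementaryAbelian p F) (h3 : p ^ 3 ≤ Nat.card F)
    {a : G} (ha : a ∈ F) (h1 : a ≠ 1) : Rk3 p a :=
  ⟨elemAb_orderOf hF ha h1, not_pRankLE_subgroup_iff.2
    ⟨F, le_centralizer_singleton_of_comm hF.1 ha, hF, h3⟩⟩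

theorem exists_rk3_ge {E : Subgroup G} (hE : IsElementaryAbelian p E)
    (h : ¬ PRankLE p 2 C[E]) :
    ∃ F : Subgroup G, IsElementaryAbelian p F ∧ p ^ 3 ≤ Nat.card F ∧ E ≤ F := by
  obtain ⟨F, hF, h1, h2⟩ := not_pRankLE_subgroup_iff.1 h
  exact ⟨F ⊔ E, elemAb_sup h1 hE hF, h2.trans (card_le_of_le le_sup_left), le_sup_right⟩

theorem vertex_of_rk3 {F : Subgroup G} (hF : IsElementaryAbelian p F) (h3 : p ^ 3 ≤ Nat.card F) :
    IsRankGraphVertex p 2 F :=
  ⟨hF, (Nat.pow_le_pow_right hp.out.pos (by norm_num)).trans h3, not_pRankLE_subgroup_iff.2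
    ⟨F, le_centralizer_iff_isMulCommutative.2 hF.1, hF, h3⟩⟩

/-- an equivariant solvable signalizer functor on a connected graph is trivial -/
theorem equivariant_trivial (hO : pPrimeCore p G = ⊥) (hconn : IsRankGraphConnected p 2 G)
    (θ : G → Subgroup G)
    (hC : ∀ a : G, Rk3 p a → θ a ≤ C1[a] ∧ ¬ p ∣ Nat.card (θ a) ∧ Group.IsSolvable (θ a))
    (heq : ∀ a g : G, Rk3 p a → θ (g * a * g⁻¹) = g •ᶜ θ a)
    (hbal : ∀ a b : G, Rk3 p a → Rk3 p b → a * b = b * a → θ a ⊓ C1[b] ≤ θ b)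
    {a : G} (ha : Rk3 p a) : θ a = ⊥ := by
  have hsig : ∀ F : Subgroup G, IsElementaryAbelian p F → p ^ 3 ≤ Nat.card F →
      IsSolvableSignalizerFunctor p F θ := by
    intro F hF h3
    have hr : ∀ a ∈ F, a ≠ 1 → Rk3 p a := fun a ha h1 => rk3_of_mem hF h3 ha h1
    refine ⟨⟨fun a ha h1 => (hC a (hr a ha h1)).1, fun a ha h1 => (hC a (hr a ha h1)).2.1,
      fun a ha h1 b hb x hx => ?_, fun a ha h1 b hb h2 =>
        hbal a b (hr a ha h1) (hr b hb h2) (comm_of_isMulCommutative hF.1 ha hb)⟩,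
      fun a ha h1 => (hC a (hr a ha h1)).2.2⟩
    have e : b * a * b⁻¹ = a := by
      rw [comm_of_isMulCommutative hF.1 hb ha, mul_inv_cancel_right]
    have := heq a b (hr a ha h1)
    rw [e] at this
    rw [this]
    exact ⟨x, hx, rfl⟩
  have hle : ∀ E F : Subgroup G, IsElementaryAbelian p F → p ^ 3 ≤ Nat.card F → E ≤ F →
      p ^ 2 ≤ Nat.card E → signalizerClosure E θ = signalizerClosure F θ :=
    fun E F hF h3 hEF h2 => sigClosure_eq_of_le hF (hsig F hF h3).1 hEF h2
  have hadj : ∀ E E' : Subgroup G, IsRankGraphVertex p 2 E → IsRankGraphVertex p 2 E' →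
      (∀ a ∈ E, ∀ b ∈ E', a * b = b * a) → signalizerClosure E θ = signalizerClosure E' θ := by
    intro E E' hE hE' hc
    have hK : IsElementaryAbelian p (E ⊔ E' : Subgroup G) :=
      elemAb_sup hE.1 hE'.1 fun a ha b hb => (hc a ha b hb).symm
    by_cases h3 : p ^ 3 ≤ Nat.card (E ⊔ E' : Subgroup G)
    · rw [hle E _ hK h3 le_sup_left hE.2.1, hle E' _ hK h3 le_sup_right hE'.2.1]
    · have h2 : Nat.card (E ⊔ E' : Subgroup G) ≤ p ^ 2 := by
        by_contra h2
        exact h3 (pow_succ_le_card_of_lt (elemAb_isPGroup hK) (not_le.1 h2))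
      rw [eq_of_le_of_card_ge (le_sup_left : E ≤ E ⊔ E') (h2.trans hE.2.1),
        ← eq_of_le_of_card_ge (le_sup_right : E' ≤ E ⊔ E') (h2.trans hE'.2.1)]
  have hall : ∀ E E' : Subgroup G, IsRankGraphVertex p 2 E → IsRankGraphVertex p 2 E' →
      signalizerClosure E θ = signalizerClosure E' θ := by
    intro E E' hE hE'
    have := hconn E E' hE hE'
    clear hE'
    induction this with
    | refl => rfl
    | tail _ h ih => exact ih.trans (hadj _ _ h.1 h.2.1 h.2.2)
  have ha1 : a ≠ 1 := fun e => hp.out.ne_one (by rw [← ha.1, e, orderOf_one])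
  obtain ⟨F, hF, h3, haF⟩ := exists_rk3_ge (p := p) (E := zpowers a)
    (elemAb_zpowers (ha.1 ▸ pow_orderOf_eq_one a)) (by rw [centralizer_zpowers]; exact ha.2)
  have hn : (signalizerClosure F θ).Normal := by
    rw [← normalizer_eq_top_iff, eq_top_iff]
    intro g _
    rw [mem_normalizer_iff_map_conj, ← sigClosure_conj fun b hb h1 =>
      heq b g (rk3_of_mem hF h3 hb h1)]
    exact hall _ _ (vertex_of_rk3 (elemAb_conj hF g) (by rwa [card_map_conj])) (vertex_of_rk3 hF h3)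
  have hm := sigClosure_mem_all hF h3 (hsig F hF h3)
  have h0 : signalizerClosure F θ ≤ pPrimeCore p G :=
    le_pPrimeCore hn ((Nat.Prime.coprime_iff_not_dvd hp.out).2 (sigFam_not_dvd hm)).symm
  exact eq_bot_iff.2 ((le_sigClosure (haF (mem_zpowers a)) ha1).trans (hO ▸ h0))

end Cfsg.Lib.FT
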