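import Cfsg.Agent.Lib.SF2.PP2

/-!
# Replacement of Bender's lemma in characteristic `r`
-/

set_option autoImplicit false
set_option maxHeartbeats 400000

namespace Cfsg.Lib.FT
open Subgroup Cfsg.Lib

variable {G : Type*} [Group G] [Finite G] {p : ℕ} {A : Subgroup G} {θ : G → Subgroup G}
  [hp : Fact p.Prime]

omit [Finite G] hp in
theorem SftArrow.of_inf_le {M N N' : Subgroup G} (h : SftArrow M N) (hle : M ⊓ N ≤ N') :
    SftArrow M N' := by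
  refine le_trans (le_inf (inf_le_left.trans (fittingOf_le M)) (le_trans ?_ h)) hle
  exact inf_le_inf_left _ (centralizer_mono (le_inf inf_le_left
    ((inf_le_inf_right _ (fittingOf_le M)).trans hle)))

/-- pairs of maximal members over `I₀` -/
structure PPair (p : ℕ) (A : Subgroup G) (θ : G → Subgroup G) (I₀ M₁ M₂ : Subgroup G) : Prop where
  max₁ : SigMax p A θ M₁
  max₂ : SigMax p A θ M₂
  le₁ : I₀ ≤ M₁
  le₂ : I₀ ≤ M₂
  ne : M₁ ≠ M₂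
  arr : SftArrow M₁ M₂

/-- pairs with maximal intersection -/
structure PBest (p : ℕ) (A : Subgroup G) (θ : G → Subgroup G) (I₀ I M₁ M₂ : Subgroup G) : Prop
    extends PPair p A θ I₀ M₁ M₂ where
  eq : M₁ ⊓ M₂ = I
  best : ∀ N₁ N₂, PPair p A θ I₀ N₁ N₂ → Nat.card ↥(N₁ ⊓ N₂) ≤ Nat.card I

variable {I₀ I M₁ M₂ : Subgroup G}

omit hp in
theorem PBest.star (b : PBest p A θ I₀ I M₁ M₂) {M₃ : Subgroup G} (h₃ : SigMax p A θ M₃)
    (hle : I ≤ M₃) (hne : M₁ ≠ M₃) : PBest p A θ I₀ I M₁ M₃ := by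
  have hp : PPair p A θ I₀ M₁ M₃ := ⟨b.max₁, h₃, b.le₁,
    ((le_inf b.le₁ b.le₂).trans b.eq.le).trans hle, hne, b.arr.of_inf_le (b.eq.le.trans hle)⟩
  exact ⟨hp, (Quad.eq_of_le_of_card_le (le_inf (b.eq.ge.trans inf_le_left) hle)
    (b.best _ _ hp)).symm, b.best⟩

omit hp in
theorem PBest.swap (b : PBest p A θ I₀ I M₁ M₂) {r : ℕ} [Fact r.Prime]
    (o₂ : piCoreOf {r}ᶜ M₂ = ⊥) (h : piCoreOf {r} M₂ ≤ M₁) : PBest p A θ I₀ I M₂ M₁ :=
  ⟨⟨b.max₂, b.max₁, b.le₂, b.le₁, b.ne.symm,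
    sftArrow_of_fit_le (fit_eq_piCoreOf_of_compl_eq_bot o₂ ▸ h)⟩, inf_comm M₁ M₂ ▸ b.eq, b.best⟩

omit hp [Finite G] in
theorem PBest.mem (b : PBest p A θ I₀ I M₁ M₂) : I ∈ signalizerFamily p A θ :=
  b.eq ▸ sigFam_inf b.max₁.mem (sigFam_norm b.max₂.mem)

omit hp in
theorem PBest.core_le {r : ℕ} [Fact r.Prime] {M : Subgroup G} (hI : I ≤ M)
    (hM : M ∈ signalizerFamily p A θ) (hm : I ∈ signalizerFamily p A θ)
    (h : ∀ X ∈ signalizerFamily p A θ, X ≤ M → X ≤ N[piCoreOf {r} I] → X ≤ I) :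
    piCoreOf {r} M ≤ piCoreOf {r} I := by
  refine pp_le_of_normalizer (isPGroup_piCoreOf_singleton r I) (isPGroup_piCoreOf_singleton r M)
    (((piCoreOf_le _ _).trans hI).trans (le_normalizer_piCoreOf _ _)) ?_
  exact (le_inf inf_le_left (h _ (sigFam_inf_N (sigFam_piCoreOf hM _)
    (sigFam_norm (sigFam_piCoreOf hm _))) (inf_le_left.trans (piCoreOf_le _ _))
    inf_le_right)).trans (piCoreOf_inf_le _ hI)

namespace SftHyp
variable (h : SftHyp p A θ) (hp2 : p ≠ 2) {r : ℕ} [Fact r.Prime] (h23 : r = 2 ∨ r = 3)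
  (hC : signalizerInf A θ ≤ I₀)
  (hall : ∀ M, SigMax p A θ M → I₀ ≤ M → piCoreOf {r}ᶜ M = ⊥)
include h hp2 h23 hC hall

theorem pp_dich (b : PBest p A θ I₀ I M₁ M₂) (q₁ : piCoreOf {r} M₁ ≤ piCoreOf {r} I)
    (hl : SigLoc p A θ (piCoreOf {r} I) M₂) {MZ MJ : Subgroup G} (mZ : SigMax p A θ MZ)
    (mJ : SigMax p A θ MJ)
    (hZ : SigLoc p A θ (omegaOne r (piCoreOf {r} I ⊓ C[piCoreOf {r} I])) MZ)
    (hJ : SigLoc p A θ (thompsonSubgroupOf r (piCoreOf {r} I)) MJ) : M₁ = MZ ∨ M₁ = MJ := by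
  by_contra hcon
  push_neg at hcon
  set B := piCoreOf {r} I with hB
  have hI : I ≤ N[B] := le_normalizer_piCoreOf _ _
  have hI₁ : I ≤ M₁ := b.eq.ge.trans inf_le_left
  have hB₁ : B ≤ M₁ := (piCoreOf_le _ _).trans hI₁
  have hA : A ≤ N[B] := sigFam_norm (sigFam_piCoreOf b.mem _)
  have hBp : IsPGroup r B := isPGroup_piCoreOf_singleton r I
  have eZ := (b.star mZ (hZ I b.mem (pp_norm_Z hI)) hcon.1).eq
  have eJ := (b.star mJ (hJ I b.mem (pp_norm_J hI)) hcon.2).eq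
  obtain ⟨o, hO⟩ := h.offR hp2 h23 b.max₁ (hall _ b.max₁ b.le₁) hBp hB₁ q₁ hA
    ((hC.trans ((le_inf b.le₁ b.le₂).trans b.eq.le)).trans hI)
  have hH₁ : B ⊔ ppR r M₁ ≤ M₁ := sup_le hB₁ ppR_le
  have hH : B ⊔ ppR r M₁ ∈ signalizerFamily p A θ := sigFam_mono b.max₁.mem hH₁ o.AH
  have h1 : B ⊔ ppR r M₁ ≤ I := (o.tf hO).trans (sup_le
    ((le_inf (inf_le_left.trans hH₁)
      (hZ.le_of_le_centralizer (sigFam_inf_C hH (pp_norm_Z hA)) inf_le_right)).trans eZ.le)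
    ((le_inf (inf_le_left.trans hH₁)
      (hJ _ (sigFam_inf_N hH (pp_norm_J hA)) inf_le_right)).trans eJ.le))
  have hBR : B ≤ N[ppR r M₁] := norm_ppR (hB₁.trans le_normalizer)
  have h2 : ⁅ppR r M₁, B⁆ ≤ piCoreOf {r} M₁ := le_of_le_ppR
    (hBp.to_le (le_normalizer_iff_commutator_le_right.1 ((le_sup_right.trans h1).trans hI)))
    (Quad.commutator_le_of_le_normalizer hBR)
  have h3 : B ≤ piCoreOf {r} M₁ := le_of_comm_ppR (sigFam_solv b.max₁.mem) hBp hB₁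
    ((commutator_mono h2 le_rfl).trans (Quad.commutator_le_of_le_normalizer
      (hB₁.trans (le_normalizer_piCoreOf _ _))))
  refine b.ne (b.max₁.max M₂ b.max₂.mem (hl M₁ b.max₁.mem ?_)).symm
  rw [le_antisymm h3 q₁]
  exact le_normalizer_piCoreOf _ _

theorem pp_main (b : PBest p A θ I₀ I M₁ M₂) (q₁ : piCoreOf {r} M₁ ≤ piCoreOf {r} I)
    (hl : SigLoc p A θ (piCoreOf {r} I) M₂) : False := by
  have hBp : IsPGroup r (piCoreOf {r} I) := isPGroup_piCoreOf_singleton r I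
  have hBm := sigFam_piCoreOf b.mem {r}
  have hA := sigFam_norm hBm
  have hB0 : piCoreOf {r} I ≠ ⊥ := fun e =>
    h.core_ne b.max₁ (hall _ b.max₁ b.le₁) (eq_bot_iff.2 (e ▸ q₁))
  obtain ⟨MZ, mZ, hZ⟩ := h.exists_loc (sigFam_mono hBm pp_Z_le (pp_norm_Z (r := r) hA))
    (pp_Z_ne hBp hB0)
  obtain ⟨MJ, mJ, hJ⟩ := h.exists_loc (sigFam_mono hBm (Quad.thompsonOf_le _)
    (pp_norm_J (r := r) hA)) (pp_J_ne hBp hB0)
  have d₁ := h.pp_dich hp2 h23 hC hall b q₁ hl mZ mJ hZ hJ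
  have hl₁ : SigLoc p A θ (piCoreOf {r} I) M₁ := fun X hX hn => by
    rcases d₁ with e | e
    · exact e ▸ hZ X hX (pp_norm_Z hn)
    · exact e ▸ hJ X hX (pp_norm_J hn)
  have hI₁ : I ≤ M₁ := b.eq.ge.trans inf_le_left
  have hI₂ : I ≤ M₂ := b.eq.ge.trans inf_le_right
  have hB₁ := (piCoreOf_le {r} I).trans hI₁
  have hB₂ := (piCoreOf_le {r} I).trans hI₂
  have q₂ : piCoreOf {r} M₂ ≤ piCoreOf {r} I := PBest.core_le hI₂ b.max₂.mem b.mem
    fun X hX hle hn => (le_inf (hl₁ X hX hn) hle).trans b.eq.le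
  have o₁ := hall _ b.max₁ b.le₁
  have o₂ := hall _ b.max₂ b.le₂
  have d₂ := h.pp_dich hp2 h23 hC hall (b.swap o₂ (q₂.trans hB₁)) q₂ hl₁ mZ mJ hZ hJ
  have hI : M₁ ⊓ M₂ ≤ N[piCoreOf {r} I] := b.eq.le.trans (le_normalizer_piCoreOf _ _)
  rcases d₁ with e₁ | e₁ <;> rcases d₂ with e₂ | e₂
  · exact b.ne (e₁.trans e₂.symm)
  · exact h.pp_final hp2 h23 b.max₂ b.max₁ b.ne.symm o₂ o₁ (hC.trans b.le₂) (hC.trans b.le₁) hBp
      hB₂ hB₁ (inf_comm M₁ M₂ ▸ hI) hA q₂ q₁ (e₂ ▸ hJ) (e₁ ▸ hZ)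
  · exact h.pp_final hp2 h23 b.max₁ b.max₂ b.ne o₁ o₂ (hC.trans b.le₁) (hC.trans b.le₂) hBp
      hB₁ hB₂ hI hA q₁ q₂ (e₁ ▸ hJ) (e₂ ▸ hZ)
  · exact b.ne (e₁.trans e₂.symm)

theorem pp_false (b : PBest p A θ I₀ I M₁ M₂) : False := by
  have hI₁ : I ≤ M₁ := b.eq.ge.trans inf_le_left
  have hI₂ : I ≤ M₂ := b.eq.ge.trans inf_le_right
  have hB0 : piCoreOf {r} I ≠ ⊥ := fun e => by
    refine zCore_ne_bot (h.core_ne b.max₁ (hall _ b.max₁ b.le₁)) (eq_bot_iff.2 ?_)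
    rw [← e]
    exact (le_inf (zCore_le _ _) ((le_inf (zCore_le' _ _) (b.arr.zCore_le r)).trans
      b.eq.le)).trans (piCoreOf_inf_le _ hI₁)
  obtain ⟨M₃, h₃, hl⟩ := h.exists_loc (sigFam_piCoreOf b.mem {r}) hB0
  by_cases e : M₁ = M₃
  · subst e
    have q₂ : piCoreOf {r} M₂ ≤ piCoreOf {r} I := PBest.core_le hI₂ b.max₂.mem b.mem
      fun X hX hle hn => (le_inf (hl X hX hn) hle).trans b.eq.le
    exact h.pp_main hp2 h23 hC hall (b.swap (hall _ b.max₂ b.le₂)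
      (q₂.trans ((piCoreOf_le _ _).trans hI₁))) q₂ hl
  · have b' := b.star h₃ (hl I b.mem (le_normalizer_piCoreOf _ _)) e
    exact h.pp_main hp2 h23 hC hall b' (PBest.core_le hI₁ b.max₁.mem b.mem
      fun X hX hle hn => (le_inf hle (hl X hX hn)).trans b'.eq.le) hl

end SftHyp

/-- two maximal members `M ↝ N` containing `θ(A)`, `M` of characteristic `r`: some maximal member
over `M ∩ N` is not of characteristic `r` -/
theorem SftHyp.gstar (h : SftHyp p A θ) (hp2 : p ≠ 2) {r : ℕ} [Fact r.Prime] {M N : Subgroup G}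
    (hM : SigMax p A θ M) (hN : SigMax p A θ N) (har : SftArrow M N)
    (hr : piCoreOf {r}ᶜ M = ⊥) (hCM : signalizerInf A θ ≤ M) (hCN : signalizerInf A θ ≤ N)
    (hne : M ≠ N) :
    ∃ N', SigMax p A θ N' ∧ M ⊓ N ≤ N' ∧ SftArrow M N' ∧ ∃ s V, SftHyp.Out p A θ M N' s V := by
  by_cases h23 : r = 2 ∨ r = 3
  · by_cases hall : ∀ M', SigMax p A θ M' → M ⊓ N ≤ M' → piCoreOf {r}ᶜ M' = ⊥
    · exfalso
      obtain ⟨⟨M₁, M₂⟩, hp, hmax⟩ := Set.exists_max_image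
        {x : Subgroup G × Subgroup G | PPair p A θ (M ⊓ N) x.1 x.2}
        (fun x => Nat.card ↥(x.1 ⊓ x.2)) (Set.toFinite _)
        ⟨(M, N), ⟨hM, hN, inf_le_left, inf_le_right, hne, har⟩⟩
      exact h.pp_false hp2 h23 (le_inf hCM hCN) hall
        ⟨hp, rfl, fun N₁ N₂ hn => hmax (N₁, N₂) hn⟩
    · push_neg at hall
      obtain ⟨N', hN', hle, hO⟩ := hall
      have har' := har.of_inf_le hle
      obtain ⟨s, hs, hsr, h1⟩ : ∃ s : ℕ, s.Prime ∧ s ≠ r ∧ piCoreOf {s} N' ≠ ⊥ := by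
        by_contra hcon
        push_neg at hcon
        exact hO (piCoreOf_compl_eq_bot_of_forall (sigFam_solv hN'.mem) hcon)
      have := Fact.mk hs
      have h2 := piCoreOf_eq_bot_of_compl_eq_bot hr hsr
      refine ⟨N', hN', hle, har', s, zCore s N', hs, h2, sigFam_zCore hN'.mem s, zCore_ne_bot h1,
        isPGroup_zCore s N', zCore_comm s N', zCore_le' s N', le_normalizer_zCore le_normalizer,
        ?_, h.loc_zCore hN' h1, rfl⟩
      rw [eq_bot_iff, ← har'.b1a (sigFam_solv hM.mem) h2]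
      exact inf_le_inf_right _ (zCore_le _ _)
  · have h5 : 5 ≤ r := (Fact.out : r.Prime).five_le_of_ne_two_of_ne_three
      (fun e => h23 (Or.inl e)) fun e => h23 (Or.inr e)
    exact ⟨N, hN, inf_le_right, har, h.b1 hM hN har (h.core_ne hM hr)
      (h.cq_of_functor (pgZ 0) (pgZ_le 0) (pg_normalizer_le_normalizer_pgZ 0) (pgZ_conj 0)
        (fun _ hS hne => pgZ_zero_ne_bot hS hne) fun _ hM hO _ hS =>
          pp_pgZ_of_five h5 (sigFam_solv hM) hO hS) (Or.inl hCM) hne⟩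

end Cfsg.Lib.FT
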