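import Cfsg.Agent.Lib.SF2.ML6

/-!
# The module lemma
-/

set_option autoImplicit false
set_option maxHeartbeats 400000

namespace Cfsg.Lib.FT
open Subgroup Cfsg.Lib

universe u

theorem ml_aux {p r t : ℕ} [Fact p.Prime] [Fact r.Prime] [Fact t.Prime] (num : MLNum p r t)
    (n : ℕ) : ∀ {G : Type u} [Group G] [Finite G] {A B F V : Subgroup G},
      Nat.card F + Nat.card V = n → MLH p r t A B F V → MLC r B F V := by
  induction n using Nat.strong_induction_on with
  | _ n ih =>
  intro G _ _ A B F V hn h x hx hs
  by_cases hK : F ⊓ C[V] = ⊥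
  · set E := closure {y | y ∈ B ∧ Nat.card ↥(⁅V, zpowers y⁆) ≤ r ^ 2} with hE
    have hEB : E ≤ B := (closure_le _).2 fun y hy => hy.1
    have hxE : x ∈ E := subset_closure ⟨hx, hs⟩
    have hAE : A ≤ N[E] := by
      rw [le_normalizer_iff]
      intro a ha y hy
      have : E ≤ a⁻¹ •ᶜ E := (closure_le _).2 fun y hy => by
        rw [SetLike.mem_coe, mem_map_conj, inv_inv]
        refine subset_closure ⟨conj_mem_of_le_normalizer h.AB ha hy.1, ?_⟩
        rw [ml_comm_conj (h.AV ha), card_map_conj]
        exact hy.2
      have := this hy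
      rwa [mem_map_conj, inv_inv] at this
    by_contra hcon
    refine MLMin.false (A := A) (E := E) (F := F) (V := V)
      { h with
        toMLNum := num
        hB := h.hB.to_le hEB
        AB := hAE
        BF := hEB.trans h.BF
        BV := hEB.trans h.BV
        fix := (commutator_mono le_rfl hEB).trans h.fix
        faith := hK
        gen := (closure_le _).2 fun y hy => subset_closure ⟨subset_closure hy, hy.2⟩
        ih := fun A' F' V' h' hlt => ih _ (hn ▸ hlt) rfl h'
        bad := fun hle => hcon ?_ }
    rw [commutator_eq_bot_iff_le_centralizer.2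
      (hle.trans (centralizer_mono (zpowers_le_of_mem hxE)))]
    exact bot_le
  · set K := F ⊓ C[V] with hKdef
    have hAK : A ≤ N[K] := ml_norm_wsp h.AF h.AV
    have hBK : B ≤ N[K] := ml_norm_wsp h.BF h.BV
    have hFK : F ≤ N[K] := ml_norm_wsp le_normalizer h.FV
    have hVK : V ≤ N[K] := (le_centralizer_iff.1 inf_le_right).trans (centralizer_le_normalizer _)
    have hVK' : V ⊓ K = ⊥ := (ml_act (elemAb_isPGroup h.hV)
      (h.hF.to_le (inf_le_left : K ≤ F)) num.tr.symm hVK).disjoint.eq_bot
    have hc := ih (Nat.card (secIm K F) + Nat.card (secIm K V)) (by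
        have h1 : Nat.card (secIm K V) = Nat.card V := card_secIm_of_inf_eq_bot hVK hVK'
        have h2 := card_secPre (secIm K F)
        rw [secPre_secIm hFK, sup_eq_left.2 inf_le_left] at h2
        have h3 : 1 < Nat.card K := one_lt_card_iff_ne_bot K |>.2 hK
        have h4 : 0 < Nat.card (secIm K F) := Nat.card_pos
        rw [← hn, h1, h2]
        nlinarith) rfl
      (A := secIm K A) (B := secIm K B)
      { hA := (h.hA.comap_subtype).map _
        hB := (h.hB.comap_subtype).map _
        hF := (h.hF.comap_subtype).map _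
        hV := elemAb_map (Quad.ea_subgroupOf h.hV _) _
        AB := secIm_le_normalizer hBK h.AB
        AF := secIm_le_normalizer hFK h.AF
        AV := secIm_le_normalizer hVK h.AV
        BF := secIm_le_normalizer hFK h.BF
        BV := secIm_le_normalizer hVK h.BV
        FV := secIm_le_normalizer hVK h.FV
        fix := by
          rw [secIm_inf_centralizer hAK hFK h.AF (ml_act h.hA (h.hF.to_le inf_le_left) num.pt
            (le_normalizer_inf h.AF hAK)), ← secIm_commutator (inf_le_left.trans hFK) hBK]
          exact secIm_le_centralizer h.fix }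
      (secMk K ⟨x, hBK hx⟩) (secMk_mem_secIm hx) (by
        rw [← secIm_zpowers (hBK hx), ← secIm_commutator hVK (zpowers_le_of_mem (hBK hx))]
        exact (Nat.le_of_dvd Nat.card_pos (card_secIm_dvd _)).trans hs)
    rw [← secIm_zpowers (hBK hx), ← secIm_commutator hFK (zpowers_le_of_mem (hBK hx))] at hc
    have hXF : ⁅F, zpowers x⁆ ≤ F :=
      Quad.commutator_le_of_le_normalizer ((zpowers_le_of_mem hx).trans h.BF)
    have h1 := commutator_eq_bot_iff_le_centralizer.2 hc
    rw [← secIm_commutator (hXF.trans hFK) hVK, secIm_eq_bot_iff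
      ((le_normalizer_iff_commutator_le_right.1 (hXF.trans h.FV)).trans hVK)] at h1
    refine commutator_eq_bot_iff_le_centralizer.1 (eq_bot_iff.2 ?_)
    rw [← hVK']
    exact le_inf (le_normalizer_iff_commutator_le_right.1 (hXF.trans h.FV)) h1

theorem ml_main {G : Type*} [Group G] [Finite G] {p r t : ℕ} [Fact p.Prime] [Fact r.Prime]
    [Fact t.Prime] (num : MLNum p r t) {A B F V : Subgroup G} (h : MLH p r t A B F V) :
    MLC r B F V :=
  ml_aux num _ rfl h

end Cfsg.Lib.FT
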