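import Cfsg.Agent.Lib.Signalizer.SFT.Tools
import Cfsg.Agent.Lib.Small.Order24
import Cfsg.Agent.Lib.Quad.Offender

/-!
# Tools for the module lemma: counting, the averaging map, weights
-/

set_option autoImplicit false

namespace Cfsg.Lib.FT
open Subgroup Cfsg.Lib
open scoped commutatorElement

variable {G : Type*} [Group G] [Finite G] {p : ℕ} {A F M V : Subgroup G}

theorem ml_T2 [hp : Fact p.Prime] (hA : IsPGroup p A) (hF : ¬ p ∣ Nat.card F) (AF : A ≤ N[F])
    (AM : A ≤ N[M]) (hle : M ≤ F) (hC : F ⊓ C[A] ≤ M) : M.relIndex F ≡ 1 [MOD p] := by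
  have h1 := sm_card_modEq_card_inf_centralizer hA AF
  have h2 := sm_card_modEq_card_inf_centralizer hA AM
  have e : M ⊓ C[A] = F ⊓ C[A] :=
    le_antisymm (inf_le_inf_right _ hle) (le_inf hC inf_le_right)
  rw [e] at h2
  have h3 : Nat.card F ≡ Nat.card M [MOD p] := h1.trans h2.symm
  rw [card_eq_relIndex_mul hle] at h3
  have hc : Nat.Coprime p (Nat.card M) :=
    (Nat.Prime.coprime_iff_not_dvd hp.out).2 fun h => hF (h.trans (card_dvd_of_le hle))
  exact Nat.ModEq.cancel_right_of_coprime hc (by simpa using h3)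

theorem ml_T2' [hp : Fact p.Prime] (hA : IsPGroup p A) (hF : ¬ p ∣ Nat.card F) (AF : A ≤ N[F])
    (AM : A ≤ N[M]) (hle : M ≤ F) (hn : F ≤ N[M])
    (hd : ∀ d, d ∣ M.relIndex F → d ≡ 1 [MOD p] → d = 1) : ⁅F, A⁆ ≤ M := by
  have hAC : A ≤ N[F ⊓ C[A]] := le_normalizer_inf AF (le_normalizer_centralizer_self A)
  have h1 := ml_T2 hA hF AF (le_normalizer_sup AM hAC) (sup_le hle inf_le_left) le_sup_right
  have h2 := hd _ (relIndex_dvd_of_le_left F le_sup_left) h1
  rw [relIndex_eq_one] at h2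
  rw [commutator_le]
  intro f hf a ha
  obtain ⟨m, hm, c, hc, rfl⟩ :=
    (mem_sup_of_le_normalizer (inf_le_left.trans hn)).1 (h2 hf)
  have e : c * a = a * c := (hc.2 a ha).symm
  have : ⁅m * c, a⁆ = m * (a * m⁻¹ * a⁻¹) := by
    rw [commutatorElement_def]
    calc m * c * a * (m * c)⁻¹ * a⁻¹ = m * (c * a) * c⁻¹ * m⁻¹ * a⁻¹ := by group
      _ = m * (a * m⁻¹ * a⁻¹) := by rw [e]; group
  rw [this]
  exact M.mul_mem hm (conj_mem_of_le_normalizer AM ha (M.inv_mem hm))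

/-- the averaging lemma -/
theorem ml_key [hp : Fact p.Prime] (hA : IsPGroup p A) (hF : ¬ p ∣ Nat.card F) (AF : A ≤ N[F])
    (hle : M ≤ F) (hn : F ≤ N[M]) (hc : ⁅F, F⁆ ≤ M) (hC : F ⊓ C[A] ≤ M) {A0 : Subgroup G}
    (hA0 : A0 ≤ A) {u : G} (hu : u ∈ F) (h1 : ∀ a ∈ A, a ∉ A0 → a * u * a⁻¹ ∈ M)
    (h2 : ∀ a ∈ A0, ⁅a, u⁆ ∈ M) : u ∈ M := by
  classical
  haveI : (M.subgroupOf F).Normal := (normal_subgroupOf_iff_le_normalizer hle).2 hn
  letI : CommGroup (F ⧸ M.subgroupOf F) :=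
    { (inferInstance : Group (F ⧸ M.subgroupOf F)) with
      mul_comm := by
        intro a b
        induction a using QuotientGroup.induction_on with | H a => ?_
        induction b using QuotientGroup.induction_on with | H b => ?_
        rw [← QuotientGroup.mk_mul, ← QuotientGroup.mk_mul, QuotientGroup.eq, mem_subgroupOf]
        have : ((a * b)⁻¹ * (b * a) : F) = ⁅b⁻¹, a⁻¹⁆ := by rw [commutatorElement_def]; group
        rw [this]
        exact hc (commutator_mem_commutator (F.inv_mem b.2) (F.inv_mem a.2)) }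
  haveI := Fintype.ofFinite A
  let π : F →* F ⧸ M.subgroupOf F := QuotientGroup.mk' _
  have hπ : ∀ x : F, π x = 1 ↔ (x : G) ∈ M := fun x => by
    rw [← MonoidHom.mem_ker, QuotientGroup.ker_mk', mem_subgroupOf]
  let c : A → F →* F := fun a =>
    { toFun := fun f => ⟨a * f * (a : G)⁻¹, conj_mem_of_le_normalizer AF a.2 f.2⟩
      map_one' := by ext; simp
      map_mul' := fun x y => by ext; simp [mul_assoc] }
  let τ : F →* F ⧸ M.subgroupOf F := ∏ a : A, π.comp (c a)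
  have hτ : ∀ f, τ f = ∏ a : A, π (c a f) := fun f => by
    simp only [τ, MonoidHom.finset_prod_apply, MonoidHom.comp_apply]
  have hinv : ∀ (b : A) f, τ (c b f) = τ f := fun b f => by
    rw [hτ, hτ]
    refine Fintype.prod_equiv (Equiv.mulRight b) _ _ fun a => ?_
    congr 1
    ext
    simp [c, mul_assoc]
  have hker : F ≤ τ.ker.map F.subtype := by
    refine (CoprimeAct.of_isPGroup hA hF AF).commutator_sup_centralizer.ge.trans (sup_le ?_ ?_)
    · rw [commutator_le]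
      intro f hf a ha
      refine ⟨⟨f, hf⟩ * (c ⟨a, ha⟩ ⟨f, hf⟩)⁻¹, ?_, ?_⟩
      · rw [SetLike.mem_coe, MonoidHom.mem_ker, map_mul, map_inv, hinv, mul_inv_cancel]
      · simp [c, commutatorElement_def, mul_assoc]
    · intro f hf
      refine ⟨⟨f, hf.1⟩, ?_, rfl⟩
      rw [SetLike.mem_coe, MonoidHom.mem_ker, hτ]
      refine Finset.prod_eq_one fun a _ => (hπ _).2 ?_
      have e : a * f = f * a := hf.2 a a.2
      have : (a : G) * f * (a : G)⁻¹ = f := by rw [e]; group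
      change (a : G) * f * (a : G)⁻¹ ∈ M
      rw [this]; exact hC hf
  obtain ⟨u', hu', e⟩ := hker hu
  have e' : u' = ⟨u, hu⟩ := Subtype.ext e
  subst e'
  rw [SetLike.mem_coe, MonoidHom.mem_ker, hτ] at hu'
  have h3 : ∀ a : A, π (c a ⟨u, hu⟩) = if (a : G) ∈ A0 then π ⟨u, hu⟩ else 1 := fun a => by
    split_ifs with ha
    · rw [← mul_inv_eq_one, ← map_inv, ← map_mul, hπ]
      exact h2 a ha
    · exact (hπ _).2 (h1 a a.2 ha)
  simp only [h3, Finset.prod_ite, Finset.prod_const, one_pow, mul_one] at hu'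
  have hcard : (Finset.univ.filter fun a : A => (a : G) ∈ A0).card = Nat.card A0 := by
    rw [← Fintype.card_subtype, ← Nat.card_eq_fintype_card]
    exact Nat.card_congr (subgroupOfEquivOfLe hA0).toEquiv
  rw [hcard] at hu'
  obtain ⟨k, hk⟩ := IsPGroup.iff_card.1 (hA.to_le hA0)
  have hd1 : orderOf (π ⟨u, hu⟩) ∣ p ^ k := hk ▸ orderOf_dvd_of_pow_eq_one hu'
  have hd2 : orderOf (π ⟨u, hu⟩) ∣ Nat.card F := (orderOf_map_dvd π _).trans (orderOf_dvd_natCard _)
  have hco : Nat.Coprime (p ^ k) (Nat.card F) :=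
    Nat.Coprime.pow_left _ ((Nat.Prime.coprime_iff_not_dvd hp.out).2 hF)
  exact (hπ _).1 (orderOf_eq_one_iff.1 (Nat.eq_one_of_dvd_coprimes hco hd1 hd2))

/-- orbit bound -/
theorem ml_orb {H : Subgroup G} {g : G} {S : Set G} (h : ∀ y ∈ H, y * g * y⁻¹ ∈ S) :
    (C1[g]).relIndex H ≤ S.ncard := by
  rw [relIndex, index, ← Nat.card_coe_set_eq]
  let f : H ⧸ (C1[g]).subgroupOf H → S := Quotient.lift (fun y : H => ⟨_, h y y.2⟩) (by
    intro a b hab
    have := QuotientGroup.leftRel_apply.1 hab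
    rw [mem_subgroupOf, mem_centralizer_singleton_iff] at this
    ext
    change (a : G) * g * (a : G)⁻¹ = b * g * (b : G)⁻¹
    have e : ((a : G)⁻¹ * b) * g = g * ((a : G)⁻¹ * b) := this
    calc (a : G) * g * (a : G)⁻¹ = a * (g * ((a : G)⁻¹ * b)) * (b : G)⁻¹ := by group
      _ = b * g * (b : G)⁻¹ := by rw [← e]; group)
  refine Nat.card_le_card_of_injective f fun a b hab => ?_
  induction a using QuotientGroup.induction_on with | H a => ?_
  induction b using QuotientGroup.induction_on with | H b => ?_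
  have e : (a : G) * g * (a : G)⁻¹ = b * g * (b : G)⁻¹ := congrArg Subtype.val hab
  rw [QuotientGroup.eq, mem_subgroupOf, mem_centralizer_singleton_iff]
  change ((a : G)⁻¹ * b) * g = g * ((a : G)⁻¹ * b)
  calc ((a : G)⁻¹ * b) * g = (a : G)⁻¹ * (b * g * (b : G)⁻¹) * b := by group
    _ = g * ((a : G)⁻¹ * b) := by rw [← e]; group

theorem ml_CI {H Z : Subgroup G} {g : G} (h : ∀ y ∈ H, ⁅y, g⁆ ∈ Z) :
    (C1[g]).relIndex H ≤ Nat.card Z := by
  have := ml_orb (H := H) (g := g) (S := (fun z => z * g) '' (Z : Set G)) fun y hy =>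
    ⟨_, h y hy, by simp [commutatorElement_def]⟩
  rwa [Set.ncard_image_of_injective _ (mul_left_injective g), ← Nat.card_coe_set_eq] at this

theorem ml_orb' {H W : Subgroup G} {g : G} (hW : H ≤ N[W]) (hg : g ∈ W) (h1 : g ≠ 1) :
    (C1[g]).relIndex H + 1 ≤ Nat.card W := by
  have := ml_orb (H := H) (g := g) (S := (W : Set G) \ {1}) fun y hy =>
    ⟨conj_mem_of_le_normalizer hW hy hg, fun e => h1 (by
      have e' : y * g * y⁻¹ = 1 := e
      calc g = y⁻¹ * (y * g * y⁻¹) * y := by group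
        _ = 1 := by rw [e']; group)⟩
  have h2 := Set.ncard_diff_singleton_add_one (s := (W : Set G)) W.one_mem
  have h3 : (W : Set G).ncard = Nat.card W := (Nat.card_coe_set_eq _).symm
  omega

/-- a subgroup meeting `C(x)` trivially injects into `[V, x]` -/
theorem ml_card_le_comm (hV : IsMulCommutative V) {x : G} (hx : x ∈ N[V]) {W : Subgroup G}
    (hW : W ≤ V) (h : W ⊓ C[zpowers x] = ⊥) : Nat.card W ≤ Nat.card ↥(⁅V, zpowers x⁆) := by
  have h1 := Quad.card_commutator_zpowers_mul hV hx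
  have h2 := Quad.card_mul_card_le_card_sup_mul_card_inf W (V ⊓ C[zpowers x])
  have e : W ⊓ (V ⊓ C[zpowers x]) = ⊥ := by
    rw [← inf_assoc, inf_eq_left.2 hW, h]
  rw [e, card_bot, mul_one] at h2
  have h3 : Nat.card ↥(W ⊔ V ⊓ C[zpowers x]) ≤ Nat.card V := card_le_of_le (sup_le hW inf_le_left)
  rw [← h1] at h3
  exact Nat.le_of_mul_le_mul_right (h2.trans h3) Nat.card_pos

theorem ml_card_mul_le {W₁ W₂ X : Subgroup G} (h₁ : W₁ ≤ X) (h₂ : W₂ ≤ X) (h : W₁ ⊓ W₂ = ⊥) :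
    Nat.card W₁ * Nat.card W₂ ≤ Nat.card X := by
  have h2 := Quad.card_mul_card_le_card_sup_mul_card_inf W₁ W₂
  rw [h, card_bot, mul_one] at h2
  exact h2.trans (card_le_of_le (sup_le h₁ h₂))

theorem ml_comm_mul_le (hV : IsMulCommutative V) {x y : G} (hx : x ∈ N[V]) (hy : y ∈ N[V]) :
    ⁅V, zpowers (x * y)⁆ ≤ ⁅V, zpowers x⁆ ⊔ ⁅V, zpowers y⁆ := by
  intro w hw
  obtain ⟨v, hv, rfl⟩ := (Quad.mem_commutator_zpowers_iff hV (mul_mem hx hy)).1 hw
  have hv' : y * v * y⁻¹ ∈ V := conj_mem_of_mem_normalizer hy hv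
  have : ⁅v, x * y⁆ = ⁅v, y⁆ * ⁅y * v * y⁻¹, x⁆ := by simp only [commutatorElement_def]; group
  rw [this]
  exact mul_mem (mem_sup_right (commutator_mem_commutator hv (mem_zpowers y)))
    (mem_sup_left (commutator_mem_commutator hv' (mem_zpowers x)))

theorem ml_comm_conj {x k : G} (hk : k ∈ N[V]) :
    ⁅V, zpowers (k * x * k⁻¹)⁆ = k •ᶜ ⁅V, zpowers x⁆ := by
  rw [map_commutator, map_conj_eq_of_mem_normalizer hk, MonoidHom.map_zpowers]
  rfl

theorem ml_card_sup_le (hV : IsMulCommutative V) {X Y : Subgroup G} (hX : X ≤ V) (hY : Y ≤ V) :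
    Nat.card ↥(X ⊔ Y) ≤ Nat.card X * Nat.card Y := by
  have := Quad.card_sup_mul_card_inf (hX.trans (le_normalizer_of_le_of_comm hV hY))
  rw [← this]
  exact Nat.le_mul_of_pos_right _ Nat.card_pos

/-- `|[V, [x, k]]| ≤ |[V, x]|²` -/
theorem ml_card_comm_comm (hV : IsMulCommutative V) {x k : G} (hx : x ∈ N[V]) (hk : k ∈ N[V]) :
    Nat.card ↥(⁅V, zpowers ⁅x, k⁆⁆) ≤ Nat.card ↥(⁅V, zpowers x⁆) ^ 2 := by
  have e : ⁅x, k⁆ = x * (k * x⁻¹ * k⁻¹) := by rw [commutatorElement_def]; group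
  have hy : k * x⁻¹ * k⁻¹ ∈ N[V] := mul_mem (mul_mem hk (inv_mem hx)) (inv_mem hk)
  have h1 := card_le_of_le (ml_comm_mul_le hV hx hy)
  rw [← e] at h1
  refine h1.trans ((ml_card_sup_le hV
    (Quad.commutator_le_of_le_normalizer (zpowers_le_of_mem hx))
    (Quad.commutator_le_of_le_normalizer (zpowers_le_of_mem hy))).trans ?_)
  rw [ml_comm_conj hk, card_map_conj, zpowers_inv, sq]

/-- `|V| = |[V,u]|` when `u` is fixed point free -/
theorem ml_comm_eq_of_fpf (hV : IsMulCommutative V) {u : G} (hu : u ∈ N[V])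
    (h : V ⊓ C[zpowers u] = ⊥) : ⁅V, zpowers u⁆ = V :=
  Quad.eq_of_le_of_card_le (Quad.commutator_le_of_le_normalizer (zpowers_le_of_mem hu))
    (ml_card_le_comm hV hu le_rfl h)

end Cfsg.Lib.FT
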