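import Cfsg.Agent.Lib.SF2.ML1

/-!
# Weights of an elementary abelian `t`-group on an elementary abelian `r`-group
-/

set_option autoImplicit false

namespace Cfsg.Lib.FT
open Subgroup Cfsg.Lib
open scoped commutatorElement

variable {G : Type*} [Group G] [Finite G] {r t : ℕ} {D V l m : Subgroup G}

theorem ml_eq_or_eq_of_prime (ht : t.Prime) (h : l.relIndex D = t) (h1 : l ≤ m) (h2 : m ≤ D) :
    m = l ∨ m = D := by
  have := relIndex_mul_relIndex l m D h1 h2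
  rw [h] at this
  rcases (Nat.dvd_prime ht).1 (Dvd.intro _ this) with h3 | h3
  · exact Or.inl (le_antisymm (relIndex_eq_one.1 h3) h1)
  · rw [h3] at this
    have h4 : m.relIndex D = 1 := by
      have := ht.pos
      nlinarith
    exact Or.inr (le_antisymm h2 (relIndex_eq_one.1 h4))

theorem ml_not_dvd {p : ℕ} [hp : Fact p.Prime] [ht : Fact t.Prime] (h : IsPGroup t D)
    (hne : p ≠ t) : ¬ p ∣ Nat.card D := by
  obtain ⟨k, hk⟩ := IsPGroup.iff_card.1 h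
  rw [hk]
  intro hd
  exact hne ((Nat.prime_dvd_prime_iff_eq hp.out ht.out).1 (hp.out.dvd_of_dvd_pow hd))

theorem ml_act {p : ℕ} [hp : Fact p.Prime] [ht : Fact t.Prime] {A : Subgroup G} (hA : IsPGroup p A)
    (h : IsPGroup t D) (hne : p ≠ t) (hn : A ≤ N[D]) : CoprimeAct A D :=
  CoprimeAct.of_isPGroup hA (ml_not_dvd h hne) hn

theorem ml_zp {x : G} (h : IsPGroup r D) (hx : x ∈ D) : IsPGroup r (zpowers x) :=
  h.to_le (zpowers_le_of_mem hx)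

/-- the setting: `D` acts without fixed points on `V` -/
structure WS (r t : ℕ) (D V : Subgroup G) : Prop where
  hD : IsElementaryAbelian t D
  hV : IsElementaryAbelian r V
  tr : t ≠ r
  DV : D ≤ N[V]
  fpf : V ⊓ C[D] = ⊥
  ne : D ≠ ⊥

/-- a weight -/
structure Wt (t : ℕ) (D V l : Subgroup G) : Prop where
  le : l ≤ D
  idx : l.relIndex D = t
  ne : V ⊓ C[l] ≠ ⊥

theorem ml_conj_wsp {g : G} (hV : g ∈ N[V]) : V ⊓ C[g •ᶜ l] = g •ᶜ (V ⊓ C[l]) := by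
  rw [map_conj_inf, map_conj_eq_of_mem_normalizer hV, centralizer_map_conj]

theorem ml_norm_wsp {X : Subgroup G} (hV : X ≤ N[V]) (hl : X ≤ N[l]) : X ≤ N[V ⊓ C[l]] :=
  le_normalizer_inf hV (le_normalizer_centralizer hl)

theorem Wt.conj (h : Wt t D V l) {g : G} (hD : g ∈ N[D]) (hV : g ∈ N[V]) :
    Wt t D V (g •ᶜ l) where
  le := map_conj_le_of_mem_normalizer h.le hD
  idx := by
    have := relIndex_conj g l D
    rw [map_conj_eq_of_mem_normalizer hD] at this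
    rw [this, h.idx]
  ne := by
    rw [ml_conj_wsp hV]
    intro e
    exact h.ne ((map_eq_bot_iff_of_injective _ (MulAut.conj g).injective).1 e)

variable [hr : Fact r.Prime] [ht : Fact t.Prime]

namespace WS
variable (h : WS r t D V)
include h

theorem act {X : Subgroup G} (hX : X ≤ D) {W : Subgroup G} (hW : W ≤ V) (hn : X ≤ N[W]) :
    CoprimeAct X W :=
  ml_act ((elemAb_isPGroup h.hD).to_le hX) ((elemAb_isPGroup h.hV).to_le hW) h.tr hn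

theorem le_of {X : Subgroup G} (hX : ∀ l, Wt t D V l → V ⊓ C[l] ≤ X) : V ≤ X := by
  refine (h.act le_rfl le_rfl h.DV).le_of_hyperplane h.hD h.ne fun l hl hi => ?_
  by_cases hb : V ⊓ C[l] = ⊥
  · rw [hb]; exact bot_le
  · exact hX l ⟨hl, hi, hb⟩

theorem D_norm (hl : l ≤ D) : D ≤ N[V ⊓ C[l]] :=
  ml_norm_wsp h.DV (le_normalizer_of_le_of_comm h.hD.1 hl)

theorem inf_C_eq_bot (hl : Wt t D V l) {X : Subgroup G} (hX : X ≤ D) (hXl : ¬ X ≤ l) :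
    (V ⊓ C[l]) ⊓ C[X] = ⊥ := by
  rcases ml_eq_or_eq_of_prime ht.out hl.idx (le_sup_left : l ≤ l ⊔ X) (sup_le hl.le hX) with e | e
  · exact absurd (le_sup_right.trans e.le) hXl
  · rw [inf_assoc, ← centralizer_sup, e, h.fpf]

theorem not_le (hl : Wt t D V l) (hm : Wt t D V m) (hne : l ≠ m) : ¬ l ≤ m := fun hle => by
  rcases ml_eq_or_eq_of_prime ht.out hl.idx hle hm.le with e | e
  · exact hne e.symm
  · have := hm.idx
    rw [e, relIndex_self] at this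
    exact ht.out.one_lt.ne this

theorem le_comm_of (hm : Wt t D V m) {X : Subgroup G} (hX : X ≤ D) (hXm : ¬ X ≤ m) :
    V ⊓ C[m] ≤ ⁅V ⊓ C[m], X⁆ := by
  have := (h.act hX inf_le_left (hX.trans (h.D_norm hm.le))).commutator_sup_centralizer
  rw [h.inf_C_eq_bot hm hX hXm, sup_bot_eq] at this
  exact this.ge

theorem le_comm (hl : Wt t D V l) (hm : Wt t D V m) (hne : l ≠ m) : V ⊓ C[m] ≤ ⁅V, l⁆ :=
  (h.le_comm_of hm hl.le (h.not_le hl hm hne)).trans (commutator_mono inf_le_left le_rfl)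

theorem comm_inf (hl : l ≤ D) : ⁅V, l⁆ ⊓ C[l] = ⊥ :=
  commutator_inf_centralizer_eq_bot_of_comm (hl.trans h.DV)
    (h.act hl le_rfl (hl.trans h.DV)).cop h.hV.1

theorem eq_one (hl : Wt t D V l) {v : G} (h1 : v ∈ ⁅V, l⁆) (h2 : v ∈ V ⊓ C[l]) : v = 1 := by
  have : v ∈ ⁅V, l⁆ ⊓ C[l] := ⟨h1, h2.2⟩
  rwa [h.comm_inf hl.le, mem_bot] at this

theorem inf_eq_bot (hl : Wt t D V l) {X : Subgroup G} (hX : X ≤ ⁅V, l⁆) {Y : Subgroup G}
    (hY : Y ≤ V ⊓ C[l]) : X ⊓ Y = ⊥ :=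
  eq_bot_iff.2 fun _ hv => mem_bot.2 (h.eq_one hl (hX hv.1) (hY hv.2))

theorem card_mod (hl : Wt t D V l) : Nat.card ↥(V ⊓ C[l]) ≡ 1 [MOD t] := by
  have := sm_card_modEq_card_inf_centralizer (elemAb_isPGroup h.hD) (h.D_norm hl.le)
  rwa [h.inf_C_eq_bot hl le_rfl (fun hle => by
    have := hl.idx
    rw [relIndex_eq_one.2 hle] at this
    exact ht.out.one_lt.ne this), card_bot] at this

theorem le_of_cent (hl : Wt t D V l) {d : G} (hd : d ∈ D) (hc : d ∈ C[V ⊓ C[l]]) : d ∈ l := by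
  by_contra hn
  have := h.inf_C_eq_bot hl (zpowers_le_of_mem hd) (fun hle => hn (hle (mem_zpowers d)))
  refine hl.ne ?_
  rw [← this]
  exact (inf_eq_left.2 (le_centralizer_iff.1 (zpowers_le_of_mem hc))).symm

theorem three {l₁ l₂ l₃ W₁ W₂ W₃ X : Subgroup G} (h₁ : Wt t D V l₁) (h₂ : Wt t D V l₂)
    (h₃ : Wt t D V l₃) (n12 : l₁ ≠ l₂) (n13 : l₁ ≠ l₃) (n23 : l₂ ≠ l₃) (w₁ : W₁ ≤ V ⊓ C[l₁])
    (w₂ : W₂ ≤ V ⊓ C[l₂]) (w₃ : W₃ ≤ V ⊓ C[l₃]) (x₁ : W₁ ≤ X) (x₂ : W₂ ≤ X) (x₃ : W₃ ≤ X) :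
    Nat.card W₁ * Nat.card W₂ * Nat.card W₃ ≤ Nat.card X := by
  have a := ml_card_mul_le (le_sup_left : W₁ ≤ W₁ ⊔ W₂) le_sup_right
    (h.inf_eq_bot h₂ (w₁.trans (h.le_comm h₂ h₁ n12.symm)) w₂)
  have b := ml_card_mul_le (sup_le x₁ x₂) x₃ (h.inf_eq_bot h₃
    (sup_le (w₁.trans (h.le_comm h₃ h₁ n13.symm)) (w₂.trans (h.le_comm h₃ h₂ n23.symm))) w₃)
  exact (Nat.mul_le_mul_right _ a).trans b

theorem le_card {W : Subgroup G} (hW : W ≤ V) (hne : W ≠ ⊥) : r ≤ Nat.card W :=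
  Nat.le_of_dvd Nat.card_pos
    (dvd_card_of_isPGroup_of_ne_bot ((elemAb_isPGroup h.hV).to_le hW) hne)

/-- an element with `|[V,x]| ≤ r²` acts nontrivially on at most two invariant weight spaces -/
theorem supp_le_two {x : G} (hx : x ∈ N[V]) (hs : Nat.card ↥(⁅V, zpowers x⁆) ≤ r ^ 2)
    {l₁ l₂ l₃ : Subgroup G} (h₁ : Wt t D V l₁) (h₂ : Wt t D V l₂) (h₃ : Wt t D V l₃)
    (x₁ : x ∈ N[l₁]) (x₂ : x ∈ N[l₂]) (x₃ : x ∈ N[l₃]) (c₁ : x ∉ C[V ⊓ C[l₁]])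
    (c₂ : x ∉ C[V ⊓ C[l₂]]) (c₃ : x ∉ C[V ⊓ C[l₃]]) (n12 : l₁ ≠ l₂) : l₃ = l₁ ∨ l₃ = l₂ := by
  by_contra hcon
  push_neg at hcon
  have key : ∀ l : Subgroup G, x ∈ N[l] → x ∉ C[V ⊓ C[l]] → ⁅V ⊓ C[l], zpowers x⁆ ≤ V ⊓ C[l] ∧
      ⁅V ⊓ C[l], zpowers x⁆ ≤ ⁅V, zpowers x⁆ ∧ r ≤ Nat.card ↥(⁅V ⊓ C[l], zpowers x⁆) := by
    intro l hl hc
    have a : ⁅V ⊓ C[l], zpowers x⁆ ≤ V ⊓ C[l] := Quad.commutator_le_of_le_normalizer
      (ml_norm_wsp (zpowers_le_of_mem hx) (zpowers_le_of_mem hl))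
    refine ⟨a, commutator_mono inf_le_left le_rfl, h.le_card (a.trans inf_le_left) fun e => ?_⟩
    exact hc (le_centralizer_of_commutator_eq_bot' e (mem_zpowers x))
  obtain ⟨a1, b1, d1⟩ := key _ x₁ c₁
  obtain ⟨a2, b2, d2⟩ := key _ x₂ c₂
  obtain ⟨a3, b3, d3⟩ := key _ x₃ c₃
  have := h.three h₁ h₂ h₃ n12 hcon.1.symm hcon.2.symm a1 a2 a3 b1 b2 b3
  have h4 : r * r * r ≤ r ^ 2 :=
    (Nat.mul_le_mul (Nat.mul_le_mul d1 d2) d3).trans (this.trans hs)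
  have := hr.out.one_lt
  nlinarith

/-- with two weight spaces in the support the element is a transvection on each of them -/
theorem transv {x : G} (hx : x ∈ N[V]) (hs : Nat.card ↥(⁅V, zpowers x⁆) ≤ r ^ 2)
    {l₁ l₂ : Subgroup G} (h₁ : Wt t D V l₁) (h₂ : Wt t D V l₂)
    (x₁ : x ∈ N[l₁]) (x₂ : x ∈ N[l₂]) (c₂ : x ∉ C[V ⊓ C[l₂]]) (n12 : l₁ ≠ l₂) :
    Nat.card ↥(⁅V ⊓ C[l₁], zpowers x⁆) ≤ r := by
  have a : ∀ l : Subgroup G, x ∈ N[l] → ⁅V ⊓ C[l], zpowers x⁆ ≤ V ⊓ C[l] := fun l hl =>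
    Quad.commutator_le_of_le_normalizer
      (ml_norm_wsp (zpowers_le_of_mem hx) (zpowers_le_of_mem hl))
  have b := ml_card_mul_le (X := ⁅V, zpowers x⁆) (commutator_mono inf_le_left le_rfl)
    (commutator_mono inf_le_left le_rfl)
    (h.inf_eq_bot h₂ ((a _ x₁).trans (h.le_comm h₂ h₁ n12.symm)) (a _ x₂))
  have c := h.le_card ((a _ x₂).trans inf_le_left) fun e =>
    c₂ (le_centralizer_of_commutator_eq_bot' e (mem_zpowers x))
  have d : Nat.card ↥(⁅V ⊓ C[l₁], zpowers x⁆) * r ≤ r * r :=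
    (Nat.mul_le_mul_left _ c).trans (b.trans (by rw [← sq]; exact hs))
  exact Nat.le_of_mul_le_mul_right d hr.out.pos

end WS

end Cfsg.Lib.FT
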