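import Cfsg.Agent.Lib.SF2.ML2
import Cfsg.Agent.Lib.Signalizer.SFT.Quot

/-!
# The module lemma: the minimal counterexample
-/

set_option autoImplicit false
set_option maxHeartbeats 400000

namespace Cfsg.Lib.FT
open Subgroup Cfsg.Lib
open scoped commutatorElement

variable {G : Type*} [Group G] [Finite G] {p r t : ℕ} {A B E F V : Subgroup G}

theorem ml_inf_le {R X Z : Subgroup G} (h : CoprimeAct R X) (hc : ⁅X, X⁆ ≤ Z) (hR : R ≤ N[Z])
    (hX : X ≤ N[Z]) : ⁅X, R⁆ ⊓ C[R] ≤ Z := by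
  have h1 := coprimeAct_secIm (K := Z) h hR hX
  have h2 := commutator_inf_centralizer_eq_bot_of_comm h1.norm h1.cop
    (isMulCommutative_secIm hX hc)
  rw [← secIm_eq_bot_iff (inf_le_left.trans (h.commutator_le.trans hX)), eq_bot_iff, ← h2,
    ← secIm_commutator hX hR]
  exact le_inf (secIm_mono inf_le_left) (secIm_le_centralizer inf_le_right)

/-- the hypotheses of the module lemma -/
structure MLH (p r t : ℕ) (A B F V : Subgroup G) : Prop where
  hA : IsPGroup p A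
  hB : IsPGroup r B
  hF : IsPGroup t F
  hV : IsElementaryAbelian r V
  AB : A ≤ N[B]
  AF : A ≤ N[F]
  AV : A ≤ N[V]
  BF : B ≤ N[F]
  BV : B ≤ N[V]
  FV : F ≤ N[V]
  fix : ⁅F ⊓ C[A], B⁆ ≤ C[V]

/-- the conclusion of the module lemma -/
def MLC (r : ℕ) (B F V : Subgroup G) : Prop :=
  ∀ x ∈ B, Nat.card ↥(⁅V, zpowers x⁆) ≤ r ^ 2 → ⁅F, zpowers x⁆ ≤ C[V]

structure MLNum (p r t : ℕ) : Prop where
  p2 : p ≠ 2
  pr : p ≠ r
  pt : p ≠ t
  tr : t ≠ r
  r23 : r = 2 ∨ r = 3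

/-- a minimal counterexample -/
structure MLMin (p r t : ℕ) (A E F V : Subgroup G) : Prop extends MLH p r t A E F V, MLNum p r t where
  faith : F ⊓ C[V] = ⊥
  gen : E ≤ closure {y | y ∈ E ∧ Nat.card ↥(⁅V, zpowers y⁆) ≤ r ^ 2}
  ih : ∀ A' F' V' : Subgroup G, MLH p r t A' E F' V' →
    Nat.card F' + Nat.card V' < Nat.card F + Nat.card V → MLC r E F' V'
  bad : ¬ F ≤ C[E]

variable [hp : Fact p.Prime] [hr : Fact r.Prime] [ht : Fact t.Prime]

namespace MLMin
variable (h : MLMin p r t A E F V)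
include h

theorem actE {R X : Subgroup G} (hR : R ≤ E) (hX : X ≤ F) (hn : R ≤ N[X]) : CoprimeAct R X :=
  ml_act (h.hB.to_le hR) (h.hF.to_le hX) h.tr.symm hn

theorem actF {R X : Subgroup G} (hR : R ≤ F) (hX : X ≤ V) (hn : R ≤ N[X]) : CoprimeAct R X :=
  ml_act (h.hF.to_le hR) ((elemAb_isPGroup h.hV).to_le hX) h.tr hn

theorem ndF : ¬ p ∣ Nat.card F := ml_not_dvd h.hF h.pt

theorem eq_bot {X : Subgroup G} (h1 : X ≤ F) (h2 : X ≤ C[V]) : X = ⊥ :=
  eq_bot_iff.2 (h.faith ▸ le_inf h1 h2)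

theorem comm_le {x : G} (hx : x ∈ E) : ⁅F, zpowers x⁆ ≤ F :=
  Quad.commutator_le_of_le_normalizer ((zpowers_le_of_mem hx).trans h.BF)

theorem le_of_small {X : Subgroup G}
    (hX : ∀ y ∈ E, Nat.card ↥(⁅V, zpowers y⁆) ≤ r ^ 2 → y ∈ X) : E ≤ X :=
  h.gen.trans ((closure_le _).2 fun y hy => hX y hy.1 hy.2)

theorem proper {P : Subgroup G} (hP : P < F) (hA : A ≤ N[P]) (hE : E ≤ N[P]) : P ≤ C[E] := by
  have hc := h.ih A P V
    { h.toMLH with
      hF := h.hF.to_le hP.le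
      AF := hA
      BF := hE
      FV := hP.le.trans h.FV
      fix := (commutator_mono (inf_le_inf_right _ hP.le) le_rfl).trans h.fix }
    (by have := Quad.card_lt_of_lt hP; omega)
  refine le_centralizer_iff.1 (h.le_of_small fun y hy hs => ?_)
  have := h.eq_bot ((commutator_mono hP.le le_rfl).trans (h.comm_le hy)) (hc y hy hs)
  exact le_centralizer_of_commutator_eq_bot' this (mem_zpowers y)

theorem ne_bot : F ≠ ⊥ := fun e => h.bad (e ▸ bot_le)

theorem comm_eq : ⁅F, E⁆ = F := by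
  have hact := h.actE le_rfl le_rfl h.BF
  by_contra hne
  refine h.bad (hact.le_centralizer_of_commutator_le_centralizer (h.proper
    (lt_of_le_of_ne hact.commutator_le hne) (le_normalizer_commutator h.AF h.AB)
    (le_normalizer_commutator_right _ _)))

theorem phi_le : (frattini F).map F.subtype ≤ F ⊓ C[E] := by
  have hn := normalizer_le_normalizer_map_subtype_of_characteristic F (frattini F)
  refine le_inf (map_subtype_le _) (h.proper (lt_of_le_of_ne (map_subtype_le _) fun e => ?_)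
    (h.AF.trans hn) (h.BF.trans hn))
  haveI : Nontrivial F := (nontrivial_iff_ne_bot F).2 h.ne_bot
  refine pg_frattini_ne_top (G := F) (map_injective F.subtype_injective ?_)
  rw [e, ← MonoidHom.range_eq_map, range_subtype]

theorem der_le : ⁅F, F⁆ ≤ F ⊓ C[E] := by
  refine le_trans ?_ h.phi_le
  rw [pg_map_frattini_subtype h.hF]
  exact le_sup_left

theorem pow_memZ {f : G} (hf : f ∈ F) : f ^ t ∈ F ⊓ C[E] :=
  h.phi_le ⟨_, pg_pow_mem_frattini h.hF ⟨f, hf⟩, rfl⟩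

theorem Z_eq : F ⊓ C[E] = ⁅F, F⁆ := by
  refine le_antisymm ?_ h.der_le
  have := ml_inf_le (h.actE le_rfl le_rfl h.BF) le_rfl (le_normalizer_commutator h.BF h.BF)
    (le_normalizer_commutator_left _ _)
  rwa [h.comm_eq] at this

theorem F_norm_Z : F ≤ N[F ⊓ C[E]] := by
  rw [h.Z_eq]; exact le_normalizer_commutator_left _ _

theorem A_norm_Z : A ≤ N[F ⊓ C[E]] := le_normalizer_inf h.AF (le_normalizer_centralizer h.AB)

theorem E_norm_Z : E ≤ N[F ⊓ C[E]] := le_normalizer_inf h.BF (le_normalizer_centralizer_self E)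

theorem Z_cent : F ⊓ C[E] ≤ C[F] := by
  have h1 : ⁅⁅F ⊓ C[E], F⁆, E⁆ = ⊥ := commutator_eq_bot_iff_le_centralizer.2
    ((le_normalizer_iff_commutator_le_left.1 h.F_norm_Z).trans inf_le_right)
  have h2 : ⁅⁅E, F ⊓ C[E]⁆, F⁆ = ⊥ := by
    rw [commutator_eq_bot_symm (commutator_eq_bot_iff_le_centralizer.2 inf_le_right),
      commutator_bot_left]
  have h3 := commutator_commutator_eq_bot_of_rotate h2 h1
  rw [h.comm_eq] at h3
  exact le_centralizer_of_commutator_eq_bot' h3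

theorem ea_Z : IsElementaryAbelian t (F ⊓ C[E]) := by
  rw [h.Z_eq, Subgroup.commutator_def]
  have hm : ∀ a ∈ F, ∀ b ∈ F, ⁅a, b⁆ ∈ F ⊓ C[E] := fun a ha b hb =>
    h.der_le (commutator_mem_commutator ha hb)
  refine Quad.ea_closure ?_ ?_
  · rintro _ ⟨a, ha, b, hb, rfl⟩ _ ⟨c, hc, d, hd, rfl⟩
    exact (h.Z_cent (hm a ha b hb) _ (hm c hc d hd).1).symm
  · rintro _ ⟨a, ha, b, hb, rfl⟩
    have h1 : Commute ⁅a, b⁆ a := (h.Z_cent (hm a ha b hb) a ha).symm
    have key : ∀ n : ℕ, ⁅a ^ n, b⁆ = ⁅a, b⁆ ^ n := by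
      intro n
      induction n with
      | zero => simp
      | succ n ih =>
        have : ⁅a ^ (n + 1), b⁆ = a * ⁅a ^ n, b⁆ * a⁻¹ * ⁅a, b⁆ := by
          simp only [commutatorElement_def, pow_succ']; group
        rw [this, ih, ← (h1.pow_left n).eq, pow_succ]; group
    rw [← key, commutatorElement_eq_one_iff_mul_comm]
    exact (h.Z_cent (h.pow_memZ ha) b hb).symm

theorem irr {W : Subgroup G} (hW : W < V) (hA : A ≤ N[W]) (hE : E ≤ N[W]) (hF : F ≤ N[W]) :
    W ≤ C[F] := by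
  have hc := h.ih A F W
    { h.toMLH with
      hV := elemAb_mono h.hV hW.le
      AV := hA
      BV := hE
      FV := hF
      fix := h.fix.trans (centralizer_mono hW.le) }
    (by have := Quad.card_lt_of_lt hW; omega)
  have h1 : E ≤ commInto C[W] F := h.le_of_small fun y hy hs => by
    refine (le_commInto_iff.2 ⟨(zpowers_le_of_mem hy).trans (le_normalizer_centralizer hE), ?_⟩)
      (mem_zpowers y)
    rw [commutator_comm]
    exact hc y hy ((card_le_of_le (commutator_mono hW.le le_rfl)).trans hs)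
  have h2 := (le_commInto_iff.1 h1).2
  rw [commutator_comm, h.comm_eq] at h2
  exact le_centralizer_iff.1 h2

theorem not_cent : ¬ F ≤ C[V] := fun hc => h.ne_bot (h.eq_bot le_rfl hc)

theorem VF : V ⊓ C[F] = ⊥ := by
  have hact := h.actF le_rfl le_rfl h.FV
  by_cases e : ⁅V, F⁆ = V
  · have := commutator_inf_centralizer_eq_bot_of_comm h.FV hact.cop h.hV.1
    rwa [e] at this
  · exact absurd (le_centralizer_iff.1 (hact.le_centralizer_of_commutator_le_centralizer
      (h.irr (lt_of_le_of_ne hact.commutator_le e) (le_normalizer_commutator h.AV h.AF)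
        (le_normalizer_commutator h.BV h.BF) (le_normalizer_commutator_right _ _)))) h.not_cent

theorem irr' {W : Subgroup G} (hW : W ≤ V) (hA : A ≤ N[W]) (hE : E ≤ N[W]) (hF : F ≤ N[W]) :
    W = ⊥ ∨ W = V := by
  by_cases e : W = V
  · exact Or.inr e
  · exact Or.inl (eq_bot_iff.2 (h.VF ▸ le_inf hW (h.irr (lt_of_le_of_ne hW e) hA hE hF)))

theorem CA_le : F ⊓ C[A] ≤ F ⊓ C[E] :=
  le_inf inf_le_left (commutator_eq_bot_iff_le_centralizer.1 (h.eq_bot
    ((commutator_mono inf_le_left le_rfl).trans h.comm_eq.le) h.fix))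

theorem V_ne : V ≠ ⊥ := fun e => h.not_cent (by
  rw [e]; exact le_centralizer_iff.1 bot_le)

theorem CEF : E ⊓ C[F] ≤ C[V] := by
  have hn : E ⊓ C[F] ≤ N[V] := inf_le_left.trans h.BV
  have hc := sm_card_modEq_card_inf_centralizer (h.hB.to_le inf_le_left) hn
  rcases h.irr' (W := V ⊓ C[E ⊓ C[F]]) inf_le_left
    (ml_norm_wsp h.AV (le_normalizer_inf h.AB (le_normalizer_centralizer h.AF)))
    (ml_norm_wsp h.BV (le_normalizer_inf le_normalizer (le_normalizer_centralizer h.BF)))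
    (ml_norm_wsp h.FV ((le_centralizer_iff.1 inf_le_right).trans (centralizer_le_normalizer _)))
    with e | e
  · rw [e, card_bot] at hc
    have hd := dvd_card_of_isPGroup_of_ne_bot (elemAb_isPGroup h.hV) h.V_ne
    have := (Nat.modEq_zero_iff_dvd.2 hd).symm.trans hc
    exact absurd (Nat.dvd_one.1 (Nat.modEq_zero_iff_dvd.1 this.symm)) hr.out.one_lt.ne'
  · exact le_centralizer_iff.1 (inf_eq_left.1 e)

omit h in
theorem exists_pow_step {X : Subgroup G} {y : G} (hy : y ∈ E) (hE : IsPGroup r E) (hX : y ∉ X) :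
    ∃ k : ℕ, y ^ r ^ k ∉ X ∧ (y ^ r ^ k) ^ r ∈ X := by
  classical
  have hex : ∃ k : ℕ, y ^ r ^ k ∈ X := by
    obtain ⟨k, hk⟩ := hE ⟨y, hy⟩
    exact ⟨k, by rw [show y ^ r ^ k = 1 from congrArg Subtype.val hk]; exact X.one_mem⟩
  have h0 : Nat.find hex ≠ 0 := fun e => by
    have := Nat.find_spec hex
    rw [e] at this
    exact hX (by simpa using this)
  obtain ⟨k, hk⟩ := Nat.exists_eq_succ_of_ne_zero h0
  refine ⟨k, Nat.find_min hex (by omega), ?_⟩
  have := Nat.find_spec hex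
  rwa [hk, pow_succ, pow_mul] at this

theorem exists_step {X : Subgroup G} (hX : ¬ E ≤ X) :
    ∃ x ∈ E, Nat.card ↥(⁅V, zpowers x⁆) ≤ r ^ 2 ∧ x ∉ X ∧ x ^ r ∈ X := by
  obtain ⟨y, hy, hs, hyX⟩ : ∃ y ∈ E, Nat.card ↥(⁅V, zpowers y⁆) ≤ r ^ 2 ∧ y ∉ X := by
    by_contra hcon
    push_neg at hcon
    exact hX (h.le_of_small hcon)
  obtain ⟨k, h1, h2⟩ := exists_pow_step hy h.hB hyX
  exact ⟨_, pow_mem hy _, (card_le_of_le (commutator_mono le_rfl
    (zpowers_le_of_mem (pow_mem (mem_zpowers y) _)))).trans hs, h1, h2⟩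

theorem ws {D : Subgroup G} (hD : D ≤ F) (hea : IsElementaryAbelian t D) (hne : D ≠ ⊥)
    (hA : A ≤ N[D]) (hE : E ≤ N[D]) (hF : F ≤ N[D]) : WS r t D V where
  hD := hea
  hV := h.hV
  tr := h.tr
  DV := hD.trans h.FV
  ne := hne
  fpf := by
    rcases h.irr' (W := V ⊓ C[D]) inf_le_left (ml_norm_wsp h.AV hA) (ml_norm_wsp h.BV hE)
      (ml_norm_wsp h.FV hF) with e | e
    · exact e
    · exact absurd (h.eq_bot hD (le_centralizer_iff.1 (inf_eq_left.1 e))) hne

/-- `K = [F,x]` meets `C(x)` inside `Z` -/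
theorem K_inf {x : G} (hx : x ∈ E) : ⁅F, zpowers x⁆ ⊓ C[zpowers x] ≤ F ⊓ C[E] :=
  ml_inf_le (h.actE (zpowers_le_of_mem hx) le_rfl ((zpowers_le_of_mem hx).trans h.BF)) h.der_le
    ((zpowers_le_of_mem hx).trans h.E_norm_Z) h.F_norm_Z

theorem actx {x : G} (hx : x ∈ E) : CoprimeAct (zpowers x) F :=
  h.actE (zpowers_le_of_mem hx) le_rfl ((zpowers_le_of_mem hx).trans h.BF)

theorem K_not_le {x : G} (hx : x ∈ E) (hc : x ∉ C[F]) : ¬ ⁅F, zpowers x⁆ ≤ C[zpowers x] :=
  fun hle => hc (le_centralizer_iff.1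
    ((h.actx hx).le_centralizer_of_commutator_le_centralizer hle) (mem_zpowers x))

/-- `C_F(x)` centralizes `K` -/
theorem CK {x : G} (hx : x ∈ E) : F ⊓ C[zpowers x] ≤ C[⁅F, zpowers x⁆] := by
  have h1 : ⁅⁅zpowers x, F ⊓ C[zpowers x]⁆, F⁆ = ⊥ := by
    rw [commutator_eq_bot_symm (commutator_eq_bot_iff_le_centralizer.2 inf_le_right),
      commutator_bot_left]
  have h2 : ⁅⁅F ⊓ C[zpowers x], F⁆, zpowers x⁆ = ⊥ := commutator_eq_bot_iff_le_centralizer.2
    ((commutator_mono inf_le_left le_rfl).trans (h.der_le.trans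
      (inf_le_right.trans (centralizer_mono (zpowers_le_of_mem hx)))))
  exact le_centralizer_of_commutator_eq_bot' (commutator_commutator_eq_bot_of_rotate h1 h2)

end MLMin

end Cfsg.Lib.FT
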