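import Cfsg.Agent.Lib.SF2.ML3

/-!
# The module lemma: abelian `F`
-/

set_option autoImplicit false
set_option maxHeartbeats 400000

namespace Cfsg.Lib.FT
open Subgroup Cfsg.Lib
open scoped commutatorElement

variable {G : Type*} [Group G] [Finite G] {p r t : ℕ} {A B D E F V : Subgroup G}

theorem ml_conj_fix {x w : G} {P : Subgroup G} (hw : w ∈ C[zpowers x]) (hP : w ∈ P) :
    w ∈ x •ᶜ P := by
  rw [mem_map_conj]
  have e : x * w = w * x := hw x (mem_zpowers x)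
  have : x⁻¹ * w * x = w := by rw [mul_assoc, ← e]; group
  rwa [this]

theorem ml_comm_le_of_card (hV : IsMulCommutative V) {x : G} (hx : x ∈ N[V]) {W X : Subgroup G}
    (hW : W ≤ V) (h : W ⊓ C[zpowers x] = ⊥) (hc : Nat.card ↥(⁅V, zpowers x⁆) ≤ Nat.card W)
    (h1 : W ≤ X) (h2 : x •ᶜ W ≤ X) : ⁅V, zpowers x⁆ ≤ X := by
  have e : W ⊔ V ⊓ C[zpowers x] = V := by
    refine Quad.eq_of_le_of_card_le (sup_le hW inf_le_left) ?_
    rw [← Quad.card_commutator_zpowers_mul hV hx]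
    exact (Nat.mul_le_mul_right _ hc).trans (ml_card_mul_le le_sup_left le_sup_right
      (by rw [← inf_assoc, inf_eq_left.2 hW, h]))
  intro y hy
  obtain ⟨v, hv, rfl⟩ := (Quad.mem_commutator_zpowers_iff hV hx).1 hy
  rw [← e] at hv
  obtain ⟨w, hw, c, hc, rfl⟩ := (mem_sup_of_le_normalizer
    (inf_le_left.trans (le_normalizer_of_le_of_comm hV hW))).1 hv
  refine commutator_mul_centralizer_mem hc.2 (mem_zpowers x) ?_
  have : ⁅w, x⁆ = w * (x * w⁻¹ * x⁻¹) := by rw [commutatorElement_def]; group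
  rw [this]
  exact mul_mem (h1 hw) (h2 ⟨w⁻¹, inv_mem hw, rfl⟩)

theorem ml_conj_ne {x : G} {l : Subgroup G} (h : x ∉ N[l]) : x •ᶜ l ≠ l :=
  fun e => h (mem_normalizer_of_map_conj_eq e)

variable [hp : Fact p.Prime] [hr : Fact r.Prime] [ht : Fact t.Prime]

theorem WS.cent_of_comm_le (w : WS r t D V) {x : G} (hxV : x ∈ N[V]) (hxD : x ∈ N[D])
    {n : Subgroup G} (hn : Wt t D V n) (h : ⁅V, zpowers x⁆ ≤ ⁅V, n⁆) : x ∈ C[V ⊓ C[n]] := by
  intro v hv
  have h1 : ⁅v, x⁆ ∈ ⁅V, n⁆ := h (commutator_mem_commutator hv.1 (mem_zpowers x))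
  have h2 : x * v * x⁻¹ ∈ V ⊓ C[x •ᶜ n] := by
    rw [ml_conj_wsp hxV]; exact ⟨v, hv, rfl⟩
  by_cases e : x •ᶜ n = n
  · rw [e] at h2
    have : ⁅v, x⁆ = v * (x * v * x⁻¹)⁻¹ := by rw [commutatorElement_def]; group
    exact commutatorElement_eq_one_iff_mul_comm.1
      (w.eq_one hn h1 (this ▸ mul_mem hv (inv_mem h2)))
  · have h3 := w.le_comm hn (hn.conj hxD hxV) (Ne.symm e) h2
    have : v = ⁅v, x⁆ * (x * v * x⁻¹) := by rw [commutatorElement_def]; group
    rw [w.eq_one hn (this ▸ mul_mem h1 h3) hv]; simp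

theorem WS.card_pow (w : WS r t D V) {l : Subgroup G} (hl : Wt t D V l) :
    ∃ k, Nat.card ↥(V ⊓ C[l]) = r ^ (k + 1) ∧ t ∣ r ^ (k + 1) - 1 := by
  obtain ⟨k, hk⟩ := IsPGroup.iff_card.1 ((elemAb_isPGroup w.hV).to_le (inf_le_left : V ⊓ C[l] ≤ V))
  have h0 : k ≠ 0 := fun e => hl.ne (by rw [e, pow_zero] at hk; exact card_eq_one.1 hk)
  obtain ⟨k, rfl⟩ := Nat.exists_eq_succ_of_ne_zero h0
  refine ⟨k, hk, ?_⟩
  have := w.card_mod hl
  rw [hk] at this
  exact (Nat.modEq_iff_dvd' (Nat.one_le_pow _ _ hr.out.pos)).1 this.symm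

theorem ml_pow_le {k n : ℕ} (h : r ^ k ≤ r ^ n) : k ≤ n :=
  (Nat.pow_le_pow_iff_right hr.out.one_lt).1 h

theorem ml_not_mod (p2 : p ≠ 2) (h : t = 2 ∨ t = 3 ∨ t = 5 ∨ (t = 13 ∧ p ≠ 3)) :
    ¬ t ≡ 1 [MOD p] := by
  intro hm
  have hd := (Nat.modEq_iff_dvd' ht.out.one_lt.le).1 hm.symm
  have h2 : ¬ p ∣ 2 := fun hd => p2 ((Nat.prime_dvd_prime_iff_eq hp.out Nat.prime_two).1 hd)
  rcases h with rfl | rfl | rfl | ⟨rfl, h3⟩
  · exact hp.out.one_lt.ne' (Nat.dvd_one.1 hd)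
  · exact h2 hd
  · exact h2 (hp.out.dvd_of_dvd_pow (show p ∣ 2 ^ 2 from hd))
  · rcases (Nat.Prime.dvd_mul hp.out).1 (show p ∣ 2 ^ 2 * 3 from hd) with h | h
    · exact h2 (hp.out.dvd_of_dvd_pow h)
    · exact h3 ((Nat.prime_dvd_prime_iff_eq hp.out Nat.prime_three).1 h)

namespace MLMin
variable (h : MLMin p r t A E F V)
include h

theorem eq_bot_of_forall (w : WS r t D V) {X : Subgroup G} (hX : X ≤ F)
    (hc : ∀ l, Wt t D V l → X ≤ C[V ⊓ C[l]]) : X = ⊥ :=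
  h.eq_bot hX (le_centralizer_iff.1 (w.le_of fun l hl => le_centralizer_iff.1 (hc l hl)))

theorem K_le_cent {x : G} {W : Subgroup G} (hW : F ≤ N[W]) (hc : x ∈ C[W]) :
    ⁅F, zpowers x⁆ ≤ C[W] :=
  (commutator_mono le_rfl (zpowers_le_of_mem hc)).trans
    (le_normalizer_iff_commutator_le_right.1 (le_normalizer_centralizer hW))

theorem card_u {x k : G} (hx : x ∈ E) (hs : Nat.card ↥(⁅V, zpowers x⁆) ≤ r ^ 2) (hk : k ∈ F) :
    Nat.card ↥(⁅V, zpowers ⁅x, k⁆⁆) ≤ r ^ 4 :=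
  (ml_card_comm_comm h.hV.1 (h.BV hx) (h.FV hk)).trans
    (by rw [show 4 = 2 * 2 from rfl, pow_mul]; exact Nat.pow_le_pow_left hs 2)

variable (hZ : F ⊓ C[E] = ⊥)
include hZ

theorem ea_F : IsElementaryAbelian t F := by
  refine Quad.ea_mk (fun a ha b hb => ?_) fun a ha => ?_
  · have := h.der_le (commutator_mem_commutator ha hb)
    rw [hZ, mem_bot] at this
    exact commutatorElement_eq_one_iff_mul_comm.1 this
  · have := h.pow_memZ ha
    rwa [hZ, mem_bot] at this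

theorem wsF : WS r t F V := h.ws le_rfl (h.ea_F hZ) h.ne_bot h.AF h.BF le_normalizer

theorem keyA {l : Subgroup G} (hl : Wt t F V l) {u : G} (hu : u ∈ F) (hul : u ∉ l)
    (h1 : ∀ a ∈ A, a ∉ N[l] → u ∈ a •ᶜ l) (hm : ¬ t ≡ 1 [MOD p]) : False := by
  have hn : F ≤ N[l] := le_normalizer_of_le_of_comm (h.ea_F hZ).1 hl.le
  have h2 : ⁅F, A ⊓ N[l]⁆ ≤ l := ml_T2' (h.hA.to_le inf_le_left) h.ndF (inf_le_left.trans h.AF)
    inf_le_right hl.le hn fun d hd hd1 => by
      rw [hl.idx] at hd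
      rcases (Nat.dvd_prime ht.out).1 hd with e | e
      · exact e
      · exact absurd (e ▸ hd1) hm
  refine hul (ml_key h.hA h.ndF h.AF hl.le hn (h.der_le.trans (hZ ▸ bot_le))
    (h.CA_le.trans (hZ ▸ bot_le)) (A0 := A ⊓ N[l]) inf_le_left hu (fun a ha ha' => ?_)
    fun a ha => ?_)
  · have := h1 a⁻¹ (inv_mem ha) fun hn => ha' ⟨ha, by simpa using inv_mem hn⟩
    rw [mem_map_conj, inv_inv] at this
    exact this
  · rw [← commutatorElement_inv]
    exact inv_mem (h2 (commutator_mem_commutator hu ha))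

theorem K_le_wt {x : G} (hx : x ∈ E) {l : Subgroup G} (hl : Wt t F V l)
    (hc : x ∈ C[V ⊓ C[l]]) : ⁅F, zpowers x⁆ ≤ l := fun _ hy =>
  (h.wsF hZ).le_of_cent hl (h.comm_le hx hy) (h.K_le_cent ((h.wsF hZ).D_norm hl.le) hc hy)

/-- all weights are invariant -/
theorem caseA1 (hall : ∀ l, Wt t F V l → E ≤ N[l]) : False := by
  have w := h.wsF hZ
  have hF := h.ea_F hZ
  obtain ⟨x, hx, hs, hxc, hxr⟩ := h.exists_step (X := C[F]) fun hle =>
    h.bad (le_centralizer_iff.1 hle)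
  set K := ⁅F, zpowers x⁆ with hK
  have hKF : K ≤ F := h.comm_le hx
  have hC : ∀ l, Wt t F V l → ¬ K ≤ l → F ⊓ C[zpowers x] ≤ l := by
    intro l hl hKl
    by_contra hn
    rcases ml_eq_or_eq_of_prime ht.out hl.idx (le_sup_left : l ≤ l ⊔ F ⊓ C[zpowers x])
      (sup_le hl.le inf_le_left) with e | e
    · exact hn (le_sup_right.trans e.le)
    · refine hKl ?_
      rw [hK, ← e]
      refine commutator_sup_le_left le_normalizer
        (inf_le_left.trans (le_normalizer_of_le_of_comm hF.1 hl.le))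
        (Quad.commutator_le_of_le_normalizer ((zpowers_le_of_mem hx).trans (hall l hl))) ?_
      rw [commutator_eq_bot_iff_le_centralizer.2 inf_le_right]; exact bot_le
  obtain ⟨l, hl, hKl⟩ : ∃ l, Wt t F V l ∧ ¬ K ≤ l := by
    by_contra hcon
    push_neg at hcon
    refine h.K_not_le hx hxc ?_
    rw [← hK, h.eq_bot_of_forall w hKF fun l hl =>
      (hcon l hl).trans (le_centralizer_iff.1 inf_le_right)]
    exact bot_le
  obtain ⟨u, huK, hul, hu⟩ : ∃ u ∈ K, u ∉ l ∧ ∀ n, Wt t F V n → n ≠ l → u ∈ n := by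
    by_cases hone : ∀ n, Wt t F V n → n ≠ l → K ≤ n
    · obtain ⟨u, hu, hul⟩ := SetLike.not_le_iff_exists.1 hKl
      exact ⟨u, hu, hul, fun n hn hne => hone n hn hne hu⟩
    · push_neg at hone
      obtain ⟨m, hm, hml, hKm⟩ := hone
      have hoth : ∀ n, Wt t F V n → n ≠ l → n ≠ m → K ≤ n := by
        intro n hn h1 h2
        by_contra hKn
        rcases w.supp_le_two (h.BV hx) hs hl hm hn (hall l hl hx) (hall m hm hx) (hall n hn hx)
          (fun hc => hKl (h.K_le_wt hZ hx hl hc)) (fun hc => hKm (h.K_le_wt hZ hx hm hc))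
          (fun hc => hKn (h.K_le_wt hZ hx hn hc)) hml.symm with e | e
        · exact h1 e
        · exact h2 e
      by_contra hcon
      push_neg at hcon
      have h1 : K ⊓ m ≤ l := by
        intro u hu
        by_contra hul
        obtain ⟨n, hn, hnl, hun⟩ := hcon u hu.1 hul
        by_cases e : n = m
        · exact hun (e ▸ hu.2)
        · exact hun (hoth n hn hnl e hu.1)
      refine w.not_le hm hl hml ?_
      have e := (h.actx hx).commutator_sup_centralizer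
      calc m = (F ⊓ C[zpowers x] ⊔ K) ⊓ m := by rw [sup_comm, e, inf_eq_right.2 hm.le]
        _ = F ⊓ C[zpowers x] ⊔ K ⊓ m := sup_inf_assoc_of_le_normalizer
            (inf_le_left.trans (le_normalizer_commutator_left _ _)) (hC m hm hKm)
        _ ≤ l := sup_le (hC l hl hKl) h1
  refine h.keyA hZ hl (hKF huK) hul (fun a ha hal =>
    hu _ (hl.conj (h.AF ha) (h.AV ha)) (ml_conj_ne hal)) ?_
  -- numerics
  obtain ⟨f, hf, rfl⟩ := (Quad.mem_commutator_zpowers_iff hF.1 (h.BF hx)).1 huK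
  have hfix : (V ⊓ C[l]) ⊓ C[zpowers ⁅f, x⁆] = ⊥ :=
    w.inf_C_eq_bot hl (zpowers_le_of_mem (hKF huK)) fun hle => hul (hle (mem_zpowers _))
  have hv := ml_card_le_comm h.hV.1 (h.FV (hKF huK)) inf_le_left hfix
  have h4 := h.card_u hx hs hf
  rw [← commutatorElement_inv, zpowers_inv] at h4
  obtain ⟨k, hk, hd⟩ := w.card_pow hl
  have hk4 : k + 1 ≤ 4 := ml_pow_le (hk ▸ hv.trans h4)
  have hmod := ml_T2 (ml_zp h.hB hx) (ml_not_dvd h.hF h.tr.symm)
    ((zpowers_le_of_mem hx).trans h.BF) ((zpowers_le_of_mem hx).trans (hall l hl)) hl.le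
    (hC l hl hKl)
  rw [hl.idx] at hmod
  have htp := ht.out
  refine ml_not_mod h.p2 ?_
  rcases h.r23 with rfl | rfl
  · have hk2 : k ≠ 2 := by
      rintro rfl
      set W := V ⊓ C[l] with hW
      have hxW : x ∈ N[W] := ml_norm_wsp h.BV (hall l hl) hx
      have hWc : IsMulCommutative W := sft_comm_of_le h.hV.1 inf_le_left
      have hx2 : x ^ 2 ∈ C[V] := h.CEF ⟨pow_mem hx 2, hxr⟩
      have a1 : ⁅W, zpowers x⁆ ≤ W ⊓ C[zpowers x] := by
        refine le_inf (Quad.commutator_le_of_le_normalizer (zpowers_le_of_mem hxW)) ?_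
        intro y hy
        have hyV : y ∈ V :=
          Quad.commutator_le_of_le_normalizer (zpowers_le_of_mem hxW) hy |>.1
        obtain ⟨v, hv, rfl⟩ := (Quad.mem_commutator_zpowers_iff hWc hxW).1 hy
        rw [centralizer_zpowers, mem_centralizer_singleton_iff]
        have e1 : v⁻¹ * x ^ 2 = x ^ 2 * v⁻¹ := hx2 _ (inv_mem hv.1)
        have e2 : ⁅v, x⁆ ^ 2 = 1 := h.hV.2 _ hyV
        have e3 : v * (x * v * x⁻¹) = (x * v * x⁻¹) * v :=
          Quad.ea_comm h.hV hv.1 (conj_mem_of_mem_normalizer (h.BV hx) hv.1)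
        have e4 : x * ⁅v, x⁆ * x⁻¹ = ⁅v, x⁆⁻¹ := by
          calc x * ⁅v, x⁆ * x⁻¹ = x * v * x⁻¹ * (x ^ 2 * v⁻¹) * (x ^ 2)⁻¹ := by
                rw [commutatorElement_def]; group
            _ = ⁅v, x⁆⁻¹ := by rw [← e1, commutatorElement_def]; group
        have e5 : ⁅v, x⁆⁻¹ = ⁅v, x⁆ := by
          rw [inv_eq_iff_mul_eq_one, ← sq, e2]
        rw [e5] at e4
        calc ⁅v, x⁆ * x = (x * ⁅v, x⁆ * x⁻¹) * x := by rw [e4]
          _ = x * ⁅v, x⁆ := by group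
      have a2 := Quad.card_commutator_zpowers_mul hWc hxW
      have a3 := card_le_of_le a1
      have hfW : f ∈ N[W] := w.D_norm hl.le hf
      have a4 := ml_card_mul_le (W₁ := W ⊓ C[zpowers x]) (W₂ := f •ᶜ (W ⊓ C[zpowers x])) (X := W)
        inf_le_left (map_conj_le_of_mem_normalizer inf_le_left hfW) (by
          rw [eq_bot_iff, ← hfix]
          intro y hy
          refine mem_inf.2 ⟨hy.1.1, ?_⟩
          have b1 : x * y = y * x := hy.1.2 x (mem_zpowers x)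
          have b2 : x * (f⁻¹ * y * f) = (f⁻¹ * y * f) * x :=
            (mem_map_conj.1 hy.2).2 x (mem_zpowers x)
          rw [centralizer_zpowers, mem_centralizer_singleton_iff, commutatorElement_def]
          calc y * (f * x * f⁻¹ * x⁻¹) = f * ((f⁻¹ * y * f) * x) * f⁻¹ * x⁻¹ := by group
            _ = f * x * f⁻¹ * x⁻¹ * (x * y) * x⁻¹ := by rw [← b2]; group
            _ = f * x * f⁻¹ * x⁻¹ * y := by rw [b1]; group)
      rw [card_map_conj] at a4
      rw [hk] at a2 a4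
      set c := Nat.card ↥(W ⊓ C[zpowers x])
      have : c * c = 8 := by
        have := Nat.mul_le_mul_right c a3
        omega
      have : c ≤ 3 := by nlinarith
      interval_cases c <;> omega
    have : k ≤ 3 := by omega
    interval_cases k
    · exact absurd (Nat.dvd_one.1 hd) htp.one_lt.ne'
    · exact Or.inr (Or.inl ((Nat.prime_dvd_prime_iff_eq htp Nat.prime_three).1 hd))
    · exact absurd rfl hk2
    · rcases (Nat.Prime.dvd_mul htp).1 (show t ∣ 3 * 5 from hd) with h' | h'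
      · exact Or.inr (Or.inl ((Nat.prime_dvd_prime_iff_eq htp Nat.prime_three).1 h'))
      · exact Or.inr (Or.inr (Or.inl ((Nat.prime_dvd_prime_iff_eq htp Nat.prime_five).1 h')))
  · have h2 : ∀ n, t ∣ 2 ^ n → t = 2 := fun n h' =>
      (Nat.prime_dvd_prime_iff_eq htp Nat.prime_two).1 (htp.dvd_of_dvd_pow h')
    have : k ≤ 3 := by omega
    interval_cases k
    · exact Or.inl (h2 1 hd)
    · exact Or.inl (h2 3 hd)
    · rcases (Nat.Prime.dvd_mul htp).1 (show t ∣ 2 ^ 1 * 13 from hd) with h' | h'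
      · exact Or.inl (h2 1 h')
      · exact Or.inr (Or.inr (Or.inr
          ⟨(Nat.prime_dvd_prime_iff_eq htp (by norm_num)).1 h', h.pr⟩))
    · rcases (Nat.Prime.dvd_mul htp).1 (show t ∣ 2 ^ 4 * 5 from hd) with h' | h'
      · exact Or.inl (h2 4 h')
      · exact Or.inr (Or.inr (Or.inl ((Nat.prime_dvd_prime_iff_eq htp Nat.prime_five).1 h')))

/-- some weight is moved -/
theorem caseA2 {l' : Subgroup G} (hl' : Wt t F V l') (hne : ¬ E ≤ N[l']) : False := by
  have w := h.wsF hZ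
  have hF := h.ea_F hZ
  obtain ⟨k, hk, hka⟩ := glauberman_pgroup (A := A ⊓ (E ⊔ N[l'] ⊓ N[E])) (K := E) N[l']
    (h.hA.to_le inf_le_left) (ml_not_dvd h.hB h.pr) (inf_le_left.trans h.AB) fun a ha => by
      obtain ⟨e, he, y, hy, rfl⟩ := (mem_sup_of_le_normalizer inf_le_right).1 ha.2
      exact ⟨e, he, by simpa using hy.1⟩
  set l := k •ᶜ l' with hldef
  have hl : Wt t F V l := hl'.conj (h.BF hk) (h.BV hk)
  have hN : ∀ g, g ∈ N[l] ↔ k⁻¹ * g * k ∈ N[l'] := fun g => by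
    rw [hldef, normalizer_map_conj, mem_map_conj]
  have hstar : ∀ a ∈ A, ∀ e ∈ E, a •ᶜ l = e •ᶜ l → a ∈ N[l] := by
    intro a ha e he heq
    have h1 : e⁻¹ * a ∈ N[l] := by
      refine mem_normalizer_of_map_conj_eq ?_
      rw [map_conj_mul, heq, map_conj_inv_map_conj]
    rw [hN] at h1 ⊢
    refine hka a ⟨ha, ?_⟩
    have : a = e * k * (k⁻¹ * (e⁻¹ * a) * k) * k⁻¹ := by group
    rw [this]
    refine mul_mem (mul_mem (mem_sup_left (mul_mem he hk)) (mem_sup_right ⟨h1, ?_⟩))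
      (mem_sup_left (inv_mem hk))
    exact mul_mem (mul_mem (le_normalizer (inv_mem hk))
      (mul_mem (le_normalizer (inv_mem he)) (h.AB ha))) (le_normalizer hk)
  obtain ⟨x, hx, hs, hxc, hxr⟩ := h.exists_step (X := N[l]) fun hle => hne fun e he => by
    have := (hN _).1 (hle (mul_mem (mul_mem hk he) (inv_mem hk)))
    simpa [mul_assoc] using this
  have hxV := h.BV hx
  have hxF := h.BF hx
  have hKl : ¬ ⁅F, zpowers x⁆ ≤ l := fun hle => hxc
    (Quad.le_normalizer_of_commutator_le (V := F) hle hl.le (mem_zpowers x))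
  obtain ⟨u, hu, hul⟩ := SetLike.not_le_iff_exists.1 hKl
  have hl1 := hl.conj hxF hxV
  have n01 : x •ᶜ l ≠ l := ml_conj_ne hxc
  obtain ⟨j, hj, hd⟩ := w.card_pow hl
  have htp := ht.out
  suffices hsuf : (∀ n, Wt t F V n → (∀ e ∈ E, n ≠ e •ᶜ l) → ⁅V, zpowers x⁆ ≤ ⁅V, n⁆) ∧
      (t = 2 ∨ t = 3) by
    refine h.keyA hZ hl (h.comm_le hx hu) hul (fun a ha hal => ?_)
      (ml_not_mod h.p2 (by tauto))
    have hn := hl.conj (h.AF ha) (h.AV ha)
    exact h.K_le_wt hZ hx hn (w.cent_of_comm_le hxV hxF hn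
      (hsuf.1 _ hn fun e he heq => hal (hstar a ha e he heq))) hu
  have hle : ∀ n, Wt t F V n → (∀ e ∈ E, n ≠ e •ᶜ l) → ∀ e ∈ E, V ⊓ C[e •ᶜ l] ≤ ⁅V, n⁆ :=
    fun n hn hne e he => w.le_comm hn (hl.conj (h.BF he) (h.BV he)) (hne e he)
  have hle0 : ∀ n, Wt t F V n → (∀ e ∈ E, n ≠ e •ᶜ l) → V ⊓ C[l] ≤ ⁅V, n⁆ := fun n hn hne => by
    have := hle n hn hne 1 E.one_mem
    rwa [map_conj_one] at this
  rcases h.r23 with rfl | rfl
  · have h0 : (V ⊓ C[l]) ⊓ C[zpowers x] = ⊥ := by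
      rw [eq_bot_iff]
      intro y hy
      have := ml_conj_fix hy.2 hy.1
      rw [← ml_conj_wsp hxV] at this
      exact mem_bot.2 (w.eq_one hl (w.le_comm hl hl1 n01.symm this) hy.1)
    have hv := (ml_card_le_comm h.hV.1 hxV inf_le_left h0).trans hs
    have hj2 : j + 1 ≤ 2 := ml_pow_le (hj ▸ hv)
    have : j ≤ 1 := by omega
    interval_cases j
    · exact absurd (Nat.dvd_one.1 hd) htp.one_lt.ne'
    · refine ⟨fun n hn hne => ml_comm_le_of_card h.hV.1 hxV inf_le_left h0 (hj ▸ hs)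
        (hle0 n hn hne) ?_, Or.inr ((Nat.prime_dvd_prime_iff_eq htp Nat.prime_three).1 hd)⟩
      rw [← ml_conj_wsp hxV]
      exact hle n hn hne x hx
  · have hl2 := hl1.conj hxF hxV
    have n12 : x •ᶜ (x •ᶜ l) ≠ x •ᶜ l := fun e =>
      n01 (map_injective (MulAut.conj x).injective e)
    have n02 : x •ᶜ (x •ᶜ l) ≠ l := fun e => by
      refine n01 ?_
      have e3 : x ^ 3 = x * (x * x) := by rw [pow_three]
      have := map_conj_eq_of_mem_normalizer hxr
      rwa [e3, map_conj_mul, map_conj_mul, e] at this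
    have hW : V ⊓ C[l] ⊔ V ⊓ C[x •ᶜ l] ≤ V := sup_le inf_le_left inf_le_left
    have hxW : x •ᶜ (V ⊓ C[l] ⊔ V ⊓ C[x •ᶜ l]) = V ⊓ C[x •ᶜ l] ⊔ V ⊓ C[x •ᶜ (x •ᶜ l)] := by
      rw [Subgroup.map_sup, ← ml_conj_wsp hxV, ← ml_conj_wsp hxV]
    have h0 : (V ⊓ C[l] ⊔ V ⊓ C[x •ᶜ l]) ⊓ C[zpowers x] = ⊥ := by
      rw [eq_bot_iff]
      intro y hy
      have h1 := ml_conj_fix hy.2 hy.1
      rw [hxW] at h1
      have h2 := sup_le (w.le_comm hl hl1 n01.symm) (w.le_comm hl hl2 n02.symm) h1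
      obtain ⟨a, ha, b, hb, rfl⟩ := (mem_sup_of_le_normalizer
        (inf_le_left.trans (le_normalizer_of_le_of_comm h.hV.1 inf_le_left))).1 hy.1
      have h3 : a = 1 := by
        refine w.eq_one hl ?_ ha
        have := mul_mem h2 (inv_mem (w.le_comm hl hl1 n01.symm hb))
        simpa using this
      subst h3
      rw [one_mul] at hy ⊢
      have h4 := ml_conj_fix hy.2 hb
      rw [← ml_conj_wsp hxV] at h4
      exact mem_bot.2 (w.eq_one hl1 (w.le_comm hl1 hl2 n12.symm h4) hb)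
    have hv := (ml_card_le_comm h.hV.1 hxV hW h0).trans hs
    have h5 := ml_card_mul_le (le_sup_left : V ⊓ C[l] ≤ V ⊓ C[l] ⊔ V ⊓ C[x •ᶜ l]) le_sup_right
      (w.inf_eq_bot hl1 (w.le_comm hl1 hl n01) le_rfl)
    rw [ml_conj_wsp hxV, card_map_conj, hj, ← ml_conj_wsp hxV, ← pow_add] at h5
    have hj2 : j + 1 + (j + 1) ≤ 2 := ml_pow_le (h5.trans hv)
    have : j = 0 := by omega
    subst this
    refine ⟨fun n hn hne => ml_comm_le_of_card h.hV.1 hxV hW h0 (hs.trans h5)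
      (sup_le (hle0 n hn hne) (hle n hn hne x hx)) ?_,
      Or.inl ((Nat.prime_dvd_prime_iff_eq htp Nat.prime_two).1 hd)⟩
    rw [hxW, ← map_conj_mul l x x]
    exact sup_le (hle n hn hne x hx) (hle n hn hne _ (mul_mem hx hx))

theorem caseA : False := by
  by_cases hall : ∀ l, Wt t F V l → E ≤ N[l]
  · exact h.caseA1 hZ hall
  · push_neg at hall
    obtain ⟨l, hl, hne⟩ := hall
    exact h.caseA2 hZ hl hne

end MLMin

end Cfsg.Lib.FT
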