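import Cfsg.Agent.Lib.SF2.ML4

/-!
# The module lemma: nonabelian `F`, several weights
-/

set_option autoImplicit false
set_option maxHeartbeats 400000

namespace Cfsg.Lib.FT
open Subgroup Cfsg.Lib
open scoped commutatorElement

variable {G : Type*} [Group G] [Finite G] {p r t : ℕ} {A B D E F V : Subgroup G}

theorem ml_sup_eq {C Z H : Subgroup G} (h1 : C ≤ H) (h2 : Z ≤ H) (h3 : ¬ Z ≤ C)
    (h : C.relIndex H ≤ 3) : C ⊔ Z = H := by
  have e := relIndex_mul_relIndex C (C ⊔ Z) H le_sup_left (sup_le h1 h2)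
  have a : C.relIndex (C ⊔ Z) ≠ 1 := fun e => h3 (le_sup_right.trans (relIndex_eq_one.1 e))
  have b : C.relIndex (C ⊔ Z) ≠ 0 := index_ne_zero_of_finite
  have c : (C ⊔ Z).relIndex H ≠ 0 := index_ne_zero_of_finite
  have d : (C ⊔ Z).relIndex H = 1 := by
    by_contra hd
    have : 2 * 2 ≤ C.relIndex (C ⊔ Z) * (C ⊔ Z).relIndex H :=
      Nat.mul_le_mul (by omega) (by omega)
    omega
  exact le_antisymm (sup_le h1 h2) (relIndex_eq_one.1 d)

theorem ml_K_le {x : G} {T : Subgroup G} (hT : T ≤ F) (h : ∀ f ∈ F, ⁅x, f⁆ ∈ T) :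
    ⁅F, zpowers x⁆ ≤ T := by
  have hx : x ∈ N[T] := mem_normalizer_fintype fun n hn => by
    have : x * n * x⁻¹ = ⁅x, n⁆ * n := by rw [commutatorElement_def]; group
    rw [this]
    exact mul_mem (h n (hT hn)) hn
  rw [commutator_comm]
  exact (le_commInto_iff.1 (zpowers_le_of_mem (show x ∈ commInto T F from ⟨hx, h⟩))).2

theorem ml_norm_commInto {X Y W : Subgroup G} (h1 : X ≤ N[Y]) (h2 : X ≤ N[W]) :
    X ≤ N[commInto Y W] := by
  rw [le_normalizer_iff]
  intro a ha g hg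
  refine ⟨mul_mem (mul_mem (h1 ha) hg.1) (inv_mem (h1 ha)), fun c hc => ?_⟩
  have : ⁅a * g * a⁻¹, c⁆ = a * ⁅g, a⁻¹ * c * a⁆ * a⁻¹ := by
    simp only [commutatorElement_def]; group
  rw [this]
  exact conj_mem_of_le_normalizer h1 ha (hg.2 _ (conj_mem_of_le_normalizer' h2 ha hc))

/-- the subgroup `C_F(V_μ) Z` -/
def mlN (E F V m : Subgroup G) : Subgroup G := F ⊓ C[V ⊓ C[m]] ⊔ F ⊓ C[E]

theorem mlN_le {m : Subgroup G} : mlN E F V m ≤ F := sup_le inf_le_left inf_le_left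

theorem mlN_conj {m : Subgroup G} {a : G} (hE : a ∈ N[E]) (hF : a ∈ N[F]) (hV : a ∈ N[V]) :
    mlN E F V (a •ᶜ m) = a •ᶜ mlN E F V m := by
  rw [mlN, mlN, Subgroup.map_sup, ← ml_conj_wsp hF, ← ml_conj_wsp hF, ← ml_conj_wsp hV,
    map_conj_eq_of_mem_normalizer hE]

variable [hp : Fact p.Prime] [hr : Fact r.Prime] [ht : Fact t.Prime]

namespace MLMin
variable (h : MLMin p r t A E F V)
include h

theorem E_wt {m : Subgroup G} (hm : m ≤ F ⊓ C[E]) : E ≤ N[V ⊓ C[m]] :=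
  ml_norm_wsp h.BV ((le_centralizer_iff.1 (hm.trans inf_le_right)).trans
    (centralizer_le_normalizer _))

theorem F_wt {m : Subgroup G} (hm : m ≤ F ⊓ C[E]) : F ≤ N[V ⊓ C[m]] :=
  ml_norm_wsp h.FV ((le_centralizer_iff.1 (hm.trans h.Z_cent)).trans
    (centralizer_le_normalizer _))

theorem F_N {m : Subgroup G} : F ≤ N[mlN E F V m] :=
  Quad.le_normalizer_of_commutator_le (h.der_le.trans le_sup_right) mlN_le

theorem E_N {m : Subgroup G} (hm : m ≤ F ⊓ C[E]) : E ≤ N[mlN E F V m] :=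
  le_normalizer_sup (ml_norm_wsp h.BF (h.E_wt hm)) h.E_norm_Z

theorem N_comm {m : Subgroup G} (hm : m ≤ F ⊓ C[E]) : ⁅mlN E F V m, E⁆ ≤ C[V ⊓ C[m]] := by
  have h1 : F ≤ N[C[V ⊓ C[m]]] := le_normalizer_centralizer (h.F_wt hm)
  refine commutator_sup_le_left (inf_le_left.trans h1) (inf_le_left.trans h1) ?_ ?_
  · exact (Quad.commutator_le_of_le_normalizer (ml_norm_wsp h.BF (h.E_wt hm))).trans inf_le_right
  · rw [commutator_eq_bot_iff_le_centralizer.2 inf_le_right]; exact bot_le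

theorem K_le_C_of_le_N {m : Subgroup G} (hm : m ≤ F ⊓ C[E]) {x : G} (hx : x ∈ E)
    (hK : ⁅F, zpowers x⁆ ≤ mlN E F V m) : ⁅F, zpowers x⁆ ≤ C[V ⊓ C[m]] := by
  rw [← (h.actx hx).commutator_commutator]
  exact (commutator_mono hK (zpowers_le_of_mem hx)).trans (h.N_comm hm)

theorem ihN {m : Subgroup G} (hm : m ≤ F ⊓ C[E]) (hne : m ≠ ⊥) {X : Subgroup G} (hX : X ≤ F)
    (hXN : ∀ a ∈ A, a ∉ N[m] → X ≤ mlN E F V (a •ᶜ m)) {x : G} (hx : x ∈ E)
    (hs : Nat.card ↥(⁅V, zpowers x⁆) ≤ r ^ 2) : ⁅X, zpowers x⁆ ≤ C[V ⊓ C[m]] := by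
  set P : Subgroup G := F ⊓ ⨅ a : {a : G // a ∈ A ∧ a ∉ N[m]}, mlN E F V ((a : G) •ᶜ m) with hP
  have hmem : ∀ y, y ∈ P ↔ y ∈ F ∧ ∀ a ∈ A, a ∉ N[m] → y ∈ mlN E F V (a •ᶜ m) := fun y => by
    simp only [hP, mem_inf, mem_iInf, Subtype.forall, and_imp]
  have hcj : ∀ a ∈ A, ∀ n, mlN E F V (a •ᶜ n) = a •ᶜ mlN E F V n := fun a ha n =>
    mlN_conj (h.AB ha) (h.AF ha) (h.AV ha)
  have hlt : V ⊓ C[m] < V := lt_of_le_of_ne inf_le_left fun e =>
    hne (h.eq_bot (hm.trans inf_le_left) (le_centralizer_iff.1 (inf_eq_left.1 e)))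
  have hc := h.ih (A ⊓ N[m]) P (V ⊓ C[m])
    { hA := h.hA.to_le inf_le_left
      hB := h.hB
      hF := h.hF.to_le inf_le_left
      hV := elemAb_mono h.hV inf_le_left
      AB := inf_le_left.trans h.AB
      AF := by
        rw [le_normalizer_iff]
        intro b hb y hy
        obtain ⟨hy1, hy2⟩ := (hmem y).1 hy
        refine (hmem _).2 ⟨conj_mem_of_le_normalizer h.AF hb.1 hy1, fun a ha ham => ?_⟩
        have := hy2 (b⁻¹ * a) (mul_mem (inv_mem hb.1) ha) fun hn =>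
          ham (by simpa using mul_mem hb.2 hn)
        rw [map_conj_mul, hcj _ (inv_mem hb.1), mem_map_conj, inv_inv] at this
        exact this
      AV := ml_norm_wsp (inf_le_left.trans h.AV) inf_le_right
      BF := by
        rw [le_normalizer_iff]
        intro b hb y hy
        obtain ⟨hy1, hy2⟩ := (hmem y).1 hy
        exact (hmem _).2 ⟨conj_mem_of_le_normalizer h.BF hb hy1, fun a ha ham =>
          conj_mem_of_le_normalizer (h.E_N (map_conj_le_of_mem_normalizer hm (h.A_norm_Z ha))) hb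
            (hy2 a ha ham)⟩
      BV := h.E_wt hm
      FV := inf_le_left.trans (h.F_wt hm)
      fix := by
        refine (commutator_mono ?_ le_rfl).trans (h.N_comm hm)
        intro y hy
        obtain ⟨hy1, hy2⟩ := (hmem y).1 hy.1
        refine ml_key h.hA h.ndF h.AF mlN_le h.F_N (h.der_le.trans le_sup_right)
          (h.CA_le.trans le_sup_right) (A0 := A ⊓ N[m]) inf_le_left hy1 (fun a ha ha' => ?_)
          fun a ha => ?_
        · have := hy2 a⁻¹ (inv_mem ha) fun hn => ha' ⟨ha, by simpa using inv_mem hn⟩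
          rw [hcj _ (inv_mem ha), mem_map_conj, inv_inv] at this
          exact this
        · rw [commutatorElement_eq_one_iff_mul_comm.2 (hy.2 a ha)]
          exact one_mem _ }
    (by
      have h1 := Quad.card_lt_of_lt hlt
      have h2 : Nat.card P ≤ Nat.card F := card_le_of_le inf_le_left
      omega)
  refine (commutator_mono (fun y hy => (hmem y).2 ⟨hX hy, fun a ha ham => hXN a ha ham hy⟩)
    le_rfl).trans (hc x hx ((card_le_of_le (commutator_mono inf_le_left le_rfl)).trans hs))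

variable (hZ : F ⊓ C[E] ≠ ⊥)
include hZ

theorem wsZ : WS r t (F ⊓ C[E]) V :=
  h.ws inf_le_left h.ea_Z hZ h.A_norm_Z h.E_norm_Z h.F_norm_Z

theorem center_le : F ⊓ C[F] ≤ F ⊓ C[E] := by
  refine le_inf inf_le_left (h.proper (lt_of_le_of_ne inf_le_left fun e => hZ ?_)
    (ml_norm_wsp h.AF h.AF) (ml_norm_wsp h.BF h.BF))
  rw [h.Z_eq]
  exact commutator_eq_bot_iff_le_centralizer.2 (inf_eq_left.1 e)

theorem K_noncomm {x : G} (hx : x ∈ E) (hc : x ∉ C[F]) :
    ¬ ⁅F, zpowers x⁆ ≤ C[⁅F, zpowers x⁆] := fun hle => by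
  refine h.K_not_le hx hc (le_trans ?_ ((h.center_le hZ).trans
    (inf_le_right.trans (centralizer_mono (zpowers_le_of_mem hx)))))
  refine le_inf (h.comm_le hx) ?_
  conv_rhs => rw [← (h.actx hx).commutator_sup_centralizer, centralizer_sup]
  exact le_inf hle (le_centralizer_iff.1 (h.CK hx))

theorem transvN {m : Subgroup G} (hm : Wt t (F ⊓ C[E]) V m) {x : G} (hx : x ∈ E)
    (hK : ¬ ⁅⁅F, zpowers x⁆, ⁅F, zpowers x⁆⁆ ≤ C[V ⊓ C[m]])
    (hs : Nat.card ↥(⁅V ⊓ C[m], zpowers x⁆) ≤ r) : F ⊓ C[zpowers x] ≤ mlN E F V m := by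
  have w := h.wsZ hZ
  set K := ⁅F, zpowers x⁆ with hKdef
  have hKF : K ≤ F := h.comm_le hx
  set U := V ⊓ C[m] with hU
  set W := ⁅U, zpowers x⁆ with hW
  have hxU : zpowers x ≤ N[U] := (zpowers_le_of_mem hx).trans (h.E_wt hm.le)
  have hWU : W ≤ U := Quad.commutator_le_of_le_normalizer hxU
  have hW0 : W ≠ ⊥ := fun e => hK (le_trans ((commutator_mono le_rfl hKF).trans
    (Quad.commutator_le_of_le_normalizer (le_normalizer_commutator_left _ _)))
    (h.K_le_cent (h.F_wt hm.le) (le_centralizer_of_commutator_eq_bot' e (mem_zpowers x))))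
  have hWr : Nat.card W = r := le_antisymm hs (w.le_card (hWU.trans inf_le_left) hW0)
  obtain ⟨⟨v, hv⟩, hv1⟩ := ne_bot_iff_exists_ne_one.1 hW0
  have hv1' : v ≠ 1 := fun e => hv1 (Subtype.ext e)
  have hWv : zpowers v = W :=
    (Quad.eq_bot_or_eq_of_le_of_card_prime hWr (zpowers_le_of_mem hv)).resolve_left
      (by simpa using hv1')
  have hCW : F ⊓ C[zpowers x] ≤ N[W] := le_normalizer_commutator
    (inf_le_left.trans (h.F_wt hm.le)) ((le_centralizer_iff.1 inf_le_right |> le_centralizer_iff.1).trans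
      (centralizer_le_normalizer _))
  have hidx := ml_orb' hCW hv hv1'
  have hZC : F ⊓ C[E] ≤ F ⊓ C[zpowers x] :=
    inf_le_inf_left _ (centralizer_mono (zpowers_le_of_mem hx))
  have hsup := ml_sup_eq (C := F ⊓ C[zpowers x] ⊓ C1[v]) inf_le_left hZC (fun hle => by
    have := w.inf_C_eq_bot hm le_rfl fun hle' => by
      have := hm.idx
      rw [relIndex_eq_one.2 hle'] at this
      exact ht.out.one_lt.ne this
    have hv2 : v ∈ U ⊓ C[F ⊓ C[E]] := ⟨hWU hv, fun z hz =>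
      mem_centralizer_singleton_iff.1 (hle hz).2⟩
    rw [this, mem_bot] at hv2
    exact hv1' hv2) (by
      rw [inf_relIndex_left]
      rcases h.r23 with rfl | rfl <;> omega)
  rw [← hsup]
  refine sup_le_sup_right (fun c hc => ⟨hc.1.1, ?_⟩) _
  have hcK : K ≤ C[zpowers c] := le_centralizer_iff.1 (zpowers_le_of_mem (h.CK hx hc.1))
  have hcx : zpowers x ≤ C[zpowers c] := le_centralizer_iff.1 (zpowers_le_of_mem hc.1.2)
  have hKY : K ≤ N[U ⊓ C[zpowers c]] := ml_norm_wsp (hKF.trans (h.F_wt hm.le))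
    (hcK.trans (centralizer_le_normalizer _))
  have h1 : zpowers x ≤ commInto (U ⊓ C[zpowers c]) U := by
    refine le_commInto_iff.2 ⟨ml_norm_wsp hxU (hcx.trans (centralizer_le_normalizer _)), ?_⟩
    rw [commutator_comm]
    refine le_inf hWU ?_
    rw [← hW, ← hWv, le_centralizer_iff, centralizer_zpowers]
    exact zpowers_le_of_mem hc.2
  have h2 : K ≤ commInto (U ⊓ C[zpowers c]) U := by
    rw [hKdef, ← (h.actx hx).commutator_commutator]
    exact (commutator_mono le_rfl h1).trans (le_normalizer_iff_commutator_le_right.1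
      (ml_norm_commInto hKY (hKF.trans (h.F_wt hm.le))))
  have h3 := w.le_comm_of hm ((commutator_mono hKF hKF).trans h.der_le)
    fun hle => hK (hle.trans (le_centralizer_iff.1 inf_le_right))
  have h4 : U ≤ C[zpowers c] := by
    refine h3.trans (le_trans ?_ ((le_commInto_iff.1 h2).2.trans inf_le_right))
    rw [commutator_comm]
    exact commutator_mono (Quad.commutator_le_of_le_normalizer le_normalizer) le_rfl
  exact le_centralizer_iff.1 h4 (mem_zpowers c)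

/-- a nontrivial weight does not occur in the support of `K'` -/
theorem caseN {m : Subgroup G} (hm : Wt t (F ⊓ C[E]) V m) (hne : m ≠ ⊥) {x : G} (hx : x ∈ E)
    (hs : Nat.card ↥(⁅V, zpowers x⁆) ≤ r ^ 2)
    (hK : ¬ ⁅⁅F, zpowers x⁆, ⁅F, zpowers x⁆⁆ ≤ C[V ⊓ C[m]]) : False := by
  have w := h.wsZ hZ
  set K := ⁅F, zpowers x⁆ with hKdef
  have hKF : K ≤ F := h.comm_le hx
  have hKK : ⁅K, zpowers x⁆ = K := (h.actx hx).commutator_commutator
  have hK1 : ¬ K ≤ C[V ⊓ C[m]] := fun hle =>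
    hK ((Quad.commutator_le_of_le_normalizer le_normalizer).trans hle)
  have hwt : ∀ a ∈ A, ∀ n, Wt t (F ⊓ C[E]) V n → Wt t (F ⊓ C[E]) V (a •ᶜ n) := fun a ha n hn =>
    hn.conj (h.A_norm_Z ha) (h.AV ha)
  have hxn : ∀ n, Wt t (F ⊓ C[E]) V n → x ∈ N[n] := fun n hn =>
    centralizer_le_normalizer _ (le_centralizer_iff.1 (hn.le.trans inf_le_right) hx)
  have hCN : ∀ n, K ≤ C[V ⊓ C[n]] → K ≤ mlN E F V n := fun n hn =>
    (le_inf hKF hn).trans le_sup_left
  obtain ⟨a, ha, ham, hK2⟩ : ∃ a ∈ A, a ∉ N[m] ∧ ¬ K ≤ C[V ⊓ C[a •ᶜ m]] := by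
    by_contra hcon
    push_neg at hcon
    refine hK1 ?_
    rw [← hKK]
    exact h.ihN hm.le hne hKF (fun a ha ham => hCN _ (hcon a ha ham)) hx hs
  set m₂ := a •ᶜ m with hm₂
  have hm2 : Wt t (F ⊓ C[E]) V m₂ := hwt a ha m hm
  have n21 : m₂ ≠ m := ml_conj_ne ham
  have hnc : ∀ n, Wt t (F ⊓ C[E]) V n → ¬ K ≤ C[V ⊓ C[n]] → x ∉ C[V ⊓ C[n]] :=
    fun n hn hKn hc => hKn (h.K_le_cent (h.F_wt hn.le) hc)
  have hoth : ∀ n, Wt t (F ⊓ C[E]) V n → ¬ K ≤ C[V ⊓ C[n]] → n = m ∨ n = m₂ := fun n hn hKn =>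
    w.supp_le_two (h.BV hx) hs hm hm2 hn (hxn _ hm) (hxn _ hm2) (hxn _ hn) (hnc _ hm hK1)
      (hnc _ hm2 hK2) (hnc _ hn hKn) n21.symm
  have hinf : ∀ n₁ n₂, Wt t (F ⊓ C[E]) V n₁ → Wt t (F ⊓ C[E]) V n₂ → n₁ ≠ ⊥ →
      (∀ n, Wt t (F ⊓ C[E]) V n → ¬ K ≤ C[V ⊓ C[n]] → n = n₁ ∨ n = n₂) →
      K ⊓ mlN E F V n₂ ≤ F ⊓ C[E] := by
    intro n₁ n₂ h₁ h₂ hb ho
    have hall : ∀ n, Wt t (F ⊓ C[E]) V n → n ≠ n₁ → K ⊓ mlN E F V n₂ ≤ mlN E F V n := by
      intro n hn hn1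
      by_cases hKn : K ≤ C[V ⊓ C[n]]
      · exact inf_le_left.trans (hCN n hKn)
      · rw [(ho n hn hKn).resolve_left hn1]; exact inf_le_right
    have h1 := h.ihN h₁.le hb (inf_le_left.trans hKF)
      (fun b hb hbn => hall _ (hwt b hb _ h₁) (ml_conj_ne hbn)) hx hs
    have h2 : ⁅K ⊓ mlN E F V n₂, zpowers x⁆ = ⊥ := by
      refine h.eq_bot_of_forall w ((commutator_mono (inf_le_left.trans hKF) le_rfl).trans hKF)
        fun n hn => ?_
      by_cases e : n = n₁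
      · rw [e]; exact h1
      · exact (commutator_mono (hall n hn e) (zpowers_le_of_mem hx)).trans (h.N_comm hn.le)
    exact (le_inf inf_le_left (commutator_eq_bot_iff_le_centralizer.1 h2)).trans (h.K_inf hx)
  have hne2 : m₂ ≠ ⊥ := fun e =>
    hne ((map_eq_bot_iff_of_injective _ (MulAut.conj a).injective).1 e)
  have i2 := hinf m m₂ hm hm2 hne hoth
  have i1 := hinf m₂ m hm2 hm hne2 fun n hn hKn => (hoth n hn hKn).symm
  set C := F ⊓ C[zpowers x] with hC
  have hZC : F ⊓ C[E] ≤ C := inf_le_inf_left _ (centralizer_mono (zpowers_le_of_mem hx))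
  have hsup : K ⊔ C = F := (h.actx hx).commutator_sup_centralizer
  have c1 : C ≤ mlN E F V m := h.transvN hZ hm hx hK
    (w.transv (h.BV hx) hs hm hm2 (hxn _ hm) (hxn _ hm2) (hnc _ hm2 hK2) n21.symm)
  have e1 : mlN E F V m = C := by
    refine le_antisymm ?_ c1
    calc mlN E F V m = (C ⊔ K) ⊓ mlN E F V m := by rw [sup_comm, hsup, inf_eq_right.2 mlN_le]
      _ = C ⊔ K ⊓ mlN E F V m := sup_inf_assoc_of_le_normalizer
          (inf_le_left.trans (le_normalizer_commutator_left _ _)) c1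
      _ ≤ C := sup_le le_rfl (i1.trans hZC)
  have hcj : ∀ n, mlN E F V (a •ᶜ n) = a •ᶜ mlN E F V n := fun n =>
    mlN_conj (h.AB ha) (h.AF ha) (h.AV ha)
  have hcard : Nat.card (mlN E F V m₂) = Nat.card C := by rw [hm₂, hcj, card_map_conj, e1]
  have hsup2 : K ⊔ mlN E F V m₂ = F := by
    refine Quad.eq_of_le_of_card_le (sup_le hKF mlN_le) ?_
    have b1 := Quad.card_sup_mul_card_inf (hKF.trans (h.F_N (m := m₂)))
    have b2 := Quad.card_sup_mul_card_inf' (A := K) (B := C)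
      (inf_le_left.trans (le_normalizer_commutator_left _ _))
    rw [hsup, ← hcard, ← b1] at b2
    have b3 : Nat.card ↥(K ⊓ mlN E F V m₂) ≤ Nat.card ↥(K ⊓ C) :=
      card_le_of_le (le_inf inf_le_left (i2.trans hZC))
    have b4 := Nat.mul_le_mul_left (Nat.card F) b3
    rw [b2] at b4
    exact Nat.le_of_mul_le_mul_right b4 Nat.card_pos
  have hxK : zpowers x ≤ N[K] := le_normalizer_commutator_right _ _
  have hxN : zpowers x ≤ N[mlN E F V m₂] := (zpowers_le_of_mem hx).trans (h.E_N hm2.le)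
  have c2 : C ≤ mlN E F V m₂ := by
    have := CoprimeAct.sup_inf_centralizer hxK hxN
      (h.actE (zpowers_le_of_mem hx) (inf_le_left.trans hKF) (le_normalizer_inf hxK hxN))
      (mlN_le.trans (le_normalizer_commutator_left _ _))
    rw [hsup2] at this
    rw [hC, this]
    exact sup_le ((h.K_inf hx).trans le_sup_right) inf_le_left
  have e2 : mlN E F V m₂ = C := (Quad.eq_of_le_of_card_le c2 hcard.le).symm
  have e3 : mlN E F V (a •ᶜ m₂) = mlN E F V m := by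
    rw [hcj, e2, ← e1, ← hcj, ← hm₂, e2, e1]
  have hK3 : ¬ K ≤ C[V ⊓ C[a •ᶜ m₂]] := fun hle =>
    hK1 (h.K_le_C_of_le_N hm.le hx (e3 ▸ hCN _ hle))
  rcases hoth _ (hwt a ha _ hm2) hK3 with e | e
  · rw [hm₂, ← map_conj_mul] at e
    have h2 : a * a ∈ N[m] := mem_normalizer_of_map_conj_eq e
    obtain ⟨k, hk⟩ := h.hA ⟨a, ha⟩
    have hk' : a ^ p ^ k = 1 := congrArg Subtype.val hk
    obtain ⟨j, hj⟩ : Odd (p ^ k) := (hp.out.odd_of_ne_two h.p2).pow
    refine ham ?_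
    have : a = (a * a) ^ (j + 1) := by
      rw [← sq, ← pow_mul, show 2 * (j + 1) = p ^ k + 1 by omega, pow_succ, hk', one_mul]
    rw [this]
    exact pow_mem h2 _
  · exact n21 (map_injective (MulAut.conj a).injective e)

end MLMin

end Cfsg.Lib.FT
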