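import Cfsg.Agent.Lib.SF2.ML5

/-!
# The module lemma: extraspecial `F`
-/

set_option autoImplicit false
set_option maxHeartbeats 400000

namespace Cfsg.Lib.FT
open Subgroup Cfsg.Lib
open scoped commutatorElement

variable {G : Type*} [Group G] [Finite G] {p r t : ℕ} {A B D E F V : Subgroup G}

theorem ml_three_pow {X M : Subgroup G} (hX : IsPGroup 3 X) {d : ℕ} (hd : d ∣ M.relIndex X) :
    ∃ j, d = 3 ^ j := by
  haveI : Fact (Nat.Prime 3) := ⟨Nat.prime_three⟩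
  obtain ⟨k, hk⟩ := IsPGroup.iff_card.1 hX
  have : d ∣ 3 ^ k := hk ▸ hd.trans (relIndex_dvd_card M X)
  obtain ⟨j, -, hj⟩ := (Nat.dvd_prime_pow Nat.prime_three).1 this
  exact ⟨j, hj⟩

theorem ml_d3 [hp : Fact p.Prime] (p2 : p ≠ 2) {X M : Subgroup G} (hX : IsPGroup 3 X)
    (hlt : M.relIndex X < 27) : ∀ d, d ∣ M.relIndex X → d ≡ 1 [MOD p] → d = 1 := by
  intro d hd hm
  obtain ⟨j, rfl⟩ := ml_three_pow hX hd
  have h1 : 3 ^ j < 3 ^ 3 :=
    (Nat.le_of_dvd (Nat.pos_of_ne_zero index_ne_zero_of_finite) hd).trans_lt hlt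
  have h2 : j < 3 := (Nat.pow_lt_pow_iff_right (by norm_num)).1 h1
  have h3 := (Nat.modEq_iff_dvd' (Nat.one_le_pow _ _ (by norm_num))).1 hm.symm
  have h4 : ∀ n, ¬ p ∣ 2 ^ n := fun n hn =>
    p2 ((Nat.prime_dvd_prime_iff_eq hp.out Nat.prime_two).1 (hp.out.dvd_of_dvd_pow hn))
  interval_cases j
  · rfl
  · exact absurd h3 (h4 1)
  · exact absurd h3 (h4 3)

theorem ml_comm_lt [hr : Fact r.Prime] {W : Subgroup G} (hW : IsPGroup r W) (hE : IsPGroup r E)
    (hn : E ≤ N[W]) (hne : W ≠ ⊥) : ⁅W, E⁆ < W :=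
  lt_of_le_of_ne (Quad.commutator_le_of_le_normalizer hn) fun e =>
    hne (Quad.eq_bot_of_le_commutator_of_isPGroup hW hE hn le_rfl e.ge)

theorem ml_le_relIndex [hr : Fact r.Prime] {W M : Subgroup G} (hW : IsPGroup r W) (h : ¬ W ≤ M) :
    r ≤ M.relIndex W := by
  obtain ⟨k, hk⟩ := IsPGroup.iff_card.1 hW
  obtain ⟨j, -, hj⟩ := (Nat.dvd_prime_pow hr.out).1 (hk ▸ relIndex_dvd_card M W)
  have : j ≠ 0 := fun e => h (relIndex_eq_one.1 (by rw [hj, e, pow_zero]))
  rw [hj]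
  exact Nat.le_self_pow this r

variable [hp : Fact p.Prime] [hr : Fact r.Prime] [ht : Fact t.Prime]

namespace MLMin
variable (h : MLMin p r t A E F V) (hZ : F ⊓ C[E] ≠ ⊥) (hm : Wt t (F ⊓ C[E]) V ⊥)
include h hZ hm

theorem fpfZ {X : Subgroup G} (hX : X ≤ F ⊓ C[E]) (hne : X ≠ ⊥) : V ⊓ C[X] = ⊥ := by
  have := (h.wsZ hZ).inf_C_eq_bot hm hX fun hle => hne (eq_bot_iff.2 hle)
  rwa [show V ⊓ C[(⊥ : Subgroup G)] = V from
    inf_eq_left.2 (le_centralizer_iff.1 bot_le)] at this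

theorem fpfz {z v : G} (hz : z ∈ F ⊓ C[E]) (hv : v ∈ V) (hv1 : v ≠ 1) (hc : z * v = v * z) :
    z = 1 := by
  by_contra h1
  have := h.fpfZ hZ hm (zpowers_le_of_mem hz) (by simpa using h1)
  have hv2 : v ∈ V ⊓ C[zpowers z] := ⟨hv, by
    rw [centralizer_zpowers]; exact mem_centralizer_singleton_iff.2 hc.symm⟩
  rw [this, mem_bot] at hv2
  exact hv1 hv2

omit h hZ in
theorem cardZ : Nat.card ↥(F ⊓ C[E]) = t := by
  have := hm.idx
  rwa [relIndex_bot_left] at this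

theorem fin23 (h3 : t = 3) {v : G} (hv : v ∈ V) (hv1 : v ≠ 1)
    (hi : (F ⊓ C1[v] ⊔ F ⊓ C[E]).relIndex F < 9) : False := by
  subst h3
  set F₂ := F ⊓ C1[v] ⊔ F ⊓ C[E] with hF₂
  have hle : F₂ ≤ F := sup_le inf_le_left inf_le_left
  have h1 : F ⊓ C1[v] ≤ C[F ⊓ C1[v]] := by
    intro a ha b hb
    have hz := h.der_le (commutator_mem_commutator hb.1 ha.1)
    have hc : ⁅b, a⁆ ∈ C1[v] := by
      rw [commutatorElement_def]
      exact mul_mem (mul_mem (mul_mem hb.2 ha.2) (inv_mem hb.2)) (inv_mem ha.2)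
    exact commutatorElement_eq_one_iff_mul_comm.1
      (h.fpfz hZ hm hz hv hv1 (mem_centralizer_singleton_iff.1 hc))
  have h2 : F₂ ≤ C[F₂] := by
    rw [hF₂, centralizer_sup]
    refine sup_le (le_inf h1 (inf_le_left.trans (le_centralizer_iff.1 h.Z_cent))) (le_inf ?_ ?_)
    · exact h.Z_cent.trans (centralizer_mono inf_le_left)
    · exact h.Z_cent.trans (centralizer_mono inf_le_left)
  have hnle : ¬ F ≤ F₂ := fun hle' => h.bad (((le_inf le_rfl (hle'.trans (h2.trans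
    (centralizer_mono hle')))).trans (h.center_le hZ)).trans inf_le_right)
  obtain ⟨g, hg, hgn⟩ := SetLike.not_le_iff_exists.1 hnle
  obtain ⟨j, hj⟩ := ml_three_pow h.hF (dvd_refl (F₂.relIndex F))
  have hidx : F₂.relIndex F = 3 := by
    have a := ml_le_relIndex h.hF hnle
    rw [hj] at a hi ⊢
    have : j < 2 := (Nat.pow_lt_pow_iff_right (by norm_num)).1 (show 3 ^ j < 3 ^ 2 from hi)
    interval_cases j
    · omega
    · rfl
  have hsup := (ml_eq_or_eq_of_prime Nat.prime_three hidx (le_sup_left : F₂ ≤ F₂ ⊔ zpowers g)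
    (sup_le hle (zpowers_le_of_mem hg))).resolve_left fun e =>
      hgn (e ▸ mem_sup_right (mem_zpowers g))
  have h4 : F₂ ⊓ C1[g] ≤ F ⊓ C[E] := by
    refine le_trans (le_inf (inf_le_left.trans hle) ?_) (h.center_le hZ)
    conv_rhs => rw [← hsup, centralizer_sup, centralizer_zpowers]
    exact inf_le_inf_right _ h2
  have h5 := ml_CI (H := F₂) (g := g) fun y hy => h.der_le (commutator_mem_commutator (hle hy) hg)
  rw [cardZ hm, ← inf_relIndex_left] at h5
  have h6 : (F ⊓ C[E]).relIndex F₂ ≤ 3 :=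
    (relIndex_le_of_le_left h4 index_ne_zero_of_finite).trans h5
  have h7 := relIndex_mul_relIndex _ F₂ F le_sup_right hle
  rw [hidx] at h7
  have h8 := ml_d3 h.p2 h.hF (M := F ⊓ C[E]) (by omega) _ dvd_rfl
    (ml_T2 h.hA h.ndF h.AF h.A_norm_Z inf_le_left h.CA_le)
  exact h.bad ((relIndex_eq_one.1 h8).trans inf_le_right)

theorem single23 (h2 : r = 2) (h3 : t = 3) {x : G} (hx : x ∈ E)
    (hs : Nat.card ↥(⁅V, zpowers x⁆) ≤ r ^ 2) (hc : x ∉ C[F]) (hxr : x ^ r ∈ C[F]) : False := by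
  obtain ⟨f, hf, hu⟩ : ∃ f ∈ F, ⁅x, f⁆ ∉ F ⊓ C[E] := by
    by_contra hcon
    push_neg at hcon
    exact h.K_not_le hx hc ((ml_K_le inf_le_left hcon).trans
      (inf_le_right.trans (centralizer_mono (zpowers_le_of_mem hx))))
  have h16 := h.card_u hx hs hf
  set u := ⁅x, f⁆ with hudef
  have huF : u ∈ F := by
    rw [hudef, ← commutatorElement_inv]
    exact inv_mem (h.comm_le hx (commutator_mem_commutator hf (mem_zpowers x)))
  have hZv : ∀ v ∈ V, v ≠ 1 → ∀ X : Subgroup G, ¬ F ⊓ C[E] ≤ X ⊓ C1[v] := fun v hv hv1 X hle =>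
    hZ (eq_bot_iff.2 fun z hz => mem_bot.2
      (h.fpfz hZ hm hz hv hv1 (mem_centralizer_singleton_iff.1 (hle hz).2)))
  by_cases h0 : V ⊓ C[zpowers u] = ⊥
  · have hV := (ml_card_le_comm h.hV.1 (h.FV huF) le_rfl h0).trans h16
    obtain ⟨⟨v, hv⟩, hv1⟩ := ne_bot_iff_exists_ne_one.1 h.V_ne
    have hv1' : v ≠ 1 := fun e => hv1 (Subtype.ext e)
    refine h.fin23 hZ hm h3 hv hv1' ?_
    have a := ml_orb' h.FV hv hv1'
    have b := relIndex_mul_relIndex (F ⊓ C1[v]) (F ⊓ C1[v] ⊔ F ⊓ C[E]) F le_sup_left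
      (sup_le inf_le_left inf_le_left)
    have c := ml_le_relIndex (M := F ⊓ C1[v]) (h.hF.to_le
      (sup_le inf_le_left inf_le_left : F ⊓ C1[v] ⊔ F ⊓ C[E] ≤ F))
      fun hle => hZv v hv hv1' F (le_sup_right.trans hle)
    rw [inf_relIndex_left F] at b
    subst h2 h3
    have := Nat.mul_le_mul_right ((F ⊓ C1[v] ⊔ F ⊓ C[E]).relIndex F) c
    omega
  · obtain ⟨⟨v, hv⟩, hv1⟩ := ne_bot_iff_exists_ne_one.1 h0
    have hv1' : v ≠ 1 := fun e => hv1 (Subtype.ext e)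
    obtain ⟨g, hg, hgu⟩ : ∃ g ∈ F, ⁅g, u⁆ ≠ 1 := by
      by_contra hcon
      push_neg at hcon
      exact hu (h.center_le hZ ⟨huF, fun g hg =>
        commutatorElement_eq_one_iff_mul_comm.1 (hcon g hg)⟩)
    set z := ⁅g, u⁆ with hzdef
    have hz : z ∈ F ⊓ C[E] := h.der_le (commutator_mem_commutator hg huF)
    have hzu : z * u = u * z := (h.Z_cent hz u huF).symm
    have hzg : z * g = g * z := (h.Z_cent hz g hg).symm
    have e1 : g * u * g⁻¹ = z * u := by rw [hzdef, commutatorElement_def]; group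
    have e2 : g * g * u * (g * g)⁻¹ = z * z * u := by
      calc g * g * u * (g * g)⁻¹ = g * (g * u * g⁻¹) * g⁻¹ := by group
        _ = g * (z * u) * g⁻¹ := by rw [e1]
        _ = (g * z) * g⁻¹ * (g * u * g⁻¹) := by group
        _ = z * z * u := by rw [← hzg, e1]; group
    have hz2 : z * z ≠ 1 := fun e => hgu (by
      have h33 : z ^ 3 = 1 := h3 ▸ h.ea_Z.2 z hz
      calc z = z ^ 3 * (z * z)⁻¹ := by group
        _ = 1 := by rw [h33, e]; group)
    set W := V ⊓ C[zpowers u] with hW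
    have key : ∀ k ∈ F, ∀ y ∈ F ⊓ C[E], k * u * k⁻¹ = y * u → ∀ b ∈ k •ᶜ W,
        b ∈ V ∧ y * u * b = b * (y * u) := by
      intro k hk y hy e b hb
      obtain ⟨c, hc', rfl⟩ := hb
      refine ⟨conj_mem_of_le_normalizer h.FV hk hc'.1, ?_⟩
      have : u * c = c * u := hc'.2 u (mem_zpowers u)
      rw [← e]
      change k * u * k⁻¹ * (k * c * k⁻¹) = k * c * k⁻¹ * (k * u * k⁻¹)
      calc k * u * k⁻¹ * (k * c * k⁻¹) = k * (u * c) * k⁻¹ := by group
        _ = k * c * k⁻¹ * (k * u * k⁻¹) := by rw [this]; group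
    have key2 : ∀ k ∈ F, ∀ y ∈ F ⊓ C[E], y ≠ 1 → k * u * k⁻¹ = y * u →
        k •ᶜ W ≤ ⁅V, zpowers u⁆ := by
      intro k hk y hy hy1 e
      have hyu : y * u = u * y := (h.Z_cent hy u huF).symm
      have hle : k •ᶜ W ≤ V := fun b hb => (key k hk y hy e b hb).1
      have hn : u ∈ N[k •ᶜ W] := by
        rw [hW, ← ml_conj_wsp (h.FV hk)]
        refine ml_norm_wsp (X := zpowers u) (zpowers_le_of_mem (h.FV huF)) ?_ (mem_zpowers u)
        refine le_trans ?_ (centralizer_le_normalizer _)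
        rw [MonoidHom.map_zpowers, centralizer_zpowers, zpowers_le, mem_centralizer_singleton_iff]
        change u * (k * u * k⁻¹) = (k * u * k⁻¹) * u
        rw [e, ← mul_assoc, ← hyu]
      rw [← ml_comm_eq_of_fpf (sft_comm_of_le h.hV.1 hle) hn ?_]
      · exact commutator_mono hle le_rfl
      · rw [eq_bot_iff]
        intro b hb
        obtain ⟨b1, b2⟩ := key k hk y hy e b hb.1
        have b3 : u * b = b * u := hb.2 u (mem_zpowers u)
        by_contra hb1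
        refine hy1 (h.fpfz hZ hm hy b1 hb1 ?_)
        calc y * b = y * (b * u) * u⁻¹ := by group
          _ = (y * u * b) * u⁻¹ := by rw [← b3]; group
          _ = b * y := by rw [b2]; group
    have hcard := ml_card_mul_le (key2 g hg z hz hgu e1)
      (key2 (g * g) (mul_mem hg hg) (z * z) (mul_mem hz hz) hz2 e2) (by
        rw [eq_bot_iff]
        intro b hb
        obtain ⟨b1, b2⟩ := key g hg z hz e1 b hb.1
        obtain ⟨-, b3⟩ := key (g * g) (mul_mem hg hg) (z * z) (mul_mem hz hz) e2 b hb.2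
        by_contra hb1
        refine hgu (h.fpfz hZ hm hz b1 hb1 ?_)
        calc z * b = z * (b * (z * u)) * (z * u)⁻¹ := by group
          _ = (z * z * u * b) * (z * u)⁻¹ := by rw [← b2]; group
          _ = b * z := by rw [b3]; group)
    rw [card_map_conj, card_map_conj] at hcard
    have hW4 : Nat.card W ≤ 4 := by
      subst h2
      have := hcard.trans h16
      nlinarith
    have hF0 : F ⊓ C1[u] ≤ N[W] := ml_norm_wsp (inf_le_left.trans h.FV)
      (inf_le_right.trans (by rw [← centralizer_zpowers]; exact centralizer_le_normalizer _))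
    have a := ml_orb' hF0 hv hv1'
    have hZ0 : F ⊓ C[E] ≤ F ⊓ C1[u] := le_inf inf_le_left
      (h.Z_cent.trans (centralizer_le_singleton huF))
    have b := ml_sup_eq (C := F ⊓ C1[u] ⊓ C1[v]) inf_le_left hZ0 (hZv v hv.1 hv1' _)
      (by rw [inf_relIndex_left]; omega)
    have c := ml_CI (H := F) (g := u) fun y hy => h.der_le (commutator_mem_commutator hy huF)
    rw [cardZ hm, ← inf_relIndex_left] at c
    refine h.fin23 hZ hm h3 hv.1 hv1' ?_
    have d : F ⊓ C1[u] ≤ F ⊓ C1[v] ⊔ F ⊓ C[E] := by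
      rw [← b]
      exact sup_le_sup_right (inf_le_inf_right _ inf_le_left) _
    have := relIndex_le_of_le_left (L := F) d index_ne_zero_of_finite
    omega

theorem single32 (h3 : r = 3) (h2 : t = 2) {x : G} (hx : x ∈ E)
    (hs : Nat.card ↥(⁅V, zpowers x⁆) ≤ r ^ 2) (hc : x ∉ C[F]) : False := by
  subst h3 h2
  have huF : ∀ f ∈ F, ⁅x, f⁆ ∈ ⁅F, zpowers x⁆ := fun f hf => by
    rw [← commutatorElement_inv]
    exact inv_mem (commutator_mem_commutator hf (mem_zpowers x))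
  have hKF := h.comm_le hx
  obtain ⟨f, hf, hu⟩ : ∃ f ∈ F, ⁅x, f⁆ ^ 2 ≠ 1 := by
    by_contra hcon
    push_neg at hcon
    have hcomm : ∀ f ∈ F, ∀ g ∈ F, ⁅x, f⁆ * ⁅x, g⁆ = ⁅x, g⁆ * ⁅x, f⁆ := by
      intro f hf g hg
      set a := ⁅x, f⁆ with ha
      set b := ⁅x, g⁆ with hb
      have haF : a ∈ F := hKF (huF f hf)
      have hbF : b ∈ F := hKF (huF g hg)
      have hz : ⁅f, b⁆ ∈ F ⊓ C[E] := h.der_le (commutator_mem_commutator hf hbF)
      set z := ⁅f, b⁆ with hzd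
      have e1 : ⁅x, f * g⁆ = a * (z * b) := by
        rw [ha, hzd, hb]; simp only [commutatorElement_def]; group
      have e2 := hcon _ (mul_mem hf hg)
      have c1 : Commute z a := (h.Z_cent hz a haF).symm
      have c2 : Commute z b := (h.Z_cent hz b hbF).symm
      have e3 : a * (z * b) = z * (a * b) := by rw [← mul_assoc, ← c1.eq, mul_assoc]
      rw [e1, e3, (c1.mul_right c2).mul_pow, h.ea_Z.2 z hz, one_mul] at e2
      have ea : a ^ 2 = 1 := hcon f hf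
      have eb : b ^ 2 = 1 := hcon g hg
      have h1 : a⁻¹ = a := by rw [inv_eq_iff_mul_eq_one, ← sq, ea]
      have h2 : b⁻¹ = b := by rw [inv_eq_iff_mul_eq_one, ← sq, eb]
      have h3 : (a * b)⁻¹ = a * b := by rw [inv_eq_iff_mul_eq_one, ← sq, e2]
      rw [mul_inv_rev, h1, h2] at h3
      exact h3.symm
    refine h.K_noncomm hZ hx hc ?_
    refine (ml_K_le (T := F ⊓ C[⁅F, zpowers x⁆]) inf_le_left fun g hg =>
      ⟨hKF (huF g hg), ?_⟩).trans inf_le_right
    have := (ml_K_le (T := F ⊓ C1[⁅x, g⁆]) inf_le_left fun f hf =>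
      ⟨hKF (huF f hf), mem_centralizer_singleton_iff.2 (hcomm f hf g hg)⟩).trans inf_le_right
    intro k hk
    exact mem_centralizer_singleton_iff.1 (this hk)
  have hu0 : V ⊓ C[zpowers ⁅x, f⁆] = ⊥ := by
    rw [eq_bot_iff, ← h.fpfZ hZ hm (zpowers_le_of_mem (h.pow_memZ (hKF (huF f hf))))
      (by simpa using hu)]
    exact inf_le_inf_left _ (centralizer_mono (zpowers_le_of_mem (pow_mem (mem_zpowers _) 2)))
  have hV := (ml_card_le_comm h.hV.1 (h.FV (hKF (huF f hf))) le_rfl hu0).trans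
    (ml_card_comm_comm h.hV.1 (h.BV hx) (h.FV hf))
  have hVp := elemAb_isPGroup h.hV
  set i := Nat.card ↥(⁅V, zpowers x⁆) with hi
  have hx1 : ⁅V, zpowers x⁆ ≤ ⁅V, E⁆ := commutator_mono le_rfl (zpowers_le_of_mem hx)
  have hV1 : ⁅V, E⁆ ≠ ⊥ := fun e => hc (le_centralizer_iff.1 (h.actx hx
    |>.le_centralizer_of_commutator_le_centralizer (by
      rw [h.eq_bot hKF (h.K_le_cent h.FV (le_centralizer_of_commutator_eq_bot' e hx))]
      exact bot_le)) (mem_zpowers x))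
  have lt1 := ml_comm_lt hVp h.hB h.BV h.V_ne
  have hEn : E ≤ N[⁅V, E⁆] := le_normalizer_commutator_right _ _
  have lt2 := ml_comm_lt (hVp.to_le lt1.le) h.hB hEn hV1
  have a1 := ml_le_relIndex hVp lt1.not_ge
  have a2 := ml_le_relIndex (hVp.to_le lt1.le) lt2.not_ge
  have b1 := card_eq_relIndex_mul lt1.le
  have b2 := card_eq_relIndex_mul lt2.le
  have c1 : i ≤ Nat.card ↥(⁅V, E⁆) := card_le_of_le hx1
  have c3 : 0 < Nat.card ↥(⁅⁅V, E⁆, E⁆) := Nat.card_pos
  have hi81 : i ^ 2 ≤ 81 := (Nat.pow_le_pow_left hs 2).trans (by norm_num)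
  have d1 : (⁅V, E⁆ : Subgroup G).relIndex V < 27 := by
    by_contra hcon
    have : Nat.card ↥(⁅V, E⁆) ≤ 3 := by nlinarith
    have : i ^ 2 ≤ 3 ^ 2 := Nat.pow_le_pow_left (by omega) 2
    nlinarith
  have d3 : Nat.card ↥(⁅⁅V, E⁆, E⁆) < 27 := by
    have := Nat.mul_le_mul a1 (Nat.mul_le_mul_right (Nat.card ↥(⁅⁅V, E⁆, E⁆)) a2)
    rw [← b2, ← b1] at this
    omega
  have d2 : (⁅⁅V, E⁆, E⁆ : Subgroup G).relIndex ⁅V, E⁆ < 27 := by
    by_contra hcon
    have e1 := Nat.mul_le_mul a1 (Nat.mul_le_mul_right (Nat.card ↥(⁅⁅V, E⁆, E⁆))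
      (not_lt.1 hcon))
    rw [← b2, ← b1] at e1
    have e2 : ⁅⁅V, E⁆, E⁆ = ⊥ := card_eq_one.1 (by omega)
    have e3 : Nat.card ↥(⁅V, E⁆) ≤ Nat.card ↥(V ⊓ C[zpowers x]) := card_le_of_le (le_inf lt1.le
      ((commutator_eq_bot_iff_le_centralizer.1 e2).trans (centralizer_mono (zpowers_le_of_mem hx))))
    have e4 := Quad.card_commutator_zpowers_mul h.hV.1 (h.BV hx)
    have e5 : 27 ≤ Nat.card ↥(⁅V, E⁆) := by nlinarith
    have e6 : i ≤ 3 := by nlinarith
    have : i ^ 2 ≤ 3 ^ 2 := Nat.pow_le_pow_left e6 2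
    nlinarith
  have nd : ∀ X ≤ V, ¬ p ∣ Nat.card X := fun X hX => ml_not_dvd (hVp.to_le hX) h.pr
  have n1 : A ≤ N[⁅V, E⁆] := le_normalizer_commutator h.AV h.AB
  have n2 : A ≤ N[⁅⁅V, E⁆, E⁆] := le_normalizer_commutator n1 h.AB
  have t1 := ml_T2' h.hA (nd V le_rfl) h.AV n1 lt1.le (le_normalizer_commutator_left _ _)
    (ml_d3 h.p2 hVp d1)
  have t2 := ml_T2' h.hA (nd _ lt1.le) n1 n2 lt2.le (le_normalizer_commutator_left _ _)
    (ml_d3 h.p2 (hVp.to_le lt1.le) d2)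
  have hb : ∀ X : Subgroup G, X ≤ N[(⊥ : Subgroup G)] := fun X =>
    le_normalizer_of_commutator_eq_bot (commutator_bot_right X)
  have t3 := ml_T2' (M := ⊥) h.hA (nd _ (lt2.le.trans lt1.le)) n2 (hb _) bot_le (hb _)
    (ml_d3 h.p2 (hVp.to_le (lt2.le.trans lt1.le)) (by rwa [relIndex_bot_left]))
  have hact := ml_act h.hA hVp h.pr h.AV
  have t4 : ⁅V, A⁆ = ⊥ := by
    rw [eq_bot_iff, ← hact.commutator_commutator, ← hact.commutator_commutator]
    exact (commutator_mono ((commutator_mono t1 le_rfl).trans t2) le_rfl).trans t3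
  have t5 : ⁅F, A⁆ = ⊥ := h.eq_bot (Quad.commutator_le_of_le_normalizer h.AF)
    ((commutator_mono le_rfl (le_centralizer_of_commutator_eq_bot' t4)).trans
      (le_normalizer_iff_commutator_le_right.1 (le_normalizer_centralizer h.FV)))
  exact h.bad (((le_inf le_rfl (commutator_eq_bot_iff_le_centralizer.1 t5)).trans h.CA_le).trans
    inf_le_right)

theorem single {x : G} (hx : x ∈ E) (hs : Nat.card ↥(⁅V, zpowers x⁆) ≤ r ^ 2) (hc : x ∉ C[F])
    (hxr : x ^ r ∈ C[F]) : False := by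
  set W := ⁅V, zpowers x⁆ with hW
  have hWV : W ≤ V := Quad.commutator_le_of_le_normalizer (zpowers_le_of_mem (h.BV hx))
  have hW0 : W ≠ ⊥ := fun e => hc (le_centralizer_iff.1 (h.actx hx
    |>.le_centralizer_of_commutator_le_centralizer (by
      rw [h.eq_bot (h.comm_le hx) (h.K_le_cent h.FV
        (le_centralizer_of_commutator_eq_bot' e (mem_zpowers x)))]
      exact bot_le)) (mem_zpowers x))
  have hn : F ⊓ C[E] ≤ N[W] := le_normalizer_commutator (inf_le_left.trans h.FV)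
    (inf_le_right.trans ((centralizer_mono (zpowers_le_of_mem hx)).trans
      (centralizer_le_normalizer _)))
  have hmod := sm_card_modEq_card_inf_centralizer (h.hF.to_le inf_le_left) hn
  rw [show W ⊓ C[F ⊓ C[E]] = ⊥ from eq_bot_iff.2 ((inf_le_inf_right _ hWV).trans
    (h.fpfZ hZ hm le_rfl hZ).le), card_bot] at hmod
  obtain ⟨k, hk⟩ := IsPGroup.iff_card.1 ((elemAb_isPGroup h.hV).to_le hWV)
  have hk0 : k ≠ 0 := fun e => hW0 (card_eq_one.1 (by rw [hk, e, pow_zero]))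
  have hk2 : k ≤ 2 := ml_pow_le (hk ▸ hs)
  rw [hk] at hmod
  have hd := (Nat.modEq_iff_dvd' (Nat.one_le_pow _ _ hr.out.pos)).1 hmod.symm
  have htp := ht.out
  rcases h.r23 with e | e
  · refine h.single23 hZ hm e ?_ hx hs hc hxr
    subst e
    interval_cases k
    · exact absurd rfl hk0
    · exact absurd (Nat.dvd_one.1 hd) htp.one_lt.ne'
    · exact (Nat.prime_dvd_prime_iff_eq htp Nat.prime_three).1 hd
  · refine h.single32 hZ hm e ?_ hx hs hc
    subst e
    have h2 : ∀ n, t ∣ 2 ^ n → t = 2 := fun n h' =>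
      (Nat.prime_dvd_prime_iff_eq htp Nat.prime_two).1 (htp.dvd_of_dvd_pow h')
    interval_cases k
    · exact absurd rfl hk0
    · exact h2 1 hd
    · exact h2 3 hd

omit hZ hm in
theorem false : False := by
  by_cases hZ : F ⊓ C[E] = ⊥
  · exact h.caseA hZ
  obtain ⟨x, hx, hs, hxc, hxr⟩ := h.exists_step (X := C[F]) fun hle =>
    h.bad (le_centralizer_iff.1 hle)
  obtain ⟨m, hm, hK⟩ : ∃ m, Wt t (F ⊓ C[E]) V m ∧
      ¬ ⁅⁅F, zpowers x⁆, ⁅F, zpowers x⁆⁆ ≤ C[V ⊓ C[m]] := by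
    by_contra hcon
    push_neg at hcon
    exact h.K_noncomm hZ hx hxc (commutator_eq_bot_iff_le_centralizer.1
      (h.eq_bot_of_forall (h.wsZ hZ) ((Quad.commutator_le_of_le_normalizer le_normalizer).trans
        (h.comm_le hx)) hcon))
  by_cases hb : m = ⊥
  · subst hb
    exact h.single hZ hm hx hs hxc hxr
  · exact h.caseN hZ hm hb hx hs hK

end MLMin

end Cfsg.Lib.FT
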