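import Cfsg.Agent.Lib.SF2.GStar
import Cfsg.Agent.Lib.Signalizer.SFT.Main

/-!
# The solvable signalizer functor theorem, `p` odd: an odd prime `r` acts
-/

set_option autoImplicit false

namespace Cfsg.Lib.FT
open Subgroup Cfsg.Lib

variable {G : Type*} [Group G] [Finite G] {p : ℕ} {A : Subgroup G} {θ : G → Subgroup G}
  [hp : Fact p.Prime] {r : ℕ} [hr : Fact r.Prime]

namespace SftHyp
variable (h : SftHyp p A θ)
include h

/-- the case `O_r(H) ≤ C(b)`, `[H, b] ≤ M` -/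
theorem odd_cent (hr2 : r ≠ 2) {b : G} (hb : b ∈ A) (hb1 : b ≠ 1) {H M V : Subgroup G} {s : ℕ}
    (hH : SigMax p A θ H) (hbH : θ b ≤ H) (ho : Out p A θ H M s V)
    (hrH : piCoreOf {r} H ≠ ⊥) (hc : piCoreOf {r} H ≤ C1[b]) (hKM : ⁅H, zpowers b⁆ ≤ M) :
    False := by
  have := Fact.mk ho.prime
  have hVb := ho.inf_C1 hb hb1 hbH
  obtain ⟨R, hRm, hRH, hRr, hR0, hRR⟩ := h.exists_R hH hb hb1 hrH hc
  have hact := h.act_zp hH.mem hb
  have hKV : ⁅H, zpowers b⁆ ≤ N[V] := hKM.trans ho.norm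
  have hconj : ∀ g ∈ H, g •ᶜ R ≤ C[V] := by
    intro g hgH
    obtain ⟨k, hk, c, hc, rfl⟩ := hact.exists_commutator_mul_centralizer hgH
    have hcz : c •ᶜ zpowers b = zpowers b :=
      map_conj_eq_of_mem_normalizer (centralizer_le_normalizer _ hc.2)
    have hR' : ⁅c •ᶜ R, zpowers b⁆ = c •ᶜ R := by
      conv_rhs => rw [← hRR, map_commutator, hcz]
    have hRH' : c •ᶜ R ≤ H := map_conj_le_of_mem_normalizer hRH (le_normalizer hc.1)
    have hRK : c •ᶜ R ≤ ⁅H, zpowers b⁆ := hR' ▸ commutator_mono hRH' le_rfl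
    have hcard : Nat.card (c •ᶜ R : Subgroup G) = Nat.card R := card_map_conj R c
    have h1 : c •ᶜ R ≤ C[V] := by
      rw [← hR']
      refine sft_fpf (Or.inl (hcard ▸ sft_odd_card hr2 hRr))
        (le_normalizer_iff_commutator_le_left.2 hR'.le) (hcard ▸ (h.act_zp hRm hb).cop)
        (h.prime_zp hb hb1) (sigFam_solv ho.mem) (hRK.trans hKV) (h.act_zp ho.mem hb).norm ?_
        (h.act_zp ho.mem hb).cop (by rwa [centralizer_zpowers])
      rw [hcard]
      exact (isPiSubgroup_singleton_iff.2 hRr).coprime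
        (isPiSubgroup_compl_singleton_iff.2 (sft_not_dvd_card (ho.ne_of hrH) ho.isP))
    rw [map_conj_mul]
    exact map_conj_le_of_mem_normalizer h1 (le_normalizer_centralizer hKV hk)
  have hRV : R ≤ C[V] := map_conj_one R ▸ hconj 1 (one_mem H)
  have hEV : R ⊔ ⁅R, H⁆ ≤ C[V] := by
    refine sup_le hRV (commutator_le.2 fun y hy g hg => ?_)
    exact mem_of_mem_of_eq (mul_mem (hRV hy) (hconj g hg ⟨y⁻¹, inv_mem hy, rfl⟩))
      (by simp [commutatorElement_def, mul_assoc])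
  have hEH : R ⊔ ⁅R, H⁆ ≤ H := sup_le hRH ((commutator_le_sup _ _).trans (sup_le hRH le_rfl))
  have hHE : H ≤ N[R ⊔ ⁅R, H⁆] := by
    rw [le_normalizer_iff_commutator_le_left]
    exact commutator_sup_le_left (le_normalizer_of_le le_sup_left)
      (le_normalizer_of_le le_sup_right) le_sup_right
      ((le_normalizer_iff_commutator_le_left.1 (le_normalizer_commutator_right _ _)).trans
        le_sup_right)
  have hAE : A ≤ N[R ⊔ ⁅R, H⁆] := le_normalizer_sup (sigFam_norm hRm)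
    (le_normalizer_commutator (sigFam_norm hRm) (sigFam_norm hH.mem))
  exact ho.not_le ((h.loc_of_max hH (sigFam_mono hH.mem hEH hAE)
    (fun h0 => hR0 (eq_bot_iff.2 (h0 ▸ le_sup_left))) hHE).le_of_le_centralizer ho.mem
      (le_centralizer_symm hEV))

/-- the `Out` data from `b1c` when the target is not of characteristic `r` -/
theorem out_of_not_char {H M : Subgroup G} (hH : SigMax p A θ H) (hM : SigMax p A θ M)
    (har : SftArrow H M) (hrH : piCoreOf {r} H ≠ ⊥) (hnc : piCoreOf {r}ᶜ M ≠ ⊥) (hne : H ≠ M) :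
    ∃ s V, Out p A θ H M s V := by
  by_cases hσ : ∀ s : ℕ, s.Prime → piCoreOf {s} M ≠ ⊥ → piCoreOf {s} H ≠ ⊥
  · rcases h.b1c hH hM har hrH hσ with h1 | ⟨-, h2⟩
    · exact absurd h1 hne
    · exact absurd h2 hnc
  push Not at hσ
  obtain ⟨s, hs, h1, h2⟩ := hσ
  have := Fact.mk hs
  refine ⟨s, zCore s M, hs, h2, sigFam_zCore hM.mem s, zCore_ne_bot h1, isPGroup_zCore s M,
    zCore_comm s M, zCore_le' s M, le_normalizer_zCore le_normalizer, ?_, h.loc_zCore hM h1, rfl⟩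
  rw [eq_bot_iff, ← har.b1a (sigFam_solv hH.mem) h2]
  exact inf_le_inf_right _ (zCore_le _ _)

section D
variable {D M : Subgroup G} (hD : D ∈ signalizerFamily p A θ) (hD0 : D ≠ ⊥)
  (hDr : ∀ H ∈ signalizerFamily p A θ, D ≤ H → D ≤ piCoreOf {r} H)
  (hM : SigMax p A θ M) (hl : SigLoc p A θ D M)
include hD hDr hM hl

omit hp h in
theorem arrow_D {H : Subgroup G} (hH : SigMax p A θ H) (hDH : D ≤ H) : SftArrow H M :=
  sftArrow_of_loc hH.mem hM.mem hD ((hDr H hH.mem hDH).trans (piCoreOf_singleton_le_fit r H)) hl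

include hD0

theorem odd_not_char (hr2 : r ≠ 2) (hnc : piCoreOf {r}ᶜ M ≠ ⊥) {b : G} (hb : b ∈ A) (hb1 : b ≠ 1)
    (hDb : D ≤ C1[b]) : θ b ≤ M := by
  by_contra hbM
  have hDθ : D ≤ θ b := (le_inf le_rfl hDb).trans (sigFam_le hD hb hb1)
  obtain ⟨H₀, hH₀, hbH₀⟩ := exists_sigMax_ge (h.mem hb hb1)
  obtain ⟨T, -, ⟨H, hH, hbH, rfl⟩, hmax⟩ := Finite.exists_le_maximal
    (p := fun T : Subgroup G => ∃ H, SigMax p A θ H ∧ θ b ≤ H ∧ T = fittingOf M ⊓ H)
    ⟨H₀, hH₀, hbH₀, rfl⟩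
  have hne : ∀ H, θ b ≤ H → H ≠ M := fun H h1 e => hbM (e ▸ h1)
  have hcore : ∀ H, SigMax p A θ H → θ b ≤ H → piCoreOf {r} H ≠ ⊥ := fun H h1 h2 h0 =>
    hD0 (eq_bot_iff.2 (h0 ▸ hDr H h1.mem (hDθ.trans h2)))
  have har := arrow_D hD hDr hM hl hH (hDθ.trans hbH)
  have hrH := hcore H hH hbH
  obtain ⟨s, V, ho⟩ := h.out_of_not_char hH hM har hrH hnc (hne H hbH)
  have := Fact.mk ho.prime
  have hrs : r ≠ s := ho.ne_of hrH
  have hPm := sigFam_piCoreOf hH.mem {r}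
  have hPr := isPGroup_piCoreOf_singleton r H
  have hDP := hDr H hH.mem (hDθ.trans hbH)
  have hHP : H ≤ N[piCoreOf {r} H] := le_normalizer_piCoreOf _ _
  by_cases hc : piCoreOf {r} H ≤ C1[b]
  · refine h.odd_cent hr2 hb hb1 hH hbH ho hrH hc ?_
    have hc' : ⁅piCoreOf {r} H, zpowers b⁆ = ⊥ :=
      commutator_eq_bot_of_le_centralizer (by rwa [centralizer_zpowers])
    refine hl.le_of_le_centralizer (h.commutator_mem hH.mem hb)
      (le_trans ?_ (centralizer_mono hDP))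
    rw [← commutator_eq_bot_iff_le_centralizer]
    refine commutator_commutator_eq_bot_of_rotate ?_ ?_
    · rw [commutator_comm (zpowers b), hc', commutator_bot_left]
    · rw [eq_bot_iff, ← hc']
      exact commutator_mono (le_normalizer_iff_commutator_le_left.1 hHP) le_rfl
  -- the subgroup `U`
  have hTm : piCoreOf {r} H ⊓ C1[b] ∈ signalizerFamily p A θ := sigFam_inf hPm (h.A_norm_C1 hb)
  have hXm : piCoreOf {r} H ⊓ C[piCoreOf {r} H ⊓ C1[b]] ∈ signalizerFamily p A θ :=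
    sigFam_inf_C hPm (sigFam_norm hTm)
  have hact := h.act_zp hXm hb
  have hUm := h.commutator_mem hXm hb
  have hUX := hact.commutator_le
  have hUU := hact.commutator_commutator
  have hU0 : ⁅piCoreOf {r} H ⊓ C[piCoreOf {r} H ⊓ C1[b]], zpowers b⁆ ≠ ⊥ := by
    intro h0
    rw [commutator_eq_bot_iff_le_centralizer] at h0
    refine hc ?_
    rw [← centralizer_zpowers]
    refine (h.act_zp hPm hb).le_centralizer_of_nilpotent (isNilpotent_of_isPGroup hPr)
      (U := piCoreOf {r} H ⊓ C1[b]) inf_le_left (by rw [centralizer_zpowers]; exact inf_le_right)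
      (le_inf inf_le_left ?_)
    rwa [centralizer_zpowers] at h0
  have hθP : θ b ≤ N[piCoreOf {r} H] := hbH.trans hHP
  have hθU : θ b ≤ N[⁅piCoreOf {r} H ⊓ C[piCoreOf {r} H ⊓ C1[b]], zpowers b⁆] :=
    le_normalizer_commutator (le_normalizer_inf hθP (le_normalizer_centralizer
      (le_normalizer_inf hθP (le_normalizer_of_le (h.le_C1 hb hb1)))))
      (le_normalizer_of_le_centralizer (by rw [centralizer_zpowers]; exact h.le_C1 hb hb1))
  have hUD : ⁅piCoreOf {r} H ⊓ C[piCoreOf {r} H ⊓ C1[b]], zpowers b⁆ ≤ C[D] :=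
    hUX.trans (inf_le_right.trans (centralizer_mono (le_inf hDP hDb)))
  generalize ⁅piCoreOf {r} H ⊓ C[piCoreOf {r} H ⊓ C1[b]], zpowers b⁆ = U at *
  have hUP : U ≤ piCoreOf {r} H := hUX.trans inf_le_left
  have hUM : U ≤ M := hl.le_of_le_centralizer hUm hUD
  have hUr : IsPGroup r U := hPr.to_le hUP
  -- `U` centralizes `O_s(M)`
  have hSm := sigFam_piCoreOf hM.mem {s}
  have hSH : piCoreOf {s} M ⊓ H = ⊥ := har.b1a (sigFam_solv hH.mem) ho.core
  have hSU : piCoreOf {s} M ≤ C[U] := by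
    refine le_centralizer_symm ?_
    rw [← hUU]
    refine h.fpf hUm hUr (Or.inl (sft_odd_card hr2 hUr)) hSm
      (sft_not_dvd_card hrs (isPGroup_piCoreOf_singleton s M))
      (hUM.trans (le_normalizer_piCoreOf _ _)) hb hb1 ?_
    rw [eq_bot_iff, ← hSH]
    exact le_inf inf_le_left ((sigFam_le hSm hb hb1).trans hbH)
  obtain ⟨N, hN, hlN⟩ := h.exists_loc hUm hU0
  have hbN : θ b ≤ N := hlN _ (h.mem hb hb1) hθU
  have harN := arrow_D hD hDr hM hl hN (hDθ.trans hbN)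
  have hSN : piCoreOf {s} M ≤ N := hlN.le_of_le_centralizer hSm hSU
  have hS0 : piCoreOf {s} M ≠ ⊥ := fun h0 =>
    ho.ne (eq_bot_iff.2 (by rw [ho.eq, ← h0]; exact zCore_le _ _))
  have hsN : piCoreOf {s} N ≠ ⊥ := fun h0 => hS0 (by
    have := harN.b1a (sigFam_solv hN.mem) h0
    rwa [inf_eq_left.2 hSN] at this)
  have hle : fittingOf M ⊓ H ≤ N := by
    refine le_of_forall_piCoreOf_singleton_le
      (isNilpotent_of_le inf_le_left (isNilpotent_fit M)) fun t ht _ => ?_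
    have := Fact.mk ht
    have h1 : piCoreOf {t} (fittingOf M ⊓ H) ≤ piCoreOf {t} M ⊓ H :=
      le_inf (le_piCoreOf_of_le_fit (isPiSubgroup_piCoreOf _ _)
        ((piCoreOf_le _ _).trans inf_le_left)) ((piCoreOf_le _ _).trans inf_le_right)
    refine h1.trans ?_
    by_cases htr : t = r
    · subst htr
      exact inf_le_left.trans (h.b1b' hN hM.mem harN hrs.symm hsN (hcore N hN hbN))
    by_cases htH : piCoreOf {t} H = ⊥
    · rw [har.b1a (sigFam_solv hH.mem) htH]; exact bot_le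
    refine inf_le_left.trans (hlN.le_of_le_centralizer (sigFam_piCoreOf hM.mem _) ?_)
    exact (h.b1b_cent hH hM.mem har (Ne.symm htr) htH).trans (centralizer_mono (le_inf hUP hUM))
  have h2 := hmax ⟨N, hN, hbN, rfl⟩ (le_inf inf_le_left hle)
  refine hS0 (eq_bot_iff.2 ?_)
  rw [← hSH]
  exact le_inf le_rfl ((le_inf (piCoreOf_singleton_le_fit s M) hSN).trans (h2.trans inf_le_right))

theorem odd_char (hp2 : p ≠ 2) (hc : piCoreOf {r}ᶜ M = ⊥) (hCM : signalizerInf A θ ≤ M)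
    {b : G} (hb : b ∈ A) (hb1 : b ≠ 1) (hDb : D ≤ C1[b]) : θ b ≤ M := by
  have hDθ : D ≤ θ b := (le_inf le_rfl hDb).trans (sigFam_le hD hb hb1)
  obtain ⟨H, hH, hbH⟩ := exists_sigMax_ge (h.mem hb hb1)
  have hcore : ∀ H, SigMax p A θ H → D ≤ H → piCoreOf {r} H ≠ ⊥ := fun H h1 h2 h0 =>
    hD0 (eq_bot_iff.2 (h0 ▸ hDr H h1.mem h2))
  have key : ∀ H, SigMax p A θ H → D ≤ H → H = M ∨ piCoreOf {r}ᶜ H = ⊥ := by
    intro H hH hDH
    refine (h.b1c hH hM (arrow_D hD hDr hM hl hH hDH) (hcore H hH hDH) fun s _ hs => ?_).imp_right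
      And.left
    by_cases hsr : s = r
    · exact hsr ▸ hcore H hH hDH
    · exact absurd (piCoreOf_eq_bot_of_compl_eq_bot hc hsr) hs
  have hDH := hDθ.trans hbH
  by_cases hHM : H = M
  · exact hHM ▸ hbH
  exfalso
  have hcH := (key H hH hDH).resolve_left hHM
  obtain ⟨N, hN, hle, -, s, V, ho⟩ := h.gstar hp2 hH hM (arrow_D hD hDr hM hl hH hDH) hcH
    ((sigInf_le hb hb1).trans hbH) hCM hHM
  have hsr : s ≠ r := (ho.ne_of (hcore H hH hDH)).symm
  have hsN : piCoreOf {s} N ≠ ⊥ := fun h0 =>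
    ho.ne (eq_bot_iff.2 (by rw [ho.eq, ← h0]; exact zCore_le _ _))
  rcases key N hN ((le_inf hDH (hl D hD le_normalizer)).trans hle) with e | e
  · exact hsN (piCoreOf_eq_bot_of_compl_eq_bot (e ▸ hc) hsr)
  · exact hsN (piCoreOf_eq_bot_of_compl_eq_bot e hsr)

end D

/-- no odd prime `r` acts -/
theorem false_of_odd_prime (hp2 : p ≠ 2) (hr2 : r ≠ 2) {a : G} (ha : a ∈ A) (h1 : a ≠ 1)
    {H : Subgroup G} (hH : SigMax p A θ H) (haH : θ a ≤ H)
    (hc : ⁅piCoreOf {r} H, zpowers a⁆ ≠ ⊥) : False := by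
  have hPm := sigFam_piCoreOf hH.mem {r}
  have hPr := isPGroup_piCoreOf_singleton r H
  have hHP : H ≤ N[piCoreOf {r} H] := le_normalizer_piCoreOf _ _
  obtain ⟨B, hB, hBc, hY0⟩ : ∃ B ≤ A, Nat.card B = p ^ 2 ∧
      ⁅piCoreOf {r} H ⊓ C[B], zpowers a⁆ ≠ ⊥ := by
    by_contra hcc
    push Not at hcc
    exact hc (eq_bot_iff.2 (sft_g0h h.elem h.card (h.act hPm) (zpowers_le.2 ha)
      fun B hB hBc => (hcc B hB hBc).le))
  have hXm : piCoreOf {r} H ⊓ C[B] ∈ signalizerFamily p A θ := sigFam_inf_C hPm (h.A_norm hB)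
  have hYm := h.commutator_mem hXm ha
  have hYX := (h.act_zp hXm ha).commutator_le
  have hYY := (h.act_zp hXm ha).commutator_commutator
  have hCY : signalizerInf A θ ≤ N[⁅piCoreOf {r} H ⊓ C[B], zpowers a⁆] :=
    le_normalizer_commutator (le_normalizer_inf
      (((sigInf_le ha h1).trans haH).trans hHP) (h.inf_norm_C hB)) (h.inf_norm_zp ha)
  generalize ⁅piCoreOf {r} H ⊓ C[B], zpowers a⁆ = D at *
  have hDr : ∀ K ∈ signalizerFamily p A θ, D ≤ K → D ≤ piCoreOf {r} K := by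
    intro K hK hDK
    have hXr : IsPGroup r ↥(piCoreOf {r} H ⊓ K) := hPr.to_le inf_le_left
    rw [← hYY]
    refine (commutator_mono (le_inf (hYX.trans inf_le_left) hDK) le_rfl).trans
      (h.fl hK inf_le_right hXr (Or.inl (sft_odd_card hr2 hXr))
      (sigFam_norm (sigFam_inf hPm (sigFam_norm hK))) ha h1 ?_)
    exact le_normalizer_inf (((sigFam_le hK ha h1).trans haH).trans hHP)
      (le_normalizer_of_le inf_le_left)
  obtain ⟨M, hM, hl⟩ := h.exists_loc hYm hY0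
  refine h.not_line hB hBc hM.mem fun b hbB hb1 => ?_
  have hDb : D ≤ C1[b] := hYX.trans (inf_le_right.trans (centralizer_le_singleton hbB))
  by_cases hcM : piCoreOf {r}ᶜ M = ⊥
  · exact h.odd_char hYm hY0 hDr hM hl hp2 hcM (hl _ h.inf_mem hCY) (hB hbB) hb1 hDb
  · exact h.odd_not_char hYm hY0 hDr hM hl hr2 hcM (hB hbB) hb1 hDb

end SftHyp

end Cfsg.Lib.FT
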