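import Cfsg.Agent.Lib.SF2.ML
import Cfsg.Agent.Lib.Quad.Holo
import Cfsg.Agent.Lib.Transfer.Alperin

/-!
# Offenders and Thompson factorization under coprime action (owner: helper8)
-/

set_option autoImplicit false

namespace Cfsg.Lib.FT
open Subgroup Cfsg.Lib

variable {G : Type*} [Group G] [Finite G] {p r : ℕ} {A H B V : Subgroup G}

/-- `A` acts coprimely on the solvable group `H`, and `C_H(A)` normalizes the invariant Sylow
`r`-subgroup `B` -/
structure OffH (p r : ℕ) (A H B : Subgroup G) : Prop where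
  p2 : p ≠ 2
  pr : p ≠ r
  r23 : r = 2 ∨ r = 3
  hA : IsPGroup p A
  solv : Group.IsSolvable H
  nd : ¬ p ∣ Nat.card H
  AH : A ≤ N[H]
  syl : IsSylowIn r B H
  AB : A ≤ N[B]
  fix : H ⊓ C[A] ≤ N[B]

/-- the normal closure of `Ω₁ Z(B)` in `H` -/
def offV (r : ℕ) (H B : Subgroup G) : Subgroup G := ⨆ h : H, (h : G) •ᶜ omegaOne r (B ⊓ C[B])

/-- the faithful situation -/
structure OffF (p r : ℕ) (A H B V : Subgroup G) : Prop where
  p2 : p ≠ 2
  pr : p ≠ r
  r23 : r = 2 ∨ r = 3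
  hA : IsPGroup p A
  solv : Group.IsSolvable H
  nd : ¬ p ∣ Nat.card H
  AH : A ≤ N[H]
  hB : IsPGroup r B
  BH : B ≤ H
  AB : A ≤ N[B]
  fix : H ⊓ C[A] ≤ N[B]
  hV : IsElementaryAbelian r V
  AV : A ≤ N[V]
  HV : H ≤ N[V]
  faith : H ⊓ C[V] = ⊥
  core : piCoreOf {r} H = ⊥

variable [hp : Fact p.Prime] [hr : Fact r.Prime]

namespace OffF
variable (h : OffF p r A H B V)
include h

omit hp in
theorem eq_bot_of {Y : Subgroup G} (hY : Y ≤ B)
    (hc : ∀ t : ℕ, t.Prime → t ≠ r → piCoreOf {t} H ≤ C[Y]) : Y = ⊥ := by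
  have h1 : fittingOf H ≤ C[Y] := fit_le_of_forall fun t ht _ => by
    by_cases htr : t = r
    · rw [htr, h.core]; exact bot_le
    · exact hc t ht htr
  rw [eq_bot_iff, ← h.core]
  exact le_piCoreOf_of_le_fit (isPiSubgroup_singleton_iff.2 (h.hB.to_le hY))
    ((le_inf (hY.trans h.BH) (le_centralizer_symm h1)).trans (inf_centralizer_fit_le h.solv))

theorem elt {y : G} (hy : y ∈ B)
    (hs : Nat.card V ≤ r ^ 2 * Nat.card ↥(V ⊓ C[zpowers y])) : zpowers y = ⊥ := by
  have hs' : Nat.card ↥(⁅V, zpowers y⁆) ≤ r ^ 2 := by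
    rw [← Quad.card_commutator_zpowers_mul h.hV.1 (h.HV (h.BH hy))] at hs
    exact Nat.le_of_mul_le_mul_right hs Nat.card_pos
  refine h.eq_bot_of (zpowers_le.2 hy) fun t ht htr => ?_
  have := Fact.mk ht
  have hF := isPGroup_piCoreOf_singleton t H
  have hFH := piCoreOf_le {t} H
  have hBF : B ≤ N[piCoreOf {t} H] := h.BH.trans (le_normalizer_piCoreOf _ _)
  by_cases htp : p = t
  · subst htp
    rw [piCoreOf_eq_bot_of_compl (isPiSubgroup_compl_singleton_iff.2 h.nd)]
    exact bot_le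
  have key := ml_main (p := p) (r := r) (t := t) ⟨h.p2, h.pr, htp, htr, h.r23⟩
    (A := A) (B := B) (F := piCoreOf {t} H) (V := V)
    ⟨h.hA, h.hB, hF, h.hV, h.AB, le_normalizer_piCoreOf_of_le _ h.AH, h.AV, hBF,
      h.BH.trans h.HV, hFH.trans h.HV, by
        rw [commutator_eq_bot_of_le_centralizer]
        · exact bot_le
        rw [← commutator_eq_bot_iff_le_centralizer, eq_bot_iff,
          ← (isPiSubgroup_piCoreOf {t} H).inf_eq_bot ((isPiSubgroup_singleton_iff.2 h.hB).mono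
            (by simpa using htr))]
        exact le_inf ((commutator_mono inf_le_left le_rfl).trans
          (le_normalizer_iff_commutator_le_left.1 hBF))
          (le_normalizer_iff_commutator_le_right.1 ((inf_le_inf_right _ hFH).trans h.fix))⟩ y hy hs'
  rw [← commutator_eq_bot_iff_le_centralizer, eq_bot_iff, ← h.faith]
  exact le_inf ((commutator_le_sup _ _).trans (sup_le hFH (zpowers_le.2 (h.BH hy)))) key

theorem off {Y : Subgroup G} (hY : Y ≤ B) (hea : IsElementaryAbelian r Y)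
    (hoff : Nat.card V ≤ r * Nat.card Y * Nat.card ↥(V ⊓ C[Y])) : Y = ⊥ := by
  induction Y using WellFoundedLT.induction with
  | ind Y ih =>
  by_contra hne
  refine hne (h.eq_bot_of hY fun t ht htr => ?_)
  have := Fact.mk ht
  set T := piCoreOf {t} H with hT
  have hTH : T ≤ H := piCoreOf_le _ _
  have hTr : ¬ r ∣ Nat.card T := (isPiSubgroup_piCoreOf {t} H).not_dvd hr.out (Ne.symm htr)
  have hYT : Y ≤ N[T] := (hY.trans h.BH).trans (le_normalizer_piCoreOf _ _)
  have hYp := elemAb_isPGroup hea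
  have hVp := elemAb_isPGroup h.hV
  have hYV : Y ≤ N[V] := (hY.trans h.BH).trans h.HV
  have hact : CoprimeAct Y T := CoprimeAct.of_isPGroup hYp hTr hYT
  refine hact.le_of_hyperplane hea hne fun Y0 hY0 hi => ?_
  have hc0 := relIndex_mul_card hY0
  rw [hi] at hc0
  have hYY0 : Y ≤ C[Y0] := (isMulCommutative_iff_le_centralizer.1 hea.1).trans
    (centralizer_mono hY0)
  by_cases hU : V ⊓ C[Y0] ≤ C[Y]
  · have hn : Y ≤ N[T ⊓ C[Y0]] := le_normalizer_inf hYT (le_normalizer_of_le hYY0)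
    have hP : ⁅T ⊓ C[Y0], Y⁆ ≤ T ⊓ C[Y0] := le_normalizer_iff_commutator_le_left.1 hn
    have h1 : ⁅T ⊓ C[Y0], Y⁆ ≤ C[V ⊓ C[Y0]] := by
      rw [← commutator_eq_bot_iff_le_centralizer]
      refine commutator_commutator_eq_bot_of_rotate ?_ ?_
      · rw [commutator_eq_bot_of_le_centralizer' hU, commutator_bot_left]
      · rw [eq_bot_iff, ← commutator_eq_bot_of_le_centralizer hU]
        exact commutator_mono (le_normalizer_iff_commutator_le_left.1 (le_normalizer_inf
          (inf_le_left.trans (hTH.trans h.HV)) (le_normalizer_of_le inf_le_right))) le_rfl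
    have h2 := thompson_AxB (hYp.to_le hY0) hVp
      (fun hd => hTr (hd.trans (card_dvd_of_le (hP.trans inf_le_left)))) (hY0.trans hYV)
      (hP.trans (inf_le_left.trans (hTH.trans h.HV)))
      (le_centralizer_symm (hP.trans inf_le_right)) (le_centralizer_symm h1)
    rw [← commutator_eq_bot_iff_le_centralizer, eq_bot_iff, ← h.faith]
    exact le_inf (hP.trans (inf_le_left.trans hTH)) (le_centralizer_symm h2)
  exfalso
  have hlt : Y0 < Y := lt_of_le_of_ne hY0 fun e => by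
    rw [e, relIndex_self] at hi
    exact hr.out.one_lt.ne hi
  have hle : V ⊓ C[Y] ≤ V ⊓ C[Y0] := inf_le_inf_left _ (centralizer_mono hY0)
  have h1 : r * Nat.card ↥(V ⊓ C[Y]) ≤ Nat.card ↥(V ⊓ C[Y0]) := by
    rw [← relIndex_mul_card hle]
    refine Nat.mul_le_mul_right _ ?_
    obtain ⟨k, hk⟩ := IsPGroup.iff_card.1 (hVp.to_le (inf_le_left : V ⊓ C[Y0] ≤ V))
    obtain ⟨j, -, hj⟩ := (Nat.dvd_prime_pow hr.out).1
      (hk ▸ Dvd.intro _ (relIndex_mul_card hle))
    rcases j with _ | j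
    · exact absurd ((relIndex_eq_one.1 hj).trans inf_le_right) hU
    · rw [hj]; exact Nat.le_self_pow (Nat.succ_ne_zero j) r
  have h0 : Y0 = ⊥ := ih Y0 hlt (hY0.trans hY) (elemAb_mono hea hY0) (hoff.trans (by
    rw [← hc0]
    calc r * (r * Nat.card Y0) * Nat.card ↥(V ⊓ C[Y])
        = r * Nat.card Y0 * (r * Nat.card ↥(V ⊓ C[Y])) := by ring
      _ ≤ _ := Nat.mul_le_mul_left _ h1))
  rw [h0, card_bot, mul_one] at hc0
  obtain ⟨⟨y, hy⟩, hy1⟩ := ne_bot_iff_exists_ne_one.1 hne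
  have hz := h.elt (hY hy) (hoff.trans (by
    rw [← hc0, sq]
    exact Nat.mul_le_mul_left _ (card_le_of_le
      (inf_le_inf_left _ (centralizer_mono (zpowers_le.2 hy))))))
  exact hy1 (Subtype.ext (zpowers_eq_bot.1 hz))

end OffF

/-- passing to the faithful situation -/
theorem off_faithful (h : OffH p r A H B) (hV : IsElementaryAbelian r V) (AV : A ≤ N[V])
    (HV : H ≤ N[V]) (core : ∀ R ≤ H, H ≤ N[R] → (∀ x ∈ R, ∃ j : ℕ, x ^ r ^ j ∈ C[V]) → R ≤ C[V]) :
    (∀ y ∈ B, Nat.card V ≤ r ^ 2 * Nat.card ↥(V ⊓ C[zpowers y]) → y ∈ C[V]) ∧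
    ∀ Y ≤ B, IsElementaryAbelian r Y → Nat.card V * Nat.card ↥(Y ⊓ C[V]) ≤
      r * Nat.card Y * Nat.card ↥(V ⊓ C[Y]) → Y ≤ C[V] := by
  obtain ⟨Γ, _, _, ⟨ho⟩⟩ := Quad.exists_holo (V.subgroupOf N[V])
  let hat : Subgroup G → Subgroup Γ := fun X => (X.subgroupOf N[V]).map ho.θ
  have hker : ∀ x : N[V], ho.θ x = 1 ↔ (x : G) ∈ C[V] := fun x => by
    rw [← MonoidHom.mem_ker, ho.ker, mem_centralizer_iff, mem_centralizer_iff]
    exact ⟨fun hx v hv => congrArg Subtype.val (hx ⟨v, le_normalizer hv⟩ hv),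
      fun hx v hv => Subtype.ext (hx v hv)⟩
  have hnorm : ∀ X Y : Subgroup G, Y ≤ N[V] → X ≤ N[Y] → hat X ≤ N[hat Y] := fun X Y hY hX =>
    (map_mono (subgroupOf_le_normalizer_subgroupOf hY hX)).trans (le_normalizer_map _)
  have hmono : ∀ X Y : Subgroup G, X ≤ Y → hat X ≤ hat Y := fun X Y hX =>
    map_mono (subgroupOf_mono _ hX)
  have hdvd : ∀ X : Subgroup G, Nat.card (hat X) ∣ Nat.card X := fun X =>
    (card_map_dvd _ _).trans (by rw [card_subgroupOf_eq_inf]; exact card_dvd_of_le inf_le_right)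
  have hpg : ∀ (q : ℕ) (X : Subgroup G), IsPGroup q X → IsPGroup q (hat X) := fun q X hX =>
    (hX.comap_subtype).map _
  have hbot : ∀ X ≤ N[V], hat X = ⊥ → X ≤ C[V] := fun X hX h0 x hx =>
    (hker ⟨x, hX hx⟩).1 (h0.le (mem_map_of_mem ho.θ (show (⟨x, hX hx⟩ : N[V]) ∈ _ from hx)))
  have hcV : Nat.card ho.ι.range = Nat.card V := by
    rw [MonoidHom.range_eq_map, card_map_of_injective ho.inj, card_top,
      card_subgroupOf_of_le le_normalizer]
  have hcC : ∀ X ≤ N[V], Nat.card ↥(ho.ι.range ⊓ C[hat X]) = Nat.card ↥(V ⊓ C[X]) := fun X hX => by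
    rw [ho.inf_centralizer, card_map_of_injective ho.inj, card_subgroupOf_of_le inf_le_left,
      ← card_subgroupOf_of_le (inf_le_left.trans le_normalizer : V ⊓ C[X] ≤ N[V])]
    congr 2
    ext v
    simp only [mem_inf, mem_subgroupOf, mem_centralizer_iff]
    exact and_congr_right fun _ => ⟨fun hv x hx => congrArg Subtype.val (hv ⟨x, hX hx⟩ hx),
      fun hv x hx => Subtype.ext (hv x hx)⟩
  have hcY : ∀ X ≤ N[V], Nat.card (hat X) * Nat.card ↥(X ⊓ C[V]) = Nat.card X := fun X hX => by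
    rw [← relIndex_ker, ← card_subgroupOf_of_le hX, ← relIndex_mul_card_inf ho.θ.ker,
      ← card_subgroupOf_of_le (inf_le_left.trans hX : X ⊓ C[V] ≤ N[V])]
    congr 3
    ext x
    simp only [mem_inf, mem_subgroupOf, MonoidHom.mem_ker, hker, and_comm]
  have hBH := h.syl.le
  have hact : CoprimeAct (A.subgroupOf N[V]) (H.subgroupOf N[V]) :=
    CoprimeAct.of_isPGroup h.hA.comap_subtype (by rw [card_subgroupOf_of_le HV]; exact h.nd)
      (subgroupOf_le_normalizer_subgroupOf HV h.AH)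
  have hF : OffF p r (hat A) (hat H) (hat B) ho.ι.range := by
    refine ⟨h.p2, h.pr, h.r23, hpg _ _ h.hA, isSolvable_map _ _ (by
      have := h.solv
      exact Group.isSolvable_of_surjective (f := (subgroupOfEquivOfLe HV).symm.toMonoidHom)
        (MulEquiv.surjective _)),
      fun hd => h.nd (hd.trans (hdvd H)), hnorm _ _ HV h.AH, hpg _ _ h.syl.isPGroup,
      hmono _ _ hBH, hnorm _ _ (hBH.trans HV) h.AB, ?_, ho.ea (Quad.ea_subgroupOf hV _),
      ho.map_le_normalizer _, ho.map_le_normalizer _, ho.faithful _, ?_⟩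
    · rw [hact.map_inf_centralizer']
      refine le_trans (map_mono fun x hx => ?_) (hnorm _ _ (hBH.trans HV) h.fix)
      exact ⟨hx.1, mem_centralizer_iff.2 fun a ha => congrArg Subtype.val
        (mem_centralizer_iff.1 hx.2 ⟨a, AV ha⟩ ha)⟩
    · set O := piCoreOf {r} (hat H) with hO
      have hR := core (H ⊓ (O.comap ho.θ).map N[V].subtype) inf_le_left
        (le_normalizer_inf le_normalizer (le_normalizer_of_subgroupOf HV (map_subtype_le _) (by
          rw [subgroupOf_map_subtype_eq]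
          exact fun x hx => le_normalizer_comap _
            (le_normalizer_piCoreOf _ _ (mem_map_of_mem ho.θ hx))))) (by
          rintro _ ⟨-, x, hx, rfl⟩
          obtain ⟨j, hj⟩ := isPGroup_piCoreOf_singleton r (hat H) ⟨_, hx⟩
          exact ⟨j, (hker (x ^ r ^ j)).1 (by rw [map_pow]; exact congrArg Subtype.val hj)⟩)
      rw [eq_bot_iff]
      intro y hy
      obtain ⟨x, hx, rfl⟩ := piCoreOf_le _ _ hy
      exact (hker x).2 (hR ⟨hx, x, hy, rfl⟩)
  refine ⟨fun y hy hs => ?_, fun Y hY hea hs => hbot Y (hY.trans (hBH.trans HV)) ?_⟩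
  · have hyV : zpowers y ≤ N[V] := zpowers_le.2 (HV (hBH hy))
    have e : hat (zpowers y) = zpowers (ho.θ ⟨y, HV (hBH hy)⟩) := by
      rw [← MonoidHom.map_zpowers]
      refine congrArg (Subgroup.map ho.θ) ?_
      ext x
      simp only [mem_subgroupOf, mem_zpowers_iff, Subtype.ext_iff, SubgroupClass.coe_zpow]
    refine hbot _ hyV ?_ (mem_zpowers y)
    rw [e]
    refine hF.elt (mem_map_of_mem _ hy) ?_
    rwa [← e, hcV, hcC _ hyV]
  · have hYV := hY.trans (hBH.trans HV)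
    refine hF.off (hmono _ _ hY) (Quad.ea_map _ (Quad.ea_subgroupOf hea _)) ?_
    rw [hcV, hcC _ hYV]
    rw [← hcY Y hYV] at hs
    refine Nat.le_of_mul_le_mul_right (hs.trans (le_of_eq ?_)) (Nat.card_pos (α := ↥(Y ⊓ C[V])))
    ring

omit [Finite G] hp hr in
theorem conj_le_offV {g : G} (hg : g ∈ H) : g •ᶜ omegaOne r (B ⊓ C[B]) ≤ offV r H B :=
  le_iSup (fun h : H => (h : G) •ᶜ omegaOne r (B ⊓ C[B])) ⟨g, hg⟩

theorem le_offV : omegaOne r (B ⊓ C[B]) ≤ offV r H B := by
  have := conj_le_offV (r := r) (B := B) (one_mem H)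
  rwa [map_conj_one] at this

theorem norm_offV {X : Subgroup G} (h1 : X ≤ N[H]) (h2 : X ≤ N[B]) : X ≤ N[offV r H B] := by
  refine le_normalizer_iff.2 fun x hx v hv => ?_
  have h3 : x •ᶜ offV r H B ≤ offV r H B := by
    rw [offV, Subgroup.map_iSup]
    refine iSup_le fun g => ?_
    have e := map_conj_eq_of_mem_normalizer (pg_le_normalizer_omegaOne (p := r)
      (le_normalizer_inf h2 (le_normalizer_centralizer h2)) hx)
    rw [← map_conj_mul, show x * g = x * g * x⁻¹ * x by group, map_conj_mul, e]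
    exact conj_le_offV (conj_mem_of_le_normalizer h1 hx g.2)
  exact h3 ⟨v, hv, rfl⟩

theorem self_norm_offV : H ≤ N[offV r H B] := by
  refine le_normalizer_iff.2 fun x hx v hv => ?_
  have h3 : x •ᶜ offV r H B ≤ offV r H B := by
    rw [offV, Subgroup.map_iSup]
    refine iSup_le fun g => ?_
    rw [← map_conj_mul]
    exact conj_le_offV (mul_mem hx g.2)
  exact h3 ⟨v, hv, rfl⟩

namespace OffH
variable (h : OffH p r A H B) (hO : piCoreOf {r}ᶜ H = ⊥)
include h hO

theorem offV_le : offV r H B ≤ omegaOne r (piCoreOf {r} H ⊓ C[piCoreOf {r} H]) := by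
  have hF : fittingOf H ≤ piCoreOf {r} H := fit_le_of_forall fun t _ _ => by
    by_cases htr : t = r
    · rw [htr]
    · exact (piCoreOf_mono (by simpa using Ne.symm htr) H).trans (hO.le.trans bot_le)
  have hc : B ⊓ C[B] ≤ C[piCoreOf {r} H] :=
    inf_le_right.trans (centralizer_mono (piCoreOf_le_isSylowIn h.syl))
  have h1 : omegaOne r (B ⊓ C[B]) ≤ omegaOne r (piCoreOf {r} H ⊓ C[piCoreOf {r} H]) :=
    pg_omegaOne_mono (le_inf ((le_inf (inf_le_left.trans h.syl.le)
      (hc.trans (centralizer_mono hF))).trans ((inf_centralizer_fit_le h.solv).trans hF)) hc)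
  exact iSup_le fun g => map_conj_le_of_mem_normalizer h1 (pg_le_normalizer_omegaOne
    (le_normalizer_inf (le_normalizer_piCoreOf _ _)
      (le_normalizer_centralizer (le_normalizer_piCoreOf _ _))) g.2)

theorem ea_offV : IsElementaryAbelian r (offV r H B) :=
  elemAb_mono (pg_isElementaryAbelian_omegaOne_of_comm (isMulCommutative_iff_le_centralizer.2
    (inf_le_right.trans (centralizer_mono inf_le_left)))) (h.offV_le hO)

theorem offV_le_B : offV r H B ≤ B :=
  (h.offV_le hO).trans (pg_omegaOne_le.trans (inf_le_left.trans (piCoreOf_le_isSylowIn h.syl)))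

omit hO in
theorem core_offV (R : Subgroup G) (hR : R ≤ H) (hn : H ≤ N[R])
    (hx : ∀ x ∈ R, ∃ j : ℕ, x ^ r ^ j ∈ C[offV r H B]) : R ≤ C[offV r H B] := by
  refine le_centralizer_symm (iSup_le fun g => le_centralizer_symm fun x hxR => ?_)
  have hS := (h.syl.conj_of_mem_normalizer (le_normalizer g.2)).inf_of_le_normalizer hR hn
  obtain ⟨c, hc, hcx⟩ := hS.exists_mul_of_pow_mem
    (hR.trans (le_normalizer_centralizer self_norm_offV)) hx x hxR
  rw [show x = c * (c⁻¹ * x) by group]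
  refine mul_mem (centralizer_mono (conj_le_offV g.2) hc) ?_
  rw [centralizer_map_conj]
  exact map_mono (le_centralizer_symm (pg_omegaOne_le.trans inf_le_right)) hcx.1

theorem off_both : (∀ y ∈ B, Nat.card (offV r H B) ≤
      r ^ 2 * Nat.card ↥(offV r H B ⊓ C[zpowers y]) → y ∈ C[offV r H B]) ∧
    ∀ Y ≤ B, IsElementaryAbelian r Y → Nat.card (offV r H B) * Nat.card ↥(Y ⊓ C[offV r H B]) ≤
      r * Nat.card Y * Nat.card ↥(offV r H B ⊓ C[Y]) → Y ≤ C[offV r H B] :=
  off_faithful h (h.ea_offV hO) (norm_offV h.AH h.AB) self_norm_offV h.core_offV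

/-- elements with `|[V, y]| ≤ r²` centralize `V` -/
theorem elt {y : G} (hy : y ∈ B)
    (hs : Nat.card ↥(⁅offV r H B, zpowers y⁆) ≤ r ^ 2) : y ∈ C[offV r H B] := by
  refine (h.off_both hO).1 y hy ?_
  rw [← Quad.card_commutator_zpowers_mul (h.ea_offV hO).1 (self_norm_offV (h.syl.le hy))]
  exact Nat.mul_le_mul_right _ hs

/-- `F+1`-offenders centralize `V` -/
theorem off {Y : Subgroup G} (hY : Y ≤ B) (hea : IsElementaryAbelian r Y)
    (hoff : Nat.card (offV r H B) * Nat.card ↥(Y ⊓ C[offV r H B]) ≤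
      r * Nat.card Y * Nat.card ↥(offV r H B ⊓ C[Y])) : Y ≤ C[offV r H B] :=
  (h.off_both hO).2 Y hY hea hoff

/-- elementary abelian subgroups of `B` of rank at least `m(B) - 1` centralize `V` -/
theorem off' {X Y : Subgroup G} (hX : X ∈ Quad.maxEAOf r B) (hY : Y ≤ B)
    (hea : IsElementaryAbelian r Y) (hc : Nat.card X ≤ r * Nat.card Y) : Y ≤ C[offV r H B] := by
  refine h.off hO hY hea ?_
  set V := offV r H B with hV
  have h1 : Nat.card ↥(Y ⊓ C[V] ⊔ V : Subgroup G) ≤ Nat.card X :=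
    hX.2.2 _ (sup_le (inf_le_left.trans hY) (h.offV_le_B hO))
      (elemAb_sup (elemAb_mono hea inf_le_left) (h.ea_offV hO) inf_le_right)
  have h2 := card_sup_mul_card_inf (X := Y ⊓ C[V]) (Y := V)
    (le_normalizer_of_le_centralizer inf_le_right)
  have h3 : Nat.card ↥(Y ⊓ C[V] ⊓ V : Subgroup G) ≤ Nat.card ↥(V ⊓ C[Y]) :=
    card_le_of_le (le_inf inf_le_right (inf_le_left.trans (inf_le_left.trans
      (isMulCommutative_iff_le_centralizer.1 hea.1))))
  rw [mul_comm, ← h2]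
  exact Nat.mul_le_mul (h1.trans hc) h3

theorem thompson_le : thompsonSubgroupOf r B ≤ C[offV r H B] :=
  Quad.thompsonOf_le_iff.2 fun _ hX =>
    h.off' hO hX hX.1 hX.2.1 (Nat.le_mul_of_pos_left _ hr.out.pos)

/-- Thompson factorization -/
theorem tf : H ≤ (H ⊓ C[omegaOne r (B ⊓ C[B])]) ⊔ (H ⊓ N[thompsonSubgroupOf r B]) := by
  have hn : H ≤ N[H ⊓ C[offV r H B]] :=
    le_normalizer_inf le_normalizer (le_normalizer_centralizer self_norm_offV)
  have hS := h.syl.inf_of_le_normalizer inf_le_left hn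
  refine (hS.le_sup_normalizer inf_le_left hn).trans (sup_le_sup
    (inf_le_inf_left _ (centralizer_mono le_offV)) (inf_le_inf_left _ ?_))
  rw [← Quad.thompsonOf_eq_of_le (le_inf (Quad.thompsonOf_le B) (le_inf
    ((Quad.thompsonOf_le B).trans h.syl.le) (h.thompson_le hO))) inf_le_left]
  exact Quad.normalizer_le_normalizer_thompsonOf _

end OffH

end Cfsg.Lib.FT
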