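import Cfsg.Agent.Lib.SF2.Off
import Cfsg.Agent.Lib.Signalizer.SFT.Bender
import Mathlib.GroupTheory.IsPerfect

/-!
# The subgroup `O_{r,r'}(M)` and the ZJ-theorem for solvable groups
-/

set_option autoImplicit false
set_option maxHeartbeats 400000

namespace Cfsg.Lib.FT
open Subgroup Cfsg.Lib
open scoped commutatorElement MatrixGroups

variable {G : Type*} [Group G] [Finite G] {r : ℕ} [hr : Fact r.Prime] {M X : Subgroup G}

theorem pp_pgZ_of_five (h5 : 5 ≤ r) {H T : Subgroup G} (hH : Group.IsSolvable H)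
    (hO : piCoreOf {r}ᶜ H = ⊥) (hT : IsSylowIn r T H) : H ≤ N[pgZ 0 T] := by
  refine pg_le_normalizer_pgZ_of_forall_sylow hT fun S => pgZ_normal_of_qd_free (by omega)
    (fun h => ?_) (centralizer_pCore_le_of_piCoreOf_eq_bot hH hO) S
  obtain ⟨K, φ, hφ⟩ := pg_hasSection_sl2_of_qd h
  have h2 : (2 : ZMod r) ≠ 0 := fun e => by
    have := (ZMod.natCast_eq_zero_iff 2 r).1 (by exact_mod_cast e)
    have := Nat.le_of_dvd two_pos this
    omega
  have h3 : (2 : ZMod r) ^ 2 ≠ 1 := fun e => by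
    have e' : ((3 : ℕ) : ZMod r) = 0 := by push_cast; linear_combination e
    have := Nat.le_of_dvd three_pos ((ZMod.natCast_eq_zero_iff 3 r).1 e')
    omega
  haveI : Group.IsPerfect SL(2, ZMod r) := ⟨Matrix.SL2.commutator_eq_top h2 h3⟩
  haveI : Nontrivial SL(2, ZMod r) := by
    refine ⟨⟨Matrix.SpecialLinearGroup.transvection (show (0 : Fin 2) ≠ 1 by decide) 1, 1,
      fun e => ?_⟩⟩
    have := congrArg (fun m : SL(2, ZMod r) => (m : Matrix (Fin 2) (Fin 2) (ZMod r)) 0 1) e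
    simp [Matrix.SpecialLinearGroup.transvection, Matrix.transvection] at this
  exact Group.IsPerfect.not_isSolvable SL(2, ZMod r) (solvable_of_surjective hφ)

/-- `O_{r,r'}(M)` -/
def ppR (r : ℕ) (M : Subgroup G) : Subgroup G :=
  secPre (piCoreOf {r} M) (piCoreOf {r}ᶜ (secIm (piCoreOf {r} M) M))

omit [Finite G] hr in
theorem le_ppR : piCoreOf {r} M ≤ ppR r M := le_secPre _

omit [Finite G] hr in
theorem secIm_ppR : secIm (piCoreOf {r} M) (ppR r M) = piCoreOf {r}ᶜ (secIm (piCoreOf {r} M) M) :=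
  secIm_secPre _

omit [Finite G] hr in
theorem ppR_le : ppR r M ≤ M := by
  have := (secIm_le_iff (secPre_le _) (le_normalizer_piCoreOf {r} M)).1
    (secIm_ppR.le.trans (piCoreOf_le _ _))
  rwa [sup_eq_left.2 (piCoreOf_le _ _)] at this

omit [Finite G] hr in
theorem norm_ppR (h : X ≤ N[M]) : X ≤ N[ppR r M] :=
  le_normalizer_secPre (le_normalizer_piCoreOf_of_le _ h) (le_normalizer_piCoreOf_of_le _
    (secIm_le_normalizer (le_normalizer_piCoreOf _ _) h))

omit [Finite G] hr in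
theorem pp_isPGroup_secIm {K : Subgroup G} (h : IsPGroup r X) : IsPGroup r (secIm K X) :=
  h.comap_subtype.map _

theorem le_of_le_ppR (hX : IsPGroup r X) (h : X ≤ ppR r M) : X ≤ piCoreOf {r} M := by
  rw [← secIm_eq_bot_iff (h.trans (secPre_le _))]
  exact (isPiSubgroup_singleton_iff.2 (pp_isPGroup_secIm hX)).eq_bot
    ((isPiSubgroup_piCoreOf _ _).of_le ((secIm_mono h).trans secIm_ppR.le))

theorem pp_act (hX : IsPGroup r X) (h : X ≤ M) :
    CoprimeAct (secIm (piCoreOf {r} M) X) (secIm (piCoreOf {r} M) (ppR r M)) := by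
  refine CoprimeAct.of_isPGroup (pp_isPGroup_secIm hX) ?_
    (secIm_le_normalizer (secPre_le _) (norm_ppR (h.trans le_normalizer)))
  rw [secIm_ppR]
  exact isPiSubgroup_compl_singleton_iff.1 (isPiSubgroup_piCoreOf _ _)

theorem le_of_cent_ppR (hM : Group.IsSolvable M) (hX : IsPGroup r X) (h : X ≤ M)
    (hc : secIm (piCoreOf {r} M) (ppR r M) ≤ C[secIm (piCoreOf {r} M) X]) : X ≤ piCoreOf {r} M := by
  have hn := le_normalizer_piCoreOf {r} M
  have h0 : piCoreOf ({r}ᶜ)ᶜ (secIm (piCoreOf {r} M) M) = ⊥ := by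
    rw [compl_compl, ← secIm_piCoreOf hn ((isPiSubgroup_piCoreOf _ _).inf_right _), secIm_self]
  have h1 := inf_centralizer_piCoreOf_le (isSolvable_secIm hM hn) h0
  rw [← secIm_ppR] at h1
  have h2 := (secIm_le_iff (h.trans hn) (secPre_le _)).1
    ((le_inf (secIm_mono h) (le_centralizer_iff.1 hc)).trans h1)
  rw [sup_eq_left.2 (le_secPre _)] at h2
  exact le_of_le_ppR hX h2

theorem le_of_comm_ppR (hM : Group.IsSolvable M) (hX : IsPGroup r X) (h : X ≤ M)
    (hc : ⁅⁅ppR r M, X⁆, X⁆ ≤ piCoreOf {r} M) : X ≤ piCoreOf {r} M := by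
  have hn := le_normalizer_piCoreOf {r} M
  have h1 : ⁅ppR r M, X⁆ ≤ M := (Quad.commutator_le_of_le_normalizer
    (norm_ppR (h.trans le_normalizer))).trans ppR_le
  refine le_of_cent_ppR hM hX h ((pp_act hX h).le_centralizer_of_commutator_le_centralizer ?_)
  rw [← commutator_eq_bot_iff_le_centralizer, ← secIm_commutator (ppR_le.trans hn) (h.trans hn),
    ← secIm_commutator (h1.trans hn) (h.trans hn), secIm_eq_bot_iff (hc.trans le_normalizer)]
  exact hc

theorem pp_dihedral (hM : Group.IsSolvable M) (hX : IsElementaryAbelian r X) (h : X ≤ M)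
    (hne : ¬ X ≤ piCoreOf {r} M) : ∃ X₀ ≤ X, Nat.card X ≤ r * Nat.card X₀ ∧ ∃ g ∈ ppR r M,
      g •ᶜ X₀ ≤ X₀ ⊔ piCoreOf {r} M ∧ ∃ x ∈ X, ⁅x, g⁆ ∉ piCoreOf {r} M := by
  set Q := piCoreOf {r} M with hQ
  have hn : M ≤ N[Q] := le_normalizer_piCoreOf {r} M
  have hXp := elemAb_isPGroup hX
  obtain ⟨Y, hY, hi, hc⟩ : ∃ Y ≤ secIm Q X, Y.relIndex (secIm Q X) = r ∧
      ¬ secIm Q (ppR r M) ⊓ C[Y] ≤ C[secIm Q X] := by
    by_contra hcon
    push_neg at hcon
    exact hne (le_of_cent_ppR hM hXp h ((pp_act hXp h).le_of_hyperplane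
      (elemAb_map (Quad.ea_subgroupOf hX _) _)
      (fun e => hne ((secIm_eq_bot_iff (h.trans hn)).1 e)) hcon))
  obtain ⟨g', hg', hgc⟩ := SetLike.not_le_iff_exists.1 hc
  obtain ⟨g, hg, rfl⟩ := mem_secIm.1 hg'.1
  refine ⟨X ⊓ secPre Q Y, inf_le_left, ?_, g, hg, ?_, ?_⟩
  · have e : (secPre Q Y).relIndex X = r := by
      rw [← relIndex_subgroupOf (h.trans hn), secPre, subgroupOf_map_subtype_eq, relIndex_comap]
      exact hi
    rw [card_eq_relIndex_mul (inf_le_left : X ⊓ secPre Q Y ≤ X), inf_relIndex_left, e]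
  · rintro _ ⟨y, hy, rfl⟩
    obtain ⟨hyn, hyY⟩ := mem_secPre.1 hy.2
    have e := hg'.2 _ hyY
    have h1 : ⁅(g : G), y⁆ ∈ Q := by
      have : secMk Q ⁅g, (⟨y, hyn⟩ : N[Q])⁆ = 1 := by
        rw [map_commutatorElement, commutatorElement_eq_one_iff_mul_comm, e]
      exact secMk_eq_one_iff.1 this
    have h2 : (MulAut.conj (g : G)).toMonoidHom y = ⁅(g : G), y⁆ * y := by
      simp [commutatorElement_def]
    rw [h2]
    exact mul_mem (mem_sup_right h1) (mem_sup_left hy)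
  · by_contra hcon
    push_neg at hcon
    refine hgc fun x' hx' => ?_
    obtain ⟨x, hx, rfl⟩ := mem_secIm.1 hx'
    rw [← commutatorElement_eq_one_iff_mul_comm, ← map_commutatorElement]
    exact secMk_eq_one_iff.2 (hcon x hx)

theorem pp_comm_mem {x g : G} (hx : x ∈ M) (hxr : x ^ r = 1) (hg : g ∈ ppR r M)
    (h : ⁅x, ⁅x, g⁆⁆ ∈ piCoreOf {r} M) : ⁅x, g⁆ ∈ piCoreOf {r} M := by
  set Q := piCoreOf {r} M with hQ
  have hn : M ≤ N[Q] := le_normalizer_piCoreOf {r} M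
  set a := secMk Q ⟨x, hn hx⟩ with ha
  set b := secMk Q ⟨g, hn (ppR_le hg)⟩ with hb
  have h1 : Commute ⁅a, b⁆ a := by
    have : secMk Q ⁅(⟨x, hn hx⟩ : N[Q]), ⁅(⟨x, hn hx⟩ : N[Q]), ⟨g, hn (ppR_le hg)⟩⁆⁆ = 1 :=
      secMk_eq_one_iff.2 h
    rw [map_commutatorElement, map_commutatorElement, commutatorElement_eq_one_iff_mul_comm] at this
    exact this.symm
  have key : ∀ n : ℕ, ⁅a ^ n, b⁆ = ⁅a, b⁆ ^ n := by
    intro n
    induction n with
    | zero => simp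
    | succ n ih =>
      have : ⁅a ^ (n + 1), b⁆ = a * ⁅a ^ n, b⁆ * a⁻¹ * ⁅a, b⁆ := by
        simp only [commutatorElement_def, pow_succ']; group
      rw [this, ih, ← (h1.pow_left n).eq, pow_succ]; group
  have h2 : a ^ r = 1 := by
    rw [ha, ← map_pow, show (⟨x, hn hx⟩ : N[Q]) ^ r = 1 from Subtype.ext hxr, map_one]
  have h3 : ⁅a, b⁆ ^ r = 1 := by rw [← key, h2]; simp
  have hm : ⁅x, g⁆ ∈ ppR r M := le_normalizer_iff_commutator_le_right.1
    (norm_ppR (le_normalizer (H := M))) (commutator_mem_commutator hx hg)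
  have h4 : ⁅a, b⁆ ∈ piCoreOf {r}ᶜ (secIm Q M) := by
    rw [← secIm_ppR, ha, hb, ← map_commutatorElement]
    exact secMk_mem_secIm hm
  have h5 : ⁅a, b⁆ = 1 := (isPiSubgroup_piCoreOf _ _).eq_one h4 (by
    rw [compl_compl]
    exact ((PiNat.prime_iff (π := {r}) hr.out).2 rfl).of_dvd (orderOf_dvd_of_pow_eq_one h3))
  rw [ha, hb, ← map_commutatorElement] at h5
  exact secMk_eq_one_iff.1 h5

theorem pp_char_of_le (hM : Group.IsSolvable M) (hO : piCoreOf {r}ᶜ M = ⊥) {L : Subgroup G}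
    (hL : L ≤ M) (hn : piCoreOf {r} M ≤ N[L]) : piCoreOf {r}ᶜ L = ⊥ := by
  have hd := piCoreOf_inf_compl {r} M L
  have h1 := commutator_eq_bot_of_inf_eq_bot (le_normalizer_piCoreOf_of_le {r}ᶜ hn)
    (((piCoreOf_le _ _).trans hL).trans (le_normalizer_piCoreOf _ _)) hd
  rw [eq_bot_iff, ← hd]
  exact le_inf ((le_inf ((piCoreOf_le _ _).trans hL)
    (le_centralizer_of_commutator_eq_bot' h1)).trans (inf_centralizer_piCoreOf_le hM hO)) le_rfl

theorem pp_sylow {B E : Subgroup G} (hB : IsPGroup r B) (hn : B ≤ N[E])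
    (h : ∀ P ≤ E, IsPGroup r P → P ≤ B) : IsSylowIn r B (B ⊔ E) :=
  ⟨le_sup_left, hB, fun P hP hle hBP => by
    refine le_antisymm ?_ hBP
    rw [← inf_eq_right.2 hle, sup_inf_assoc_of_le_normalizer hn hBP]
    exact sup_le le_rfl (h _ inf_le_left (hP.to_le inf_le_right))⟩

theorem pp_le_of_normalizer {B Q : Subgroup G} (hB : IsPGroup r B) (hQ : IsPGroup r Q)
    (hn : B ≤ N[Q]) (h : Q ⊓ N[B] ≤ B) : Q ≤ B := by
  by_contra hne
  have hP : IsPGroup r ↥(B ⊔ Q) := IsPGroup.to_sup_of_normal_right' hB hQ hn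
  have hlt := lt_inf_normalizer (isNilpotent_of_isPGroup hP)
    (lt_of_le_of_ne (le_sup_left : B ≤ B ⊔ Q) fun e => hne (le_sup_right.trans e.ge))
  rw [sup_inf_assoc_of_le_normalizer hn le_normalizer] at hlt
  exact hlt.not_ge (sup_le le_rfl h)

end Cfsg.Lib.FT
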