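import Cfsg.Agent.Lib.SF2.PP1

/-!
# Pushing up in the family of a signalizer functor
-/

set_option autoImplicit false
set_option maxHeartbeats 400000

namespace Cfsg.Lib.FT
open Subgroup Cfsg.Lib
open scoped commutatorElement

variable {G : Type*} [Group G] [Finite G] {p r : ℕ} {A : Subgroup G} {θ : G → Subgroup G}
  [hp : Fact p.Prime] [hr : Fact r.Prime]

omit [Finite G] hp hr in
theorem pp_norm_Z {B X : Subgroup G} (h : X ≤ N[B]) : X ≤ N[omegaOne r (B ⊓ C[B])] :=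
  h.trans (Quad.normalizer_le_normalizer_omegaOne_center B)

omit [Finite G] hp hr in
theorem pp_norm_J {B X : Subgroup G} (h : X ≤ N[B]) : X ≤ N[thompsonSubgroupOf r B] :=
  h.trans (Quad.normalizer_le_normalizer_thompsonOf B)

omit [Finite G] hp hr in
theorem pp_Z_le {B : Subgroup G} : omegaOne r (B ⊓ C[B]) ≤ B :=
  (Quad.omegaOne_le _).trans inf_le_left

omit hp in
theorem pp_Z_ne {B : Subgroup G} (hB : IsPGroup r B) (h : B ≠ ⊥) : omegaOne r (B ⊓ C[B]) ≠ ⊥ :=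
  pg_omegaOne_ne_bot (hB.to_le inf_le_left) (pg_inf_centralizer_ne_bot hB hB le_normalizer h)

omit hp in
theorem pp_J_ne {B : Subgroup G} (hB : IsPGroup r B) (h : B ≠ ⊥) : thompsonSubgroupOf r B ≠ ⊥ :=
  Quad.thompsonOf_ne_bot (dvd_card_of_isPGroup_of_ne_bot hB h)

namespace SftHyp
variable (h : SftHyp p A θ)
include h

theorem core_ne {M : Subgroup G} (hM : SigMax p A θ M) (hO : piCoreOf {r}ᶜ M = ⊥) :
    piCoreOf {r} M ≠ ⊥ := by
  obtain ⟨s, hs, hs'⟩ := exists_piCoreOf_singleton_ne_bot (sigFam_solv hM.mem) (h.max_ne_bot hM)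
  by_cases hsq : s = r
  · exact hsq ▸ hs'
  · exact absurd (piCoreOf_eq_bot_of_compl_eq_bot hO hsq) hs'

theorem ne_char {M : Subgroup G} (hM : SigMax p A θ M) (hO : piCoreOf {r}ᶜ M = ⊥) : p ≠ r := by
  rintro rfl
  exact sigFam_not_dvd hM.mem ((dvd_card_of_isPGroup_of_ne_bot (isPGroup_piCoreOf_singleton p M)
    (h.core_ne hM hO)).trans (card_dvd_of_le (piCoreOf_le _ _)))

theorem offH (hp2 : p ≠ 2) (hpr : p ≠ r) (h23 : r = 2 ∨ r = 3) {H B : Subgroup G}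
    (hH : H ∈ signalizerFamily p A θ) (hB : IsSylowIn r B H) (hA : A ≤ N[B])
    (hC : signalizerInf A θ ≤ N[B]) : OffH p r A H B :=
  ⟨hp2, hpr, h23, elemAb_isPGroup h.elem, sigFam_solv hH, sigFam_not_dvd hH, sigFam_norm hH, hB,
    hA, (sigFam_inf_centralizer_le_sigInf hH le_rfl).trans hC⟩

omit h in
theorem tf_le {H B M : Subgroup G} (o : OffH p r A H B) (hH : H ∈ signalizerFamily p A θ)
    (hO : piCoreOf {r}ᶜ H = ⊥) (hZ : SigLoc p A θ (omegaOne r (B ⊓ C[B])) M)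
    (hJ : SigLoc p A θ (thompsonSubgroupOf r B) M) : H ≤ M :=
  (o.tf hO).trans (sup_le
    (hZ.le_of_le_centralizer (sigFam_inf_C hH (pp_norm_Z o.AB)) inf_le_right)
    (hJ _ (sigFam_inf_N hH (pp_norm_J o.AB)) inf_le_right))

/-- the group `B O_{r,r'}(M)` -/
theorem offR (hp2 : p ≠ 2) (h23 : r = 2 ∨ r = 3) {M B : Subgroup G} (hM : SigMax p A θ M)
    (hO : piCoreOf {r}ᶜ M = ⊥) (hB : IsPGroup r B) (hBM : B ≤ M) (hQ : piCoreOf {r} M ≤ B)
    (hA : A ≤ N[B]) (hC : signalizerInf A θ ≤ N[B]) :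
    OffH p r A (B ⊔ ppR r M) B ∧ piCoreOf {r}ᶜ (B ⊔ ppR r M) = ⊥ :=
  ⟨h.offH hp2 (h.ne_char hM hO) h23 (sigFam_mono hM.mem (sup_le hBM ppR_le)
      (le_normalizer_sup hA (norm_ppR (sigFam_norm hM.mem))))
      (pp_sylow hB (norm_ppR (hBM.trans le_normalizer))
        fun _ hP hP' => (le_of_le_ppR hP' hP).trans hQ) hA hC,
    pp_char_of_le (sigFam_solv hM.mem) hO (sup_le hBM ppR_le)
      (le_normalizer_of_le (hQ.trans le_sup_left))⟩

theorem pp_final (hp2 : p ≠ 2) (h23 : r = 2 ∨ r = 3) {M₁ M₂ B : Subgroup G}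
    (h₁ : SigMax p A θ M₁) (h₂ : SigMax p A θ M₂) (hne : M₁ ≠ M₂)
    (o₁ : piCoreOf {r}ᶜ M₁ = ⊥) (o₂ : piCoreOf {r}ᶜ M₂ = ⊥)
    (c₁ : signalizerInf A θ ≤ M₁) (c₂ : signalizerInf A θ ≤ M₂)
    (hB : IsPGroup r B) (b₁ : B ≤ M₁) (b₂ : B ≤ M₂) (hI : M₁ ⊓ M₂ ≤ N[B]) (hA : A ≤ N[B])
    (q₁ : piCoreOf {r} M₁ ≤ B) (q₂ : piCoreOf {r} M₂ ≤ B)
    (hJ : SigLoc p A θ (thompsonSubgroupOf r B) M₁)
    (hZ : SigLoc p A θ (omegaOne r (B ⊓ C[B])) M₂) : False := by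
  set Q₁ := piCoreOf {r} M₁ with hQ₁
  set Q₂ := piCoreOf {r} M₂ with hQ₂
  have n₁ : M₁ ≤ N[Q₁] := le_normalizer_piCoreOf _ _
  have n₂ : M₂ ≤ N[Q₂] := le_normalizer_piCoreOf _ _
  have a₁ := sigFam_norm h₁.mem
  have a₂ := sigFam_norm h₂.mem
  have s₁ := sigFam_solv h₁.mem
  have s₂ := sigFam_solv h₂.mem
  have p₁ : IsPGroup r Q₁ := isPGroup_piCoreOf_singleton r M₁
  have p₂ : IsPGroup r Q₂ := isPGroup_piCoreOf_singleton r M₂
  obtain ⟨o, hO⟩ := h.offR hp2 h23 h₁ o₁ hB b₁ q₁ hA ((le_inf c₁ c₂).trans hI)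
  set V := offV r (B ⊔ ppR r M₁) B with hV
  have hVe : IsElementaryAbelian r V := o.ea_offV hO
  have hVB : V ≤ B := o.offV_le_B hO
  have hHV : B ⊔ ppR r M₁ ≤ N[V] := self_norm_offV
  have hBV : B ≤ N[V] := le_sup_left.trans hHV
  -- `C_B(V) ≤ Q₁`
  have PL : B ⊓ C[V] ≤ Q₁ := by
    refine le_of_comm_ppR s₁ (hB.to_le inf_le_left) (inf_le_left.trans b₁) ?_
    have hXR : B ⊓ C[V] ≤ N[ppR r M₁] := norm_ppR ((inf_le_left.trans b₁).trans le_normalizer)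
    have e1 : ⁅ppR r M₁, B ⊓ C[V]⁆ ≤ ppR r M₁ ⊓ C[V] :=
      le_inf (Quad.commutator_le_of_le_normalizer hXR) ((commutator_mono le_rfl inf_le_right).trans
        (le_normalizer_iff_commutator_le_right.1
          (le_normalizer_centralizer (le_sup_right.trans hHV))))
    have e2 : ppR r M₁ ⊓ C[V] ≤ N[B] := by
      refine le_trans (le_inf (inf_le_left.trans ppR_le) ?_) hI
      refine le_trans ?_ (hZ.le_of_le_centralizer (sigFam_inf_C h₁.mem (pp_norm_Z hA)) inf_le_right)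
      exact inf_le_inf ppR_le (centralizer_mono le_offV)
    refine (commutator_mono e1 le_rfl).trans (le_of_le_ppR (hB.to_le ?_) ?_)
    · exact (commutator_mono le_rfl inf_le_left).trans (le_normalizer_iff_commutator_le_right.1 e2)
    · exact (commutator_mono inf_le_left le_rfl).trans (Quad.commutator_le_of_le_normalizer hXR)
  -- `J ≰ Q₂`
  obtain ⟨X, hX, hXQ⟩ : ∃ X ∈ Quad.maxEAOf r B, ¬ X ≤ Q₂ := by
    by_contra hcon
    push_neg at hcon
    have e := Quad.thompsonOf_eq_of_le (Quad.thompsonOf_le_iff.2 hcon) q₂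
    refine hne (h₂.max M₁ h₁.mem (hJ M₂ h₂.mem ?_))
    rw [← e]
    exact pp_norm_J n₂
  have hXV : X ≤ C[V] := (Quad.le_thompsonOf hX).trans (o.thompson_le hO)
  obtain ⟨X₀, hX₀, hc, g, hg, hgX, x, hx, hxg⟩ := pp_dihedral s₂ hX.2.1 (hX.1.trans b₂) hXQ
  set Y := g •ᶜ X₀ with hY
  have hYB : Y ≤ B := hgX.trans (sup_le (hX₀.trans hX.1) q₂)
  have hYe : IsElementaryAbelian r Y := elemAb_map (elemAb_mono hX.2.1 hX₀) _
  have hYc : Nat.card Y = Nat.card X₀ := card_map_conj _ _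
  have hYV : Y ≤ C[V] := o.off' hO hX hYB hYe (hYc ▸ hc)
  have hU : Nat.card V ≤ r * Nat.card ↥(V ⊓ Y) := by
    have e1 := hX.2.2 (V ⊔ Y) (sup_le hVB hYB)
      (Quad.ea_sup hVe hYe (le_centralizer_iff.1 hYV))
    have e2 := Quad.card_mul_card_le_card_sup_mul_card_inf V Y
    have e3 : Nat.card V * Nat.card Y ≤ r * Nat.card ↥(V ⊓ Y) * Nat.card Y := by
      calc Nat.card V * Nat.card Y ≤ Nat.card ↥(V ⊔ Y) * Nat.card ↥(V ⊓ Y) := e2
        _ ≤ r * Nat.card Y * Nat.card ↥(V ⊓ Y) :=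
            Nat.mul_le_mul_right _ (e1.trans (hYc ▸ hc))
        _ = r * Nat.card ↥(V ⊓ Y) * Nat.card Y := by ring
    exact Nat.le_of_mul_le_mul_right e3 Nat.card_pos
  set e := ⁅x, g⁆ with he
  have hxM : x ∈ M₂ := b₂ (hX.1 hx)
  have heR : e ∈ ppR r M₂ := le_normalizer_iff_commutator_le_right.1
    (norm_ppR (le_normalizer (H := M₂))) (commutator_mem_commutator hxM hg)
  have heU : e ∈ C[V ⊓ Y] := by
    have : e = x * (g * x⁻¹ * g⁻¹) := by rw [he, commutatorElement_def]; group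
    rw [this]
    refine mul_mem (centralizer_mono inf_le_left (hXV hx)) (centralizer_mono inf_le_right ?_)
    rw [hY, centralizer_map_conj]
    exact ⟨x⁻¹, centralizer_mono hX₀ (Quad.ea_le_centralizer hX.2.1 (inv_mem hx)), rfl⟩
  set D := Q₁ ⊓ Q₂ with hD
  have heq : ∀ q ∈ Q₂, ⁅e, q⁆ ∈ D := by
    intro q hq
    have m2 : ⁅e, q⁆ ∈ Q₂ := le_normalizer_iff_commutator_le_right.1 n₂
      (commutator_mem_commutator (ppR_le heR) hq)
    refine ⟨PL ⟨q₂ m2, (o.off_both hO).1 _ (q₂ m2) ?_⟩, m2⟩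
    have hqV : q ∈ N[V] := hBV (q₂ hq)
    have e1 : (V ⊓ Y) ⊓ q •ᶜ (V ⊓ Y) ≤ V ⊓ C[zpowers ⁅e, q⁆] := by
      refine le_inf (inf_le_left.trans inf_le_left) (le_centralizer_iff.1 (zpowers_le_of_mem ?_))
      have : ⁅e, q⁆ = e * (q * e⁻¹ * q⁻¹) := by rw [commutatorElement_def]; group
      rw [this]
      refine mul_mem (centralizer_mono inf_le_left heU) (centralizer_mono inf_le_right ?_)
      rw [centralizer_map_conj]
      exact ⟨e⁻¹, inv_mem heU, rfl⟩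
    have e2 := Quad.card_mul_card_le_card_sup_mul_card_inf (V ⊓ Y) (q •ᶜ (V ⊓ Y))
    rw [card_map_conj] at e2
    have e3 : Nat.card ↥(V ⊓ Y ⊔ q •ᶜ (V ⊓ Y)) ≤ Nat.card V :=
      card_le_of_le (sup_le inf_le_left (map_conj_le_of_mem_normalizer inf_le_left hqV))
    have e4 := e2.trans (Nat.mul_le_mul e3 (card_le_of_le e1))
    have e5 : Nat.card V * Nat.card V ≤
        Nat.card V * (r ^ 2 * Nat.card ↥(V ⊓ C[zpowers ⁅e, q⁆])) := by
      calc Nat.card V * Nat.card V ≤ (r * Nat.card ↥(V ⊓ Y)) * (r * Nat.card ↥(V ⊓ Y)) :=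
            Nat.mul_le_mul hU hU
        _ = r ^ 2 * (Nat.card ↥(V ⊓ Y) * Nat.card ↥(V ⊓ Y)) := by ring
        _ ≤ r ^ 2 * (Nat.card V * Nat.card ↥(V ⊓ C[zpowers ⁅e, q⁆])) := Nat.mul_le_mul_left _ e4
        _ = _ := by ring
    exact Nat.le_of_mul_le_mul_left e5 Nat.card_pos
  set K := ppR r M₂ ⊓ commInto D Q₂ with hK
  have heK : e ∈ K := ⟨heR, mem_normalizer_fintype fun n hn => by
    have : e * n * e⁻¹ = ⁅e, n⁆ * n := by rw [commutatorElement_def]; group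
    rw [this]
    exact mul_mem (heq n hn.2) hn, heq⟩
  have hKM : K ≤ M₂ := inf_le_left.trans ppR_le
  have hKD : K ≤ N[D] := (le_commInto_iff.1 (inf_le_right : K ≤ commInto D Q₂)).1
  have hKQ : ⁅K, Q₂⁆ ≤ D := (le_commInto_iff.1 (inf_le_right : K ≤ commInto D Q₂)).2
  have hnK : ∀ T : Subgroup G, T ≤ N[M₁] → T ≤ N[M₂] → T ≤ N[D] ∧ T ≤ N[K] := fun T t₁ t₂ =>
    have hd := le_normalizer_inf (le_normalizer_piCoreOf_of_le {r} t₁)
      (le_normalizer_piCoreOf_of_le {r} t₂)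
    ⟨hd, le_normalizer_inf (norm_ppR t₂)
      (ml_norm_commInto hd (le_normalizer_piCoreOf_of_le {r} t₂))⟩
  have hsyl : IsSylowIn r (K ⊓ Q₂) K := ⟨inf_le_left, p₂.to_le inf_le_right,
    fun P hP hle hle' => le_antisymm (le_inf hle (le_of_le_ppR hP (hle.trans inf_le_left))) hle'⟩
  have hhall := isPiHallOf_singleton_iff.2 hsyl
  have hKn : K ≤ N[K ⊓ Q₂] := le_normalizer_inf le_normalizer (hKM.trans n₂)
  obtain ⟨W, hW⟩ := exists_isComplIn_of_isPiHallOf hhall hKn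
  have hWh : IsPiHallOf {r}ᶜ W K := hW.symm.isPiHallOf_compl hhall
  have hWK : W ≤ K := hW.le_left
  set E := D ⊔ W with hE
  have hWD : W ≤ N[D] := hWK.trans hKD
  have hQE : Q₂ ≤ N[E] := by
    rw [le_normalizer_iff]
    intro q hq y hy
    obtain ⟨d, hd, w, hw, rfl⟩ := (mem_sup_of_le_normalizer hWD).1 hy
    have : q * (d * w) * q⁻¹ = (q * d * q⁻¹) * ⁅w, q⁆⁻¹ * w := by
      rw [commutatorElement_def]; group
    rw [this]
    exact mul_mem (mem_sup_left (mul_mem (conj_mem_of_le_normalizer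
      (hnK Q₂ ((q₂.trans b₁).trans le_normalizer) ((q₂.trans b₂).trans le_normalizer)).1 hq hd)
      (inv_mem (hKQ (commutator_mem_commutator (hWK hw) hq))))) (mem_sup_right hw)
  have hKE : K ≤ N[E] := hW.le_of_le (le_normalizer_of_le le_sup_right) (inf_le_right.trans hQE)
  have hnE : ∀ T : Subgroup G, T ≤ N[M₁] → T ≤ N[M₂] → T ≤ N[E] := by
    intro T t₁ t₂ a ha
    obtain ⟨d, k⟩ := hnK T t₁ t₂
    obtain ⟨c, hc, e1⟩ := hWh.exists_conj (isSolvable_of_le hKM s₂)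
      (hWh.conj_of_mem_normalizer (k ha))
    refine mem_normalizer_of_map_conj_eq ?_
    rw [← map_conj_eq_of_mem_normalizer (hKE hc), hE, map_conj_eq_of_mem_normalizer (hKE hc)]
    conv_rhs => rw [← map_conj_eq_of_mem_normalizer (hKE hc)]
    rw [hE, Subgroup.map_sup, Subgroup.map_sup, e1, map_conj_eq_of_mem_normalizer (d ha),
      map_conj_eq_of_mem_normalizer (hKD hc)]
  have hER : E ≤ ppR r M₂ := sup_le (inf_le_right.trans le_ppR) (hWK.trans inf_le_left)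
  have hLM : Q₁ ⊔ E ≤ M₂ := sup_le (q₁.trans b₂) (hER.trans ppR_le)
  have hAQ : A ≤ N[Q₁] := le_normalizer_piCoreOf_of_le _ a₁
  have hL : Q₁ ⊔ E ∈ signalizerFamily p A θ :=
    sigFam_mono h₂.mem hLM (le_normalizer_sup hAQ (hnE A a₁ a₂))
  have hLs : IsSylowIn r Q₁ (Q₁ ⊔ E) := by
    refine pp_sylow p₁ (hnE Q₁ ((q₁.trans b₁).trans le_normalizer)
      ((q₁.trans b₂).trans le_normalizer)) fun P hP hP' => ?_
    refine (le_inf hP (le_of_le_ppR hP' (hP.trans hER))).trans ?_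
    rw [hE, sup_inf_assoc_of_le_normalizer' hWD inf_le_right,
      hWh.isPi.inf_eq_bot (by rw [compl_compl]; exact isPiSubgroup_piCoreOf _ _), sup_bot_eq]
    exact inf_le_left
  have hLO : piCoreOf {r}ᶜ (Q₁ ⊔ E) = ⊥ := pp_char_of_le s₂ o₂ hLM
    (le_normalizer_sup ((q₂.trans b₁).trans n₁) hQE)
  have hQ0 := h.core_ne h₁ o₁
  have hQm := sigFam_piCoreOf h₁.mem {r}
  have hL1 : Q₁ ⊔ E ≤ M₁ := tf_le (h.offH hp2 (h.ne_char h₁ o₁) h23 hL hLs hAQ (c₁.trans n₁))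
    hL hLO
    (h.loc_of_max h₁ (sigFam_mono hQm pp_Z_le (pp_norm_Z hAQ)) (pp_Z_ne p₁ hQ0) (pp_norm_Z n₁))
    (h.loc_of_max h₁ (sigFam_mono hQm (Quad.thompsonOf_le _) (pp_norm_J hAQ)) (pp_J_ne p₁ hQ0)
      (pp_norm_J n₁))
  have hKB : K ≤ N[B] := hW.le_of_le
    ((le_inf (le_sup_right.trans (le_sup_right.trans hL1)) (hWK.trans hKM)).trans hI)
    (le_normalizer_of_le (inf_le_right.trans q₂))
  refine hxg (pp_comm_mem hxM (hX.2.1.2 x hx) hg ?_)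
  refine le_of_le_ppR (hB.to_le (inf_le_left : B ⊓ ppR r M₂ ≤ B)) inf_le_right ⟨?_, ?_⟩
  · exact Quad.commutator_le_of_le_normalizer hKB (commutator_mem_commutator (hX.1 hx) heK)
  · exact le_normalizer_iff_commutator_le_right.1 (norm_ppR (le_normalizer (H := M₂)))
      (commutator_mem_commutator hxM heR)

end SftHyp

end Cfsg.Lib.FT
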